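import Cfsg.Agent.H15.Degree.Squares
import Cfsg.Agent.H25.GaloisExtend
import Cfsg.Agent.H25.Galois

/-!
Degrees below `p - 1` (helper15): at least three classes of elements of order `p`.
-/

set_option autoImplicit false
set_option linter.style.haveILetI false
set_option linter.unusedSectionVars false

open Cfsg
open scoped ComplexConjugate

namespace H15.Degree

open H85.D1 H15.HalfDeg

universe u

variable {G : Type u} [Group G] [Fintype G] {p : ℕ} [hp : Fact p.Prime]
  {P : Sylow p G} {u a : G} {H : Subgroup G} [Fintype H] [Fintype (P : Subgroup G)]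
  {D : Setting P u a H} [Fintype (D.aut (H12.oneIrr H))] {f n t : ℕ}
  {χ : IrrCharacter G} {θ : IrrCharacter H} {ψ : (P : Subgroup G) →* ℂˣ}

local notation "NP" => Subgroup.normalizer ((P : Subgroup G) : Set G)
local notation "CP" => Subgroup.centralizer ((P : Subgroup G) : Set G)

variable (h : Neg D f n χ θ ψ) (hft : f * t + 1 = p) (ht : 3 ≤ t)
include h hft ht

variable {M : Ideal AlgInt} [M.IsPrime] (hM : IsPModular p M)
include hM

/-- The two squares of `χ` give conditions on one row. -/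
theorem wedge_data {φ : IrrCharacter H} (hφ : ∀ k : H, (φ : H → ℂ) k = (θ : H → ℂ) k ^ 2)
    (Φ : Fam D f t ψ φ) :
    (Odd f → ∃ (kL kS : ZMod p → ℕ) (zL zS : ℤ),
      (∀ C ∈ lab (p := p) t, 2 * Φ.δ * (kL C : ℤ) =
        (cyc f (-1 : ZMod p) C : ℤ) + (if C = 2 ^ f then 1 else 0) + zL) ∧
      (∀ C ∈ lab (p := p) t, 2 * Φ.δ * (kS C : ℤ) =
        (cyc f (-1 : ZMod p) C : ℤ) - (if C = 2 ^ f then 1 else 0) + zS) ∧
      2 * ∑ C ∈ lab (p := p) t, kL C + 2 ≤ t ∧ 2 * ∑ C ∈ lab (p := p) t, kS C ≤ t) ∧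
    (Even f → ∃ (s : ℤ) (z : ℤ), (s = 1 ∨ s = -1) ∧ ∀ C ∈ lab (p := p) t,
      (cyc f (1 : ZMod p) C : ℤ) + s * (if C = 2 ^ f then 1 else 0) = z) := by
  classical
  haveI : Fintype ↥(Subgroup.normalizer ((P : Subgroup G) : Set G)) := Fintype.ofFinite _
  obtain ⟨l, hl, hlC⟩ := h.exists_lam hft hM
  have hlC2 : ∀ (x : (P : Subgroup G)) (k : H),
      ((l * l) ⟨(x : G) * k, Subgroup.centralizer_le_normalizer _ (mem_CP_mul D x k)⟩ : ℂ) =
        (φ : H → ℂ) k := fun x k => by
    rw [MonoidHom.mul_apply, Units.val_mul, hlC, hφ, pow_two]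
  obtain ⟨μ, hμC, hμY⟩ := Fam.exists_common h hft Φ (two_f_lt h hft ht) (l * l) hlC2
  obtain ⟨hn, h3, hf2⟩ := mul_t_bounds h hft ht
  have hnC : (n : ℂ) = (f : ℂ) * t + 1 - f := by
    rw [eq_sub_iff_add_eq]; exact_mod_cast hn
  have hpC : (p : ℂ) = (f : ℂ) * t + 1 := by exact_mod_cast hft.symm
  have hH0 : (Nat.card H : ℂ) ≠ 0 := Nat.cast_ne_zero.2 Nat.card_pos.ne'
  have hf0 : (f : ℂ) ≠ 0 := Nat.cast_ne_zero.2 (by omega)
  have hp0 : (p : ℂ) ≠ 0 := Nat.cast_ne_zero.2 hp.out.ne_zero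
  set Λ : G → ℂ := fun g => ((χ : G → ℂ) g * (χ : G → ℂ) g - (χ : G → ℂ) (g * g)) / 2 with hΛ
  set S : G → ℂ := fun g => ((χ : G → ℂ) g * (χ : G → ℂ) g + (χ : G → ℂ) (g * g)) / 2 with hS
  have hΛc : IsCharacter G Λ := H18.isCharacter_wedge (H12.isCharacter_irr χ)
  have hSc : IsCharacter G S := isCharacter_symSq (H12.isCharacter_irr χ)
  have hΛk : ∀ (x : G) (k : H), Λ (x * k) = Λ x * (φ : H → ℂ) k := fun x k => by
    obtain ⟨e1, e2⟩ := square_central h hft hM x k
    simp only [hΛ, e1, e2, hφ]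
    ring
  have hSk : ∀ (x : G) (k : H), S (x * k) = S x * (φ : H → ℂ) k := fun x k => by
    obtain ⟨e1, e2⟩ := square_central h hft hM x k
    simp only [hS, e1, e2, hφ]
    ring
  have hφn : ∀ k : H, (φ : H → ℂ) k * conj ((φ : H → ℂ) k) = 1 := fun k => by
    rw [Complex.mul_conj, Complex.normSq_eq_norm_sq, norm_lin D h.central_le φ k, one_pow,
      Complex.ofReal_one]
  set σ : ZMod p := (-1) ^ f with hσdef
  have hσ : σ ∈ lab t := sgn_mem_lab hft
  have h2 : σ * 1 = σ := mul_one σ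
  have hsq : ∀ x : (P : Subgroup G), x ≠ 1 → (χ : G → ℂ) x * (χ : G → ℂ) x =
      (if σ = 1 then (f : ℂ) else 0) + ∑ C ∈ lab (p := p) t, (cyc f σ C : ℂ) * per ψ f C x := by
    intro x hx
    rw [h.val_per hft x hx, neg_mul_neg, per_one_mul D.hP h.psi_ne hft 1 (one_mem_lab hft), ← hσdef,
      h2]
  have hxx : ∀ x : (P : Subgroup G), x ≠ 1 → (χ : G → ℂ) ((x : G) * x) =
      -∑ C ∈ lab (p := p) t, ((if C = (2 : ZMod p) ^ f then 1 else 0 : ℤ) : ℂ) * per ψ f C x := by
    intro x hx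
    rw [← per_two h hft x, ← h.val_per hft (x * x) (sq_ne_one h hft x hx), Subgroup.coe_mul]
  obtain ⟨kL, zL, hkL, hzL⟩ := Fam.exists_mult_half h hft Φ hΛc (if σ = 1 then (f : ℂ) / 2 else 0)
    (fun C => (cyc f σ C : ℤ) + (if C = (2 : ZMod p) ^ f then 1 else 0)) fun x hx k => by
      rw [hΛk]
      simp only [hΛ, hsq x hx, hxx x hx, Int.cast_add, Int.cast_natCast, add_mul,
        Finset.sum_add_distrib]
      split_ifs <;> ring
  obtain ⟨kS, zS, hkS, hzS⟩ := Fam.exists_mult_half h hft Φ hSc (if σ = 1 then (f : ℂ) / 2 else 0)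
    (fun C => (cyc f σ C : ℤ) - (if C = (2 : ZMod p) ^ f then 1 else 0)) fun x hx k => by
      rw [hSk]
      simp only [hS, hsq x hx, hxx x hx, Int.cast_sub, Int.cast_natCast, sub_mul,
        Finset.sum_sub_distrib]
      split_ifs <;> ring
  obtain ⟨WL, hWL⟩ := wt_nat (P := P) hΛc μ
  obtain ⟨WS, hWS⟩ := wt_nat (P := P) hSc μ
  have hbound : ∀ (F : G → ℂ) (hFc : IsCharacter G F) (k : ZMod p → ℕ)
      (_ : ∀ A, classInner F (Φ.Y A : G → ℂ) = (k A : ℂ)) (W : ℕ) (_ : wt F μ = (W : ℂ)),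
      ∑ C ∈ lab (p := p) t, k C ≤ W := by
    intro F hFc k hk W hW
    choose k' hk' using fun i : IrrCharacter G =>
      H12.IsCharacter.classInner_nat hFc (H12.isCharacter_irr i)
    have hle := wt_le hFc μ ((lab (p := p) t).image Φ.Y) k' (fun i _ => hk' i) (fun i hi => by
      obtain ⟨C, hC, rfl⟩ := Finset.mem_image.1 hi
      exact hμY C hC) hW
    rwa [Finset.sum_image (fun B hB C hC e => Φ.injY B hB C hC e),
      Finset.sum_congr rfl (g := fun C => k C) fun C _ => by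
        have := (hk' (Φ.Y C)).symm.trans (hk C)
        exact_mod_cast this] at hle
  have hleL := hbound Λ hΛc kL hkL WL hWL
  have hleS := hbound S hSc kS hkS WS hWS
  -- the weights
  have hwL := wt_formula D h.card_aut Λ μ fun x k => by
    rw [hΛk, hμC _ (mem_CP_mul D x k), hlC2, mul_assoc, hφn, mul_one]
  have hwS := wt_formula D h.card_aut S μ fun x k => by
    rw [hSk, hμC _ (mem_CP_mul D x k), hlC2, mul_assoc, hφn, mul_one]
  have hsumL : ∑ x : (P : Subgroup G), Λ x =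
      ((n : ℂ) * n - (f : ℂ) * f + (if σ = 1 then (p : ℂ) * f else 0) - p) / 2 := by
    simp only [hΛ, ← Finset.sum_div, Finset.sum_sub_distrib]
    rw [sum_val_sq h hft, sum_sq_val h hft, ← hσdef]
  have hsumS : ∑ x : (P : Subgroup G), S x =
      ((n : ℂ) * n - (f : ℂ) * f + (if σ = 1 then (p : ℂ) * f else 0) + p) / 2 := by
    simp only [hS, ← Finset.sum_div, Finset.sum_add_distrib]
    rw [sum_val_sq h hft, sum_sq_val h hft, ← hσdef]
  have hvalO : ∀ g : ↥(NP), (g : G) ∉ CP →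
      Λ g = ((1 - (if (g : G) * g ∈ CP then (n : ℂ) else 1)) / 2) * ((l * l) g : ℂ) ∧
      S g = ((1 + (if (g : G) * g ∈ CP then (n : ℂ) else 1)) / 2) * ((l * l) g : ℂ) := fun g hg => by
    have e := sq_outside h hft hM hl hlC g hg
    simp only [hΛ, hS, hl g hg, e, MonoidHom.mul_apply, Units.val_mul]
    constructor <;> ring
  rw [hWL, hsumL, Finset.sum_congr rfl fun g hg => by
    rw [(hvalO g (Finset.mem_filter.1 hg).2).1]] at hwL
  rw [hWS, hsumS, Finset.sum_congr rfl fun g hg => by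
    rw [(hvalO g (Finset.mem_filter.1 hg).2).2]] at hwS
  have hout := sum_outside D h.card_aut (l * l) μ fun g hg => (hμC g hg).symm
  constructor
  · intro hodd
    have hσv : σ = -1 := hodd.neg_one_pow
    have hσ1 : σ ≠ 1 := by
      rw [hσv]; exact neg_one_ne_one (two_lt hft (by omega))
    have hnot : ∀ g : ↥(NP), (g : G) ∉ CP → ¬ (g : G) * g ∈ CP := fun g hg hgg => by
      refine hg ((act_eq_one_iff D g).1 ?_)
      have h1 : act D g ^ 2 = 1 := by rw [← map_pow, pow_two]; exact (act_eq_one_iff D (g * g)).2 hgg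
      have h2 : orderOf (act D g) ∣ Nat.gcd 2 f := Nat.dvd_gcd (orderOf_dvd_of_pow_eq_one h1) (by
        have := orderOf_dvd_natCard (act D g)
        rwa [h.card_aut] at this)
      rw [(Nat.coprime_two_left).2 hodd] at h2
      exact orderOf_eq_one_iff.1 (Nat.dvd_one.1 h2)
    refine ⟨kL, kS, zL, zS, fun C hC => by rw [← hσv]; exact hzL C hC,
      fun C hC => by rw [← hσv]; exact hzS C hC, ?_, ?_⟩
    · have e : ((2 * WL + 2 : ℕ) : ℂ) = ((t : ℕ) : ℂ) := by
        rw [if_neg hσ1, Finset.sum_eq_zero fun g hg => by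
          rw [if_neg (hnot g (Finset.mem_filter.1 hg).2)]; simp] at hwL
        push_cast at hwL ⊢
        rw [hnC, hpC] at hwL
        refine mul_left_cancel₀ (mul_ne_zero (mul_ne_zero hf0 (hpC ▸ hp0)) hH0) ?_
        linear_combination 2 * hwL
      have : 2 * WL + 2 = t := by exact_mod_cast e
      omega
    · have e : ((2 * WS + 2 : ℕ) : ℂ) = ((t + 2 * (if l * l = μ then 1 else 0) : ℕ) : ℂ) := by
        rw [if_neg hσ1, Finset.sum_congr rfl (g := fun g => ((l * l) g : ℂ) * conj (μ g : ℂ))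
          fun g hg => by rw [if_neg (hnot g (Finset.mem_filter.1 hg).2)]; ring, hout] at hwS
        push_cast at hwS ⊢
        rw [hnC, hpC] at hwS
        refine mul_left_cancel₀ (mul_ne_zero (mul_ne_zero hf0 (hpC ▸ hp0)) hH0) ?_
        split_ifs at hwS ⊢ <;> linear_combination 2 * hwS
      have : 2 * WS + 2 = t + 2 * (if l * l = μ then 1 else 0) := by exact_mod_cast e
      split_ifs at this <;> omega
  · intro heven
    have hσ1 : σ = 1 := heven.neg_one_pow
    -- the involution of the inertial group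
    obtain ⟨α, hα⟩ : ∃ α : ↥(D.aut (H12.oneIrr H)), orderOf α = 2 :=
      exists_prime_orderOf_dvd_card' 2 (by rw [h.card_aut]; exact heven.two_dvd)
    have hα1 : α ≠ 1 := fun h' => by rw [h', orderOf_one] at hα; omega
    have hα2 : α * α = 1 := by rw [← pow_two, ← hα, pow_orderOf_eq_one]
    obtain ⟨g₀, hg₀⟩ := act_surjective D α
    set ν : ↥(NP) →* ℂˣ := (l * l) / μ with hνdef
    have hν : ∀ g : ↥(NP), ((l * l) g : ℂ) * conj (μ g : ℂ) = (ν g : ℂ) := fun g => by
      rw [hνdef, MonoidHom.div_apply, Units.val_div_eq_div_val, div_eq_mul_inv,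
        Complex.inv_eq_conj (Complex.norm_eq_one_of_pow_eq_one
          (by rw [← Units.val_pow_eq_pow_val, ← map_pow, pow_card_eq_one', map_one, Units.val_one])
          (Nat.card_pos (α := ↥(NP))).ne')]
    have hνC : ∀ g : ↥(NP), (g : G) ∈ CP → ν g = 1 := fun g hg => by
      rw [hνdef, MonoidHom.div_apply, hμC g hg, div_self']
    set s : ℂ := (ν g₀ : ℂ) with hsdef
    have hs2 : s * s = 1 := by
      rw [hsdef, ← Units.val_mul, ← map_mul, hνC _ ((act_eq_one_iff D _).1 (by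
        rw [map_mul, hg₀, hα2])), Units.val_one]
    have hJ : ∀ g : ↥(NP), ((g : G) ∉ CP ∧ (g : G) * g ∈ CP) ↔ act D g = α := fun g => by
      constructor
      · rintro ⟨hg, hgg⟩
        exact involution_unique h hft ((map_mul (act D) g g).symm.trans
          ((act_eq_one_iff D (g * g)).2 hgg)) (fun h' => hg ((act_eq_one_iff D g).1 h')) hα2 hα1
      · intro hg
        refine ⟨fun h' => hα1 (by rw [← hg, (act_eq_one_iff D g).2 h']), ?_⟩
        refine (act_eq_one_iff D (g * g)).1 ?_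
        rw [map_mul, hg, hα2]
    have hJsum : ∑ g ∈ Finset.univ.filter (fun g : ↥(NP) => (g : G) ∉ CP ∧ (g : G) * g ∈ CP),
        (ν g : ℂ) = s * ((p : ℂ) * Nat.card H) := by
      have e1 : ∑ g ∈ Finset.univ.filter (fun g : ↥(NP) => (g : G) ∉ CP ∧ (g : G) * g ∈ CP),
          (ν g : ℂ) = ∑ g ∈ Finset.univ.filter (fun g : ↥(NP) => (g : G) ∈ CP),
            s * (fun _ : G => (1 : ℂ)) g := by
        refine Finset.sum_bij' (fun g _ => g₀⁻¹ * g) (fun g _ => g₀ * g) (fun g hg => ?_)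
          (fun g hg => ?_) (fun g _ => mul_inv_cancel_left g₀ g) (fun g _ => inv_mul_cancel_left g₀ g)
          fun g hg => ?_
        · refine Finset.mem_filter.2 ⟨Finset.mem_univ _, (act_eq_one_iff D _).1 ?_⟩
          rw [map_mul, map_inv, hg₀, (hJ g).1 (Finset.mem_filter.1 hg).2, inv_mul_cancel]
        · refine Finset.mem_filter.2 ⟨Finset.mem_univ _, (hJ _).2 ?_⟩
          rw [map_mul, hg₀, (act_eq_one_iff D g).2 (Finset.mem_filter.1 hg).2, mul_one]
        · have hc : ν (g₀⁻¹ * g) = 1 := hνC _ ((act_eq_one_iff D _).1 (by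
            rw [map_mul, map_inv, hg₀, (hJ g).1 (Finset.mem_filter.1 hg).2, inv_mul_cancel]))
          rw [map_mul, map_inv, inv_mul_eq_one] at hc
          rw [hsdef, hc, mul_one]
      rw [e1, ← Finset.mul_sum, sum_central D (fun _ : G => (1 : ℂ))]
      simp [← Nat.card_eq_fintype_card, D.hP]
    have hsplit : ∀ c : ℂ, ∑ g ∈ Finset.univ.filter (fun g : ↥(NP) => (g : G) ∉ CP),
        ((1 + c * (if (g : G) * g ∈ CP then (n : ℂ) else 1)) / 2) * ((l * l) g : ℂ) * conj (μ g : ℂ) =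
          ((1 + c) / 2) * ((if l * l = μ then ((f * p * Nat.card H : ℕ) : ℂ) else 0) -
            (p : ℂ) * Nat.card H) + c * ((n : ℂ) - 1) / 2 * (s * ((p : ℂ) * Nat.card H)) := by
      intro c
      rw [← hout, ← hJsum, ← Finset.filter_filter, Finset.sum_filter
        (s := Finset.univ.filter fun g : ↥(NP) => (g : G) ∉ CP), Finset.mul_sum, Finset.mul_sum,
        ← Finset.sum_add_distrib]
      refine Finset.sum_congr rfl fun g _ => ?_
      rw [mul_assoc, hν]
      split_ifs <;> ring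
    have hsL := hsplit (-1)
    have hsS := hsplit 1
    simp only [neg_mul, one_mul, ← sub_eq_add_neg] at hsL hsS
    rw [if_pos hσ1] at hwL hwS
    rw [hsL] at hwL
    rw [hsS] at hwS
    push_cast at hwL hwS
    rw [hnC, hpC] at hwL hwS
    have eL : (f : ℂ) * WL = (f : ℂ) * ((t : ℂ) - 1) / 2 * (1 - s) := by
      refine mul_left_cancel₀ (mul_ne_zero (hpC ▸ hp0) hH0) ?_
      linear_combination hwL
    rcases mul_self_eq_one_iff.1 hs2 with hs1 | hs1
    · rw [hs1, sub_self, mul_zero] at eL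
      have hW0 : WL = 0 := by exact_mod_cast (mul_eq_zero.1 eL).resolve_left hf0
      refine ⟨1, -zL, Or.inl rfl, fun C hC => ?_⟩
      have hk0 : kL C = 0 := by
        have := Finset.single_le_sum (f := fun C => kL C) (fun i _ => Nat.zero_le _) hC
        omega
      have := hzL C hC
      rw [hk0, Nat.cast_zero, mul_zero, hσ1] at this
      linear_combination -this
    · have hne : l * l ≠ μ := fun he => by
        have h1 : s = 1 := by rw [hsdef, hνdef, ← he, MonoidHom.div_apply, div_self', Units.val_one]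
        rw [hs1] at h1
        norm_num at h1
      have eS : (f : ℂ) * WS = 0 := by
        rw [if_neg hne, hs1] at hwS
        refine mul_left_cancel₀ (mul_ne_zero (hpC ▸ hp0) hH0) ?_
        linear_combination hwS
      have hW0 : WS = 0 := by exact_mod_cast (mul_eq_zero.1 eS).resolve_left hf0
      refine ⟨-1, -zS, Or.inr rfl, fun C hC => ?_⟩
      have hk0 : kS C = 0 := by
        have := Finset.single_le_sum (f := fun C => kS C) (fun i _ => Nat.zero_le _) hC
        omega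
      have := hzS C hC
      rw [hk0, Nat.cast_zero, mul_zero, hσ1] at this
      linear_combination -this

omit ht hM in
/-- A constant first row gives all periods the same absolute value. -/
theorem flat_sum {c : ℕ} (hc : ∀ C ∈ lab (p := p) t, cyc f (1 : ZMod p) C = c) :
    ∀ A ∈ lab (p := p) t, A ≠ 1 →
      (p : ℤ) * f * ∑ C ∈ lab (p := p) t, (cyc f A C : ℤ) ^ 2 =
        (f : ℤ) ^ 4 + ((p : ℤ) - 1) * ((f : ℤ) - c) ^ 2 := by
  classical
  intro A hA hA1
  have h1 : ∀ (ξ : (P : Subgroup G) →* ℂˣ), ξ ≠ 1 → ∀ x : (P : Subgroup G), x ≠ 1 →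
      per ξ f (1 : ZMod p) x * conj (per ξ f (1 : ZMod p) x) = (f : ℂ) - c := by
    intro ξ hξ x hx
    rw [per_one_mul_conj D.hP hξ hft 1 (one_mem_lab hft), if_pos rfl,
      Finset.sum_congr rfl (g := fun C => (c : ℂ) * per ξ f C x) fun C hC => by rw [hc C hC],
      ← Finset.mul_sum, sum_per_lab D.hP hξ hft hx]
    ring
  obtain ⟨ξ, hξ, hξA⟩ := exists_lin D.hP h.psi_ne hft h.card_aut hA
  have hξ' : ∀ x, per ξ f (1 : ZMod p) x = per ψ f A x := fun x => by
    rw [← sum_aut_lin D.hP hξ hft h.card_aut, hξA]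
  set F : ↥(P : Subgroup G) → ℂ := fun x => ∑ C ∈ lab (p := p) t, (cyc f A C : ℂ) * per ψ f C x
  have hFe : ∀ x, per ψ f (1 : ZMod p) x * conj (per ψ f A x) = F x := fun x => by
    rw [per_one_mul_conj D.hP h.psi_ne hft A hA, if_neg hA1, zero_add]
  have hval : ∀ x : (P : Subgroup G), x ≠ 1 → F x * conj (F x) = ((f : ℂ) - c) ^ 2 := fun x hx => by
    rw [← hFe, map_mul, Complex.conj_conj]
    have e1 := h1 ψ h.psi_ne x hx
    have e2 := h1 ξ hξ x hx
    rw [hξ'] at e2
    linear_combination (conj (per ψ f A x) * per ψ f A x) * e1 + ((f : ℂ) - c) * e2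
  have hone : F 1 * conj (F 1) = (f : ℂ) ^ 4 := by
    rw [← hFe, per_at_one D.hP hft (one_mem_lab hft), per_at_one D.hP hft hA, map_mul,
      map_natCast, map_natCast]
    ring
  have hL : ∑ x : (P : Subgroup G), F x * conj (F x) =
      (p : ℂ) * f * ∑ C ∈ lab (p := p) t, (cyc f A C : ℂ) ^ 2 := by
    simp only [F, map_sum, map_mul, map_natCast, Finset.sum_mul_sum]
    rw [Finset.sum_comm, Finset.mul_sum]
    refine Finset.sum_congr rfl fun C hC => ?_
    rw [Finset.sum_comm, Finset.sum_congr rfl (g := fun B => (cyc f A C : ℂ) * (cyc f A B : ℂ) *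
        (if C = B then (p : ℂ) * f else 0)) fun B hB => by
      rw [← sum_per_mul_conj D.hP h.psi_ne hft C B hC, Finset.mul_sum]
      exact Finset.sum_congr rfl fun x _ => by ring]
    simp only [mul_ite, mul_zero, Finset.sum_ite_eq, if_pos hC]
    ring
  rw [← Finset.add_sum_erase _ _ (Finset.mem_univ (1 : (P : Subgroup G))), hone,
    Finset.sum_congr rfl fun x hx => hval x (Finset.ne_of_mem_erase hx), Finset.sum_const,
    Finset.card_erase_of_mem (Finset.mem_univ _), Finset.card_univ, ← Nat.card_eq_fintype_card,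
    D.hP, nsmul_eq_mul, Nat.cast_sub hp.out.one_le, Nat.cast_one] at hL
  have : (((p : ℤ) * f * ∑ C ∈ lab (p := p) t, (cyc f A C : ℤ) ^ 2 : ℤ) : ℂ) =
      (((f : ℤ) ^ 4 + ((p : ℤ) - 1) * ((f : ℤ) - c) ^ 2 : ℤ) : ℂ) := by
    push_cast
    linear_combination -hL
  exact_mod_cast this

/-- At least three classes force a small inertial index. -/
theorem many_classes : f = 2 ∨ (Odd f ∧ f + 3 ≤ t) := by
  obtain ⟨δ, hδ, hrow⟩ := rows_one h hft ht hM
  obtain ⟨φ, hφ⟩ := exists_sq_irr h hft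
  obtain ⟨Φ⟩ := h.exists_fam hft hM φ
  obtain ⟨hwo, hwe⟩ := wedge_data h hft ht hM hφ Φ
  have hf2 := h.two_le
  by_cases hf : f = 2
  · exact Or.inl hf
  rcases Nat.even_or_odd f with heven | hodd
  · obtain ⟨m, hm⟩ := heven
    exact absurd (even_case hft ht ⟨m, hm⟩ (by omega) hδ hrow (hwe ⟨m, hm⟩)) id
  · obtain ⟨-, hle⟩ := odd_case hft ht hodd (by omega) hδ Φ.δ_eq hrow (rows_sq h hft ht hM hφ Φ)
      (fun c hc => flat_sum h hft hc) (hwo hodd)
    exact Or.inr ⟨hodd, hle⟩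

/-- An odd center leaves only index `2`. -/
theorem many_classes_odd (hodd : Odd (Nat.card H)) : f = 2 := by
  obtain hf | ⟨hf, hle⟩ := many_classes h hft ht hM
  · exact hf
  exfalso
  obtain ⟨φ, hφ⟩ := exists_sq_irr h hft
  obtain ⟨Φ⟩ := h.exists_fam hft hM φ
  obtain ⟨hn, h3, hf2⟩ := mul_t_bounds h hft ht
  obtain ⟨σ, hσ⟩ := H25.exists_ringEquiv_pow_rootOfUnity (Nat.card H) 2 Nat.card_pos
    ((Nat.coprime_two_left).2 hodd)
  set χ' : IrrCharacter G :=
    ⟨σ ∘ (χ : G → ℂ), H25.isIrrCharacter_ringEquiv_comp χ.2 σ⟩ with hχ'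
  have hdeg : H12.degree (χ' : G → ℂ) = n := by
    have h1 : σ ((χ : G → ℂ) 1) = (H12.degree (χ' : G → ℂ) : ℂ) := H12.irr_apply_one χ'
    rw [H12.irr_apply_one, h.degree_eq, map_natCast] at h1
    exact_mod_cast h1.symm
  obtain ⟨lH, hlH⟩ := H12.exists_monoidHom_of_apply_one_eq_one (H12.isCharacter_irr θ)
    (lin_one D h.central_le θ)
  have hσθ : ∀ k : H, σ ((θ : H → ℂ) k) = (φ : H → ℂ) k := fun k => by
    rw [hφ, ← congrFun hlH]
    exact hσ _ (by rw [← Units.val_pow_eq_pow_val, ← map_pow, pow_card_eq_one', map_one,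
      Units.val_one])
  obtain ⟨φ', hφ'⟩ := D.exists_mem_supp_of_lt hM (χ := χ') (by rw [hdeg]; omega)
  have he : φ' = φ := Subtype.ext (funext fun k => by
    have h1 := apply_center D h.central_le hM hφ' k
    rw [hdeg] at h1
    have h2 : (χ' : G → ℂ) k = (φ : H → ℂ) k * (n : ℂ) := by
      show σ ((χ : G → ℂ) k) = _
      rw [apply_center D h.central_le hM h.mem_supp, h.degree_eq, map_mul, hσθ, map_natCast]
    exact (mul_right_cancel₀ (Nat.cast_ne_zero.2 (by omega)) (h1.symm.trans h2)))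
  rw [he] at hφ'
  obtain ⟨hδ, -⟩ := Fam.eq_Y_of_degree h hft ht Φ hφ' hdeg
  obtain ⟨m, hm⟩ := hf
  exact second_case hft hδ (by omega) hle (rows_sq h hft ht hM hφ Φ)

end H15.Degree
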