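import Cfsg.Agent.H15.HalfDeg.ExcColY

/-!
Degrees below `p - 1` (helper15): exceptional characters of degree a proper multiple of the
inertial index; adapted from the lemma `false_of_colY_half`.
-/

set_option autoImplicit false
set_option linter.style.haveILetI false
set_option linter.unusedSectionVars false

open Cfsg
open scoped ComplexConjugate

namespace H85.D1.Setting

universe u

variable {G : Type u} [Group G] [Fintype G] {p : ℕ} [hp : Fact p.Prime]
  {P : Sylow p G} {u a : G} {H : Subgroup G} [Fintype H]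

variable (D : Setting P u a H)
include D

variable {M : Ideal AlgInt} [hMp : M.IsPrime]

theorem false_of_colY_big (hM : IsPModular p M) (hlin : ∀ l : G →* ℂˣ, l = 1) {θ : IrrCharacter H}
    [Fintype (P : Subgroup G)] [Fintype (D.aut θ)]
    (S : Shape p (D.aut θ) (fun (χ : IrrCharacter G) (x : (P : Subgroup G)) => D.col θ χ x)
      (fun (χ : IrrCharacter G) (g : {g : G // ¬ p ∣ orderOf g}) => (χ : G → ℂ) g))
    {χ : IrrCharacter G} (hχ : χ ∈ S.Y) (hε : S.ε = 1)
    (hf2 : 2 ≤ Nat.card (D.aut (H12.oneIrr H)))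
    (hfp : 2 * Nat.card (D.aut (H12.oneIrr H)) + 1 ≤ p)
    (hn : H12.degree (χ : G → ℂ) + Nat.card (D.aut (H12.oneIrr H)) + 1 ≤ p)
    (hdeg : H12.degree (χ : G → ℂ) =
      Nat.card (D.aut (H12.oneIrr H)) * H12.degree (θ : H → ℂ))
    (hdO : 2 ≤ H12.degree (θ : H → ℂ) * Nat.card (D.orbit θ)) : False := by
  classical
  haveI : Fintype (D.orbit θ) := Fintype.ofFinite _
  haveI : Fintype (D.aut (H12.oneIrr H)) := Fintype.ofFinite _
  haveI : Finite ((P : Subgroup G) →* ℂˣ) := H20.finite_dual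
  haveI : Fintype ((P : Subgroup G) →* ℂˣ) := Fintype.ofFinite _
  have hA := commOf (A := (P : Subgroup G)) D.hP
  set φ0 := H12.oneIrr H with hφ0
  set f := Nat.card (D.aut φ0) with hfdef
  set n := H12.degree (χ : G → ℂ) with hndef
  set d := H12.degree (θ : H → ℂ) with hddef
  set O := Nat.card (D.orbit θ) with hOdef
  set e := Nat.card (D.aut θ) with hedef
  have hd0 : 0 < d := H12.irr_degree_pos θ
  have hfn : f ≤ n := hdeg ▸ Nat.le_mul_of_pos_right f hd0
  have hOe : O * e = f := D.card_orbit_mul θ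
  have hO0 : 0 < O := by
    rcases Nat.eq_zero_or_pos O with h | h
    · rw [h, Nat.zero_mul] at hOe; omega
    · exact h
  have he0 : 0 < e := by
    rcases Nat.eq_zero_or_pos e with h | h
    · rw [h, Nat.mul_zero] at hOe; omega
    · exact h
  have hef : e ≤ f := hOe ▸ Nat.le_mul_of_pos_left e hO0
  have hdual : Fintype.card ((P : Subgroup G) →* ℂˣ) = p :=
    (by exact_mod_cast H20.card_dual hA : Fintype.card ((P : Subgroup G) →* ℂˣ) =
      Nat.card (P : Subgroup G)).trans D.hP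
  obtain ⟨ψ, hψ, hcol⟩ := S.colY χ hχ
  -- a second exceptional character
  obtain ⟨ψ₂, hψ₂⟩ : ∃ ψ₂ : (P : Subgroup G) →* ℂˣ,
      ψ₂ ∉ insert 1 (Finset.univ.image fun β : D.aut φ0 => twist ψ β) := by
    by_contra hall
    have h1 : (Finset.univ : Finset ((P : Subgroup G) →* ℂˣ)) ⊆
        insert 1 (Finset.univ.image fun β : D.aut φ0 => twist ψ β) := fun x _ =>
      not_not.1 fun hx => hall ⟨x, hx⟩
    have h2 := (Finset.card_le_card h1).trans
      ((Finset.card_insert_le _ _).trans (Nat.add_le_add_right Finset.card_image_le 1))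
    rw [Finset.card_univ, Finset.card_univ, hdual, ← Nat.card_eq_fintype_card] at h2
    omega
  simp only [Finset.mem_insert, Finset.mem_image, Finset.mem_univ, true_and, not_or,
    not_exists] at hψ₂
  obtain ⟨η, hη, hcol₂⟩ := S.surjY ψ₂ hψ₂.1
  have hsupp : ∀ i ∈ S.Y, i ∈ D.supp θ := fun i hi => (D.union_eq_supp S).subset (Or.inr hi)
  have hreg : ∀ g : G, ¬ p ∣ orderOf g → (χ : G → ℂ) g = (η : G → ℂ) g := fun g hg =>
    congrFun (S.regY χ hχ η hη) ⟨g, hg⟩
  have hnη : (η : G → ℂ) 1 = (n : ℂ) := by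
    rw [← hreg 1 (by simp [hp.out.ne_one]), H12.irr_apply_one]
  obtain ⟨g, hg⟩ := D.exists_terms hM θ
  have hv1 := hg χ (hsupp χ hχ) ψ S.ε hcol
  have hv2 := hg η (hsupp η hη) ψ₂ S.ε hcol₂
  have hI : Fintype.card (D.orbit θ × D.aut θ) = f := by
    rw [Fintype.card_prod, ← Nat.card_eq_fintype_card, ← Nat.card_eq_fintype_card,
      D.card_orbit_mul]
  have hdist : ∀ i j, twist ψ (g i) ≠ twist ψ₂ (g j) := fun i j h => by
    refine hψ₂.2 (g i * (g j)⁻¹) (MonoidHom.ext fun x => ?_)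
    have h2 := DFunLike.congr_fun h ((g j : MulAut (P : Subgroup G))⁻¹ x)
    rw [twist_apply, twist_apply, MulAut.apply_inv_self] at h2
    rw [twist_apply, ← h2, Subgroup.coe_mul, MulAut.mul_apply]
    rfl
  set F : G → ℂ := fun g => (χ : G → ℂ) g * conj ((η : G → ℂ) g) with hF
  set F₀ : G → ℂ := fun g => (χ : G → ℂ) g * conj ((χ : G → ℂ) g) with hF₀
  have hFc : IsCharacter G F :=
    H12.IsCharacter.mul (H12.isCharacter_irr χ) (H12.IsCharacter.star (H12.isCharacter_irr η))
  have hF₀c : IsCharacter G F₀ :=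
    H12.IsCharacter.mul (H12.isCharacter_irr χ) (H12.IsCharacter.star (H12.isCharacter_irr χ))
  -- the product has no invariants of `P`
  have hF0 : ∑ x : (P : Subgroup G), F x = 0 := by
    rw [← Finset.add_sum_erase _ _ (Finset.mem_univ (1 : (P : Subgroup G)))]
    simp only [hF, OneMemClass.coe_one, H12.irr_apply_one, ← hndef]
    rw [show H12.degree (η : G → ℂ) = n by
      have := (H12.irr_apply_one η).symm.trans hnη; exact_mod_cast this, map_natCast]
    rw [Finset.sum_congr rfl (g := fun x => ((d : ℂ) * d) *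
      ∑ i, ∑ j, (twist ψ (g i) x : ℂ) * conj (twist ψ₂ (g j) x : ℂ)) fun x hx => by
        rw [hv1 x (Finset.ne_of_mem_erase hx), hv2 x (Finset.ne_of_mem_erase hx), hε,
          Int.cast_one, one_mul, map_mul, map_natCast, map_sum, mul_mul_mul_comm, Finset.sum_mul_sum],
      ← Finset.mul_sum, Finset.sum_comm,
      Finset.sum_congr rfl fun i _ => Finset.sum_comm,
      Finset.sum_congr rfl fun i _ => Finset.sum_congr rfl fun j _ =>
        sum_erase_one_mul_conj (hdist i j)]
    simp only [Finset.sum_const, Finset.card_univ, hI, nsmul_eq_mul, hdeg]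
    push_cast
    ring
  have hne : χ ≠ η := by
    intro h
    subst h
    have h0 : (((∑ x : (P : Subgroup G), Complex.normSq ((χ : G → ℂ) x)) : ℝ) : ℂ) = 0 := by
      rw [← hF0, Complex.ofReal_sum]
      exact Finset.sum_congr rfl fun x _ => (Complex.mul_conj _).symm
    have h1 := (Finset.sum_eq_zero_iff_of_nonneg fun x _ => Complex.normSq_nonneg _).1
      (Complex.ofReal_eq_zero.1 h0) 1 (Finset.mem_univ _)
    rw [OneMemClass.coe_one, Complex.normSq_eq_zero] at h1
    exact H12.irr_apply_one_ne_zero χ h1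
  obtain ⟨k, hk⟩ := H12.IsCharacter.exists_mult hFc
  have hkI : ∀ ω : IrrCharacter G, classInner F (ω : G → ℂ) = (k ω : ℂ) := fun ω => by
    rw [hk, H12.classInner_sum_smul_irr]
  have hFapply : ∀ y, F y = ∑ ω : IrrCharacter G, (k ω : ℂ) * (ω : G → ℂ) y := fun y => by
    rw [hk]; simp
  choose s hs using fun ω : IrrCharacter G =>
    exists_sum_res (H12.isCharacter_irr ω) (P : Subgroup G)
  have hks : ∀ ω : IrrCharacter G, k ω ≠ 0 → s ω = 0 := by
    have h1 : ((∑ ω : IrrCharacter G, k ω * (p * s ω) : ℕ) : ℂ) = 0 := by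
      rw [← hF0]
      simp only [hFapply]
      rw [Finset.sum_comm, Nat.cast_sum]
      refine Finset.sum_congr rfl fun ω _ => ?_
      rw [← Finset.mul_sum, hs ω, D.hP]
      push_cast
      ring
    intro ω hω
    have h2 := (Finset.sum_eq_zero_iff).1 (by exact_mod_cast h1 : ∑ ω : IrrCharacter G,
      k ω * (p * s ω) = 0) ω (Finset.mem_univ ω)
    rcases Nat.mul_eq_zero.1 h2 with h3 | h3
    · exact absurd h3 hω
    · exact (Nat.mul_eq_zero.1 h3).resolve_left hp.out.ne_zero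
  -- the invariants of `H`
  choose δ hδ using fun (φ : IrrCharacter H) (ω : IrrCharacter G) => D.exists_col_one φ ω
  have hcomp : ∀ φ, φ ∈ D.orbit θ → δ φ χ = δ θ χ := by
    rintro φ ⟨m, hm, rfl⟩
    have h1 := hδ (H12.irrCongr (D.conjH m hm) θ) χ
    rw [D.col_conj θ χ hm, show m * 1 * m⁻¹ = 1 by group, hδ θ χ] at h1
    exact_mod_cast h1.symm
  have hθe : e ≤ δ θ χ := by
    obtain ⟨m, hm⟩ := D.exists_sum_col θ χ
    rw [← Finset.add_sum_erase _ _ (Finset.mem_univ (1 : (P : Subgroup G))), OneMemClass.coe_one,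
      hδ, Finset.sum_congr rfl fun x hx => hcol x (Finset.ne_of_mem_erase hx), ← Finset.mul_sum,
      Finset.sum_comm, Finset.sum_congr rfl fun (α : D.aut θ) _ => show
        ∑ x ∈ Finset.univ.erase (1 : (P : Subgroup G)),
          (ψ ((α : MulAut (P : Subgroup G)) x) : ℂ) = -1 from
        sum_erase_one_lin (ψ := twist ψ α) (mt twist_eq_one_iff.1 hψ)] at hm
    simp only [hε, Int.cast_one, one_mul, Finset.sum_const, Finset.card_univ,
      ← Nat.card_eq_fintype_card, ← hedef, nsmul_eq_mul] at hm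
    have h1 : ((δ θ χ : ℕ) : ℂ) = ((e + p * m : ℕ) : ℂ) := by
      push_cast; linear_combination hm
    have : δ θ χ = e + p * m := by exact_mod_cast h1
    omega
  have htot : ∑ φ : IrrCharacter H, δ φ χ * H12.degree (φ : H → ℂ) = n := by
    have h1 := D.apply_eq_sum_col χ (one_mem (P : Subgroup G)) (1 : H)
    rw [OneMemClass.coe_one, mul_one, H12.irr_apply_one, ← hndef] at h1
    simp only [hδ, H12.irr_apply_one] at h1
    exact_mod_cast h1.symm
  have horb : ∀ φ ∈ (D.orbit θ).toFinset, δ φ χ * H12.degree (φ : H → ℂ) = δ θ χ * d := by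
    intro φ hφ
    rw [hcomp φ (Set.mem_toFinset.1 hφ)]
    obtain ⟨m, hm, rfl⟩ := Set.mem_toFinset.1 hφ
    congr 1
    have h1 := H12.irr_apply_one (H12.irrCongr (D.conjH m hm) θ)
    rw [H12.irrCongr_apply, map_one, H12.irr_apply_one] at h1
    exact_mod_cast h1.symm
  have hOc : (D.orbit θ).toFinset.card = O := by rw [hOdef, Nat.card_eq_card_toFinset]
  have hsplit := Finset.sum_add_sum_compl (D.orbit θ).toFinset
    fun φ : IrrCharacter H => δ φ χ * H12.degree (φ : H → ℂ)
  rw [Finset.sum_congr rfl horb, Finset.sum_const, hOc, smul_eq_mul, htot] at hsplit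
  have hfd : O * (e * d) = n := by rw [← mul_assoc, hOe, hdeg]
  have hδθ : δ θ χ = e := by
    refine le_antisymm ?_ hθe
    by_contra hlt
    have := Nat.mul_lt_mul_of_pos_left (Nat.mul_lt_mul_of_pos_right (not_le.1 hlt) hd0) hO0
    omega
  have hrest : ∀ φ, φ ∉ D.orbit θ → δ φ χ = 0 := by
    intro φ hφ
    rw [hδθ, hfd] at hsplit
    have h1 := Finset.sum_eq_zero_iff.1 (by omega : ∑ φ ∈ (D.orbit θ).toFinsetᶜ,
      δ φ χ * H12.degree (φ : H → ℂ) = 0) φ (by simpa using hφ)
    exact (Nat.mul_eq_zero.1 h1).resolve_right (H12.irr_degree_pos φ).ne'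
  have hD : ∑ ω : IrrCharacter G, k ω * δ φ0 ω = f * e := by
    have h0 : ∑ φ : IrrCharacter H, δ φ χ * δ φ χ = f * e := by
      rw [← Finset.sum_add_sum_compl (D.orbit θ).toFinset,
        Finset.sum_congr rfl (s₁ := (D.orbit θ).toFinset) (g := fun _ => e * e) fun φ hφ => by
          rw [hcomp φ (Set.mem_toFinset.1 hφ), hδθ],
        Finset.sum_eq_zero (s := (D.orbit θ).toFinsetᶜ) fun φ hφ => by
          rw [hrest φ (by simpa using hφ), zero_mul],
        Finset.sum_const, hOc, smul_eq_mul, add_zero, ← mul_assoc, hOe]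
    have h1 : classInner (fun h : H => (χ : G → ℂ) (1 * h)) (fun h : H => (χ : G → ℂ) (1 * h)) =
        ((f * e : ℕ) : ℂ) := by
      rw [H12.classInner_eq_sum_mul (D.isClassFunction_shiftH χ (one_mem _))
        (D.isClassFunction_shiftH χ (one_mem _)), ← h0, Nat.cast_sum]
      refine Finset.sum_congr rfl fun φ _ => ?_
      rw [D.classInner_shift, hδ, map_natCast, Nat.cast_mul]
    have h2 : classInner (fun h : H => (χ : G → ℂ) (1 * h)) (fun h : H => (χ : G → ℂ) (1 * h)) =
        ∑ ω : IrrCharacter G, (k ω : ℂ) * D.col φ0 ω 1 := by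
      simp only [Setting.col, H12.classInner_def, Nat.card_eq_fintype_card (α := H), hφ0,
        H12.oneIrr_apply, map_one, mul_one, one_mul, Finset.mul_sum]
      rw [Finset.sum_comm]
      refine Finset.sum_congr rfl fun h _ => ?_
      have hFh : (χ : G → ℂ) h * conj ((χ : G → ℂ) h) = F h := by
        simp only [hF]
        rw [hreg (h : G) (D.not_dvd_orderOf h.2)]
      rw [hFh, hFapply, Finset.mul_sum]
      exact Finset.sum_congr rfl fun ω _ => by ring
    simp only [hδ] at h2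
    rw [h1] at h2
    exact_mod_cast h2.symm
  -- the principal block
  obtain ⟨S₀⟩ := D.exists_shape hM φ0
  have hsupp₀ : ∀ i ∈ S₀.X ∪ S₀.Y, i ∈ D.supp φ0 := fun i hi => (D.union_eq_supp S₀).subset hi
  have hval₀ : ∀ i ∈ S₀.X ∪ S₀.Y, ∀ x : (P : Subgroup G), x ≠ 1 → ∀ h : H,
      (i : G → ℂ) (x * h) = D.col φ0 i x := by
    intro i hi x hx h
    rw [D.apply_eq_sum_orbit hM (hsupp₀ i hi) x.2 (fun h => hx (Subtype.ext h)) h,
      Finset.sum_eq_single φ0 (fun φ hφ hne => absurd (D.orbit_one.subset (Set.mem_toFinset.1 hφ)) hne)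
        (fun h0 => absurd (Set.mem_toFinset.2 (D.mem_orbit_self φ0)) h0), hφ0, H12.oneIrr_apply,
      mul_one]
  have hval₀' : ∀ i ∈ S₀.X ∪ S₀.Y, ∀ x : (P : Subgroup G), x ≠ 1 →
      (i : G → ℂ) x = D.col φ0 i x := fun i hi x hx => by
    have := hval₀ i hi x hx 1
    rwa [OneMemClass.coe_one, mul_one] at this
  have hu' : (⟨u, D.u_mem⟩ : (P : Subgroup G)) ≠ 1 := fun h => D.u_ne_one (congrArg Subtype.val h)
  have hcardP : (Finset.univ.erase (1 : (P : Subgroup G))).card = p - 1 := by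
    rw [Finset.card_erase_of_mem (Finset.mem_univ _), Finset.card_univ, ← Nat.card_eq_fintype_card,
      D.hP]
  have hsumY : ∀ i ∈ S₀.Y, ∑ x ∈ Finset.univ.erase (1 : (P : Subgroup G)), D.col φ0 i x =
      -(S₀.ε : ℂ) * f := by
    intro i hi
    obtain ⟨φ, hφ, hcφ⟩ := S₀.colY i hi
    rw [Finset.sum_congr rfl fun x hx => hcφ x (Finset.ne_of_mem_erase hx), ← Finset.mul_sum,
      Finset.sum_comm, Finset.sum_congr rfl fun (α : D.aut φ0) _ => show
        ∑ x ∈ Finset.univ.erase (1 : (P : Subgroup G)),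
          (φ ((α : MulAut (P : Subgroup G)) x) : ℂ) = -1 from
        sum_erase_one_lin (ψ := twist φ α) (mt twist_eq_one_iff.1 hφ), Finset.sum_const,
      Finset.card_univ, ← Nat.card_eq_fintype_card, ← hfdef, nsmul_eq_mul]
    ring
  have hdeg₀ : ∀ i ∈ S₀.X, (H12.degree (i : G → ℂ) : ℤ) + ((p : ℤ) - 1) * S₀.εX i =
      (p : ℤ) * s i ∧ ∃ m : ℕ, (δ φ0 i : ℤ) + ((p : ℤ) - 1) * S₀.εX i = (p : ℤ) * m := by
    intro i hi
    have h1 := hs i
    obtain ⟨m, hm⟩ := D.exists_sum_col φ0 i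
    rw [← Finset.add_sum_erase _ _ (Finset.mem_univ (1 : (P : Subgroup G))),
      Finset.sum_congr rfl fun x hx => (hval₀' i (Or.inl hi) x (Finset.ne_of_mem_erase hx)).trans
        (S₀.colX i hi x (Finset.ne_of_mem_erase hx))] at h1
    rw [← Finset.add_sum_erase _ _ (Finset.mem_univ (1 : (P : Subgroup G))), OneMemClass.coe_one,
      hδ, Finset.sum_congr rfl fun x hx => S₀.colX i hi x (Finset.ne_of_mem_erase hx)] at hm
    simp only [OneMemClass.coe_one, H12.irr_apply_one, Finset.sum_const, hcardP, nsmul_eq_mul,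
      D.hP] at h1 hm
    rw [Nat.cast_sub hp.out.one_le, Nat.cast_one] at h1 hm
    exact ⟨by exact_mod_cast h1, m, by exact_mod_cast hm⟩
  have hdegY : ∀ i ∈ S₀.Y, (H12.degree (i : G → ℂ) : ℤ) - S₀.ε * f = (p : ℤ) * s i ∧
      ∃ m : ℕ, (δ φ0 i : ℤ) - S₀.ε * f = (p : ℤ) * m := by
    intro i hi
    have h1 := hs i
    obtain ⟨m, hm⟩ := D.exists_sum_col φ0 i
    rw [← Finset.add_sum_erase _ _ (Finset.mem_univ (1 : (P : Subgroup G))),
      Finset.sum_congr rfl fun x hx => hval₀' i (Or.inr hi) x (Finset.ne_of_mem_erase hx),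
      hsumY i hi, OneMemClass.coe_one, H12.irr_apply_one, D.hP] at h1
    rw [← Finset.add_sum_erase _ _ (Finset.mem_univ (1 : (P : Subgroup G))), OneMemClass.coe_one,
      hδ, hsumY i hi] at hm
    refine ⟨?_, m, ?_⟩
    · have : (((H12.degree (i : G → ℂ) : ℤ) - S₀.ε * f : ℤ) : ℂ) = (((p : ℤ) * s i : ℤ) : ℂ) := by
        push_cast; linear_combination h1
      exact_mod_cast this
    · have : (((δ φ0 i : ℤ) - S₀.ε * f : ℤ) : ℂ) = (((p : ℤ) * m : ℤ) : ℂ) := by
        push_cast; linear_combination hm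
      exact_mod_cast this
  set one := H12.oneIrr G with hone
  have hcol1 : ∀ x : (P : Subgroup G), D.col φ0 one x = 1 := fun x => by
    simp [Setting.col, hφ0, hone, H12.oneIrr_apply]
  have h2f : 2 * f + 1 ≤ p := by omega
  have honeX : one ∈ S₀.X := by
    rcases (S₀.supp one).2 ⟨_, hu', by rw [hcol1]; exact one_ne_zero⟩ with h | h
    · exact h
    · exfalso
      have h1 := hsumY one h
      simp only [hcol1, Finset.sum_const, hcardP, nsmul_eq_mul, mul_one] at h1
      have h2 : ((p - 1 : ℕ) : ℤ) = -S₀.ε * f := by exact_mod_cast h1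
      rcases S₀.ε_eq with h3 | h3 <;> rw [h3] at h2 <;> omega
  have hone1 : S₀.εX one = 1 := by
    have h1 := S₀.colX one honeX _ hu'
    exact_mod_cast ((hcol1 ⟨u, D.u_mem⟩).symm.trans h1).symm
  -- constituents
  have hsing : ∀ i ∈ S₀.X, ∀ y : G, p ∣ orderOf y → (i : G → ℂ) y = (S₀.εX i : ℂ) :=
    fun i hi y hy => D.apply_singular_eq (H12.irr_isClassFunction i) (fun x hx hx1 h => by
      have hx' : (⟨x, hx⟩ : (P : Subgroup G)) ≠ 1 := fun h => hx1 (congrArg Subtype.val h)
      rw [show (i : G → ℂ) (x * h) = _ from hval₀ i (Or.inl hi) ⟨x, hx⟩ hx' h]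
      exact S₀.colX i hi _ hx') hy
  set Xm := S₀.X.toFinite.toFinset.filter fun i => S₀.εX i = -1 with hXm
  set Xp := S₀.X.toFinite.toFinset.filter fun i => S₀.εX i = 1 with hXp
  have hmin : ∀ i ∈ Xm, k i ≠ 0 ∧ H12.degree (i : G → ℂ) = p - 1 ∧ p - 1 ≤ δ φ0 i := by
    intro i hi
    obtain ⟨hiX, hie⟩ := Finset.mem_filter.1 hi
    rw [Set.Finite.mem_toFinset] at hiX
    have h1 := D.classInner_sub_classInner hne hreg (hsing i hiX)
    obtain ⟨k₀, hk₀⟩ := H12.IsCharacter.classInner_nat hF₀c (H12.isCharacter_irr i)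
    rw [← hF, ← hF₀, hkI, hk₀, hie] at h1
    have hk1 : k i = k₀ + 1 := by
      have : (k i : ℂ) = ((k₀ + 1 : ℕ) : ℂ) := by
        push_cast at h1 ⊢
        simp only [map_neg, map_one, neg_neg] at h1
        linear_combination h1
      exact_mod_cast this
    have hk0 : k i ≠ 0 := by omega
    obtain ⟨h2, m, h3⟩ := hdeg₀ i hiX
    rw [hie, hks i hk0] at h2
    rw [hie] at h3
    have h4 : (0 : ℤ) ≤ (p : ℤ) * m := by positivity
    refine ⟨hk0, by omega, by omega⟩
  have hplus : ∀ i ∈ Xp, i ≠ one → p + 1 ≤ H12.degree (i : G → ℂ) := by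
    intro i hi hne1
    obtain ⟨hiX, hie⟩ := Finset.mem_filter.1 hi
    rw [Set.Finite.mem_toFinset] at hiX
    obtain ⟨h2, -⟩ := hdeg₀ i hiX
    rw [hie, mul_one] at h2
    have hpos := H12.irr_degree_pos i
    have h5 : H12.degree (i : G → ℂ) ≠ 1 := by
      intro h5
      obtain ⟨l, hl⟩ := H12.exists_monoidHom_of_apply_one_eq_one (H12.isCharacter_irr i)
        (by rw [H12.irr_apply_one, h5, Nat.cast_one])
      refine hne1 (Subtype.ext (funext fun y => ?_))
      rw [← congrFun hl y, hlin l, hone, H12.oneIrr_apply]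
      simp
    rcases Nat.lt_or_ge (s i) 2 with h6 | h6
    · exfalso
      interval_cases h7 : s i <;> omega
    · have : (p : ℤ) * 2 ≤ (p : ℤ) * s i :=
        mul_le_mul_of_nonneg_left (by exact_mod_cast h6) (by positivity)
      omega
  have honeP : one ∈ Xp :=
    Finset.mem_filter.2 ⟨(Set.Finite.mem_toFinset _).2 honeX, hone1⟩
  have hXpm : S₀.X.toFinite.toFinset.filter (fun i => ¬ S₀.εX i = 1) = Xm := by
    refine Finset.filter_congr fun i hi => ?_
    have := S₀.εX_eq i ((Set.Finite.mem_toFinset _).1 hi)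
    omega
  have hcardX : Xp.card + Xm.card = f := by
    rw [← hXpm, hXp, Finset.card_filter_add_card_filter_not, hfdef, ← S₀.card_X,
      ← Set.ncard_eq_toFinset_card, Nat.card_coe_set_eq]
  have hq0 : 1 ≤ Xp.card := Finset.card_pos.2 ⟨one, honeP⟩
  set Sp := ∑ i ∈ Xp, H12.degree (i : G → ℂ) with hSp
  have hSple : 1 + (Xp.card - 1) * (p + 1) ≤ Sp := by
    rw [hSp, ← Finset.add_sum_erase _ _ honeP]
    refine Nat.add_le_add (H12.irr_degree_pos one) ?_
    rw [← Finset.card_erase_of_mem honeP, ← smul_eq_mul]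
    exact Finset.card_nsmul_le_sum _ _ _ fun i hi =>
      hplus i (Finset.mem_of_mem_erase hi) (Finset.ne_of_mem_erase hi)
  obtain ⟨η₀, hη₀⟩ : S₀.Y.Nonempty := by
    refine Set.nonempty_iff_ne_empty.2 fun h => ?_
    have h1 := S₀.card_Y
    rw [h, Nat.card_coe_set_eq, Set.ncard_empty, Nat.zero_mul] at h1
    exact hp.out.ne_one h1.symm
  have hrel : S₀.ε * (H12.degree (η₀ : G → ℂ) : ℤ) = (Sp : ℤ) - (Xm.card : ℤ) * ((p : ℤ) - 1) := by
    have h1 := S₀.rel η₀ hη₀ ⟨1, by simp [hp.out.ne_one]⟩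
    rw [finsum_mem_eq_finite_toFinset_sum _ S₀.X.toFinite] at h1
    simp only [H12.irr_apply_one] at h1
    have h2 : S₀.ε * (H12.degree (η₀ : G → ℂ) : ℤ) =
        ∑ i ∈ S₀.X.toFinite.toFinset, S₀.εX i * (H12.degree (i : G → ℂ) : ℤ) := by
      exact_mod_cast h1
    rw [h2, ← Finset.sum_filter_add_sum_filter_not _ (fun i => S₀.εX i = 1), hXpm, ← hXp, hSp,
      Finset.sum_congr rfl (s₁ := Xp) (g := fun i => (H12.degree (i : G → ℂ) : ℤ)) fun i hi => by
        rw [(Finset.mem_filter.1 hi).2, one_mul],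
      Finset.sum_congr rfl (s₁ := Xm) (g := fun _ => -((p : ℤ) - 1)) fun i hi => by
        rw [(Finset.mem_filter.1 hi).2, (hmin i hi).2.1, Nat.cast_sub hp.out.one_le]; simp,
      Finset.sum_const, nsmul_eq_mul]
    push_cast
    ring
  have hlow : Xm.card * (p - 1) ≤ ∑ i ∈ Xm, k i * δ φ0 i := by
    rw [← smul_eq_mul]
    exact Finset.card_nsmul_le_sum _ _ _ fun i hi =>
      (hmin i hi).2.2.trans (Nat.le_mul_of_pos_left _ (Nat.pos_of_ne_zero (hmin i hi).1))
  have hfe : f * e ≤ f * e := le_rfl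
  have hkey : (f : ℤ) * d + f ≤ (p : ℤ) - 1 := by
    have h0 : f * d + f + 1 ≤ p := by rw [hdeg] at hn; exact hn
    have : ((f * d + f + 1 : ℕ) : ℤ) ≤ p := by exact_mod_cast h0
    push_cast at this
    linarith
  have hefZ : (e : ℤ) ≤ f := by exact_mod_cast hef
  have hdZ : (1 : ℤ) ≤ d := by exact_mod_cast hd0
  have hOfZ : (O : ℤ) * e = f := by exact_mod_cast hOe
  have he0Z : (1 : ℤ) ≤ e := by exact_mod_cast he0
  have hcase : 2 ≤ d ∨ 2 * e ≤ f := by
    rcases Nat.lt_or_ge d 2 with h | h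
    · right
      have h1 : d = 1 := by omega
      rw [h1, one_mul] at hdO
      exact hOe ▸ Nat.mul_le_mul_right e hdO
    · exact Or.inl h
  have hp1 : (2 : ℤ) ≤ f := by exact_mod_cast hf2
  have hSpZ : (1 : ℤ) + ((Xp.card : ℤ) - 1) * ((p : ℤ) + 1) ≤ Sp := by
    have := (Nat.cast_le (α := ℤ)).2 hSple
    push_cast [Nat.cast_sub hq0] at this
    exact this
  have hcZ : (Xp.card : ℤ) + Xm.card = f := by exact_mod_cast hcardX
  rcases S₀.ε_eq with hε₀ | hε₀
  · -- the exceptional characters occur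
    set E : G → ℂ := ∑ i ∈ S₀.Y.toFinite.toFinset, (i : G → ℂ) with hE
    have hEs : ∀ y : G, p ∣ orderOf y → E y = -1 := fun y hy =>
      D.apply_singular_eq (H12.IsClassFunction.sum _ fun i _ => H12.irr_isClassFunction i)
        (fun x hx hx1 h => by
          have hx' : (⟨x, hx⟩ : (P : Subgroup G)) ≠ 1 := fun h => hx1 (congrArg Subtype.val h)
          rw [Finset.sum_apply, Finset.sum_congr rfl fun (i : IrrCharacter G) hi =>
            show (i : G → ℂ) (x * h) = _ from
              hval₀ i (Or.inr ((Set.Finite.mem_toFinset _).1 hi)) ⟨x, hx⟩ hx' h,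
            D.sum_colY_one hM S₀ hx', hε₀]
          simp) hy
    have h1 := D.classInner_sub_classInner hne hreg hEs
    obtain ⟨k₀, hk₀⟩ := H12.IsCharacter.classInner_nat hF₀c
      (H12.IsCharacter.sum _ _ fun i _ => H12.isCharacter_irr i)
    rw [← hF, ← hF₀, ← hE] at *
    rw [hk₀, hE, H12.classInner_sum_right] at h1
    simp only [hkI] at h1
    have h2 : ∑ i ∈ S₀.Y.toFinite.toFinset, k i = k₀ + 1 := by
      have : ((∑ i ∈ S₀.Y.toFinite.toFinset, k i : ℕ) : ℂ) = ((k₀ + 1 : ℕ) : ℂ) := by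
        push_cast
        simp only [map_neg, map_one, neg_neg] at h1
        linear_combination h1
      exact_mod_cast this
    obtain ⟨η₁, hη₁, hk₁⟩ := Finset.exists_ne_zero_of_sum_ne_zero
      (by omega : ∑ i ∈ S₀.Y.toFinite.toFinset, k i ≠ 0)
    rw [Set.Finite.mem_toFinset] at hη₁
    obtain ⟨h3, m, h4⟩ := hdegY η₁ hη₁
    rw [hks η₁ hk₁, hε₀] at h3
    rw [hε₀] at h4
    have h5 : (0 : ℤ) ≤ (p : ℤ) * m := by positivity
    have hδ₁ : f ≤ δ φ0 η₁ := by omega
    have hdeg₁ : H12.degree (η₀ : G → ℂ) = f := by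
      have h6 := congrFun (S₀.regY η₀ hη₀ η₁ hη₁) ⟨1, by simp [hp.out.ne_one]⟩
      simp only [H12.irr_apply_one] at h6
      have h7 : H12.degree (η₀ : G → ℂ) = H12.degree (η₁ : G → ℂ) := by exact_mod_cast h6
      omega
    have hnot : η₁ ∉ Xm := fun h => Set.disjoint_left.1 S₀.disj
      ((Set.Finite.mem_toFinset _).1 (Finset.mem_filter.1 h).1) hη₁
    have h8 : Xm.card * (p - 1) + f ≤ f * e := by
      refine le_trans ?_ (hD.le.trans hfe)
      refine le_trans ?_ (Finset.sum_le_sum_of_subset (Finset.subset_univ (insert η₁ Xm)))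
      rw [Finset.sum_insert hnot, add_comm]
      exact Nat.add_le_add (hδ₁.trans (Nat.le_mul_of_pos_left _ (Nat.pos_of_ne_zero hk₁))) hlow
    rw [hε₀, hdeg₁, one_mul] at hrel
    have h9 : (Xm.card : ℤ) * ((p : ℤ) - 1) + f ≤ (f : ℤ) * e := by
      have := (Nat.cast_le (α := ℤ)).2 h8
      push_cast [Nat.cast_sub hp.out.one_le] at this
      exact this
    have h10 : (p : ℤ) * ((f : ℤ) - 1) ≤ (p : ℤ) * (2 * Xm.card) := by nlinarith
    have h11 : ((f : ℤ) - 1) ≤ 2 * Xm.card :=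
      le_of_mul_le_mul_left h10 (by exact_mod_cast hp.out.pos)
    have h12 : ((f : ℤ) - 1) * ((p : ℤ) - 1) + 2 * f ≤ 2 * f * e := by
      have h13 := mul_le_mul_of_nonneg_right h11
        (show (0 : ℤ) ≤ (p : ℤ) - 1 by have := hp.out.one_le; omega)
      nlinarith
    have h14 : (f : ℤ) * (((f : ℤ) - 1) * (d + 1) + 2) ≤ (f : ℤ) * (2 * e) := by
      have h13 := mul_le_mul_of_nonneg_left hkey (show (0 : ℤ) ≤ (f : ℤ) - 1 by linarith)
      nlinarith
    have h15 : ((f : ℤ) - 1) * (d + 1) + 2 ≤ 2 * e := le_of_mul_le_mul_left h14 (by linarith)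
    rcases hcase with h | h
    · have h16 : (2 : ℤ) ≤ d := by exact_mod_cast h
      nlinarith
    · have h16 : (2 : ℤ) * e ≤ f := by exact_mod_cast h
      nlinarith
  · obtain ⟨h3, -⟩ := hdegY η₀ hη₀
    rw [hε₀] at h3 hrel
    have h4 : (p : ℤ) ≤ H12.degree (η₀ : G → ℂ) + f := by
      rcases Nat.eq_zero_or_pos (s η₀) with h5 | h5
      · rw [h5] at h3
        have := H12.irr_degree_pos η₀
        omega
      · have : (p : ℤ) * 1 ≤ (p : ℤ) * s η₀ :=
          mul_le_mul_of_nonneg_left (by exact_mod_cast h5) (by positivity)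
        omega
    have h8 : Xm.card * (p - 1) ≤ f * e := hlow.trans
      ((Finset.sum_le_sum_of_subset (Finset.subset_univ Xm)).trans (hD.le.trans hfe))
    have h9 : (Xm.card : ℤ) * ((p : ℤ) - 1) ≤ (f : ℤ) * e := by
      have := (Nat.cast_le (α := ℤ)).2 h8
      push_cast [Nat.cast_sub hp.out.one_le] at this
      exact this
    have h10 : (p : ℤ) * f ≤ (p : ℤ) * (2 * Xm.card) := by nlinarith
    have h11 : (f : ℤ) ≤ 2 * Xm.card :=
      le_of_mul_le_mul_left h10 (by exact_mod_cast hp.out.pos)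
    have h12 : (f : ℤ) * ((p : ℤ) - 1) ≤ (f : ℤ) * (2 * e) := by
      have h13 := mul_le_mul_of_nonneg_right h11
        (show (0 : ℤ) ≤ (p : ℤ) - 1 by have := hp.out.one_le; omega)
      nlinarith
    have h14 : (p : ℤ) - 1 ≤ 2 * e := le_of_mul_le_mul_left h12 (by linarith)
    have h15 : (f : ℤ) * d + f ≤ 2 * e := by linarith
    rcases hcase with h | h
    · have h16 : (2 : ℤ) ≤ d := by exact_mod_cast h
      nlinarith
    · have h16 : (2 : ℤ) * e ≤ f := by exact_mod_cast h
      nlinarith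

end H85.D1.Setting
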