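import Cfsg.Agent.H15.Degree.Moment

/-!
Degrees below `p - 1` (helper15): two classes of elements of order `p`; the inequalities between
real numbers used in the case analysis.
-/

set_option autoImplicit false
set_option maxHeartbeats 1000000
set_option linter.unusedVariables false

namespace H15.Degree.Bounds

theorem contra {c f N N₀ L L₀ : ℝ} (h : c ≤ f * N * L) (hL : L ≤ L₀) (hc : c < 0)
    (h₀ : f * N₀ * L₀ < c) (hN : N₀ ≤ N) (hN₀ : 0 ≤ N₀) (hf : 0 ≤ f) : False := by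
  have h1 : 0 ≤ f * N₀ := mul_nonneg hf hN₀
  have hL₀ : L₀ ≤ 0 := by
    by_contra h2
    nlinarith
  have h3 : f * N * L ≤ f * N * L₀ := mul_le_mul_of_nonneg_left hL (by nlinarith)
  have h4 : f * N * L₀ ≤ f * N₀ * L₀ :=
    mul_le_mul_of_nonpos_right (mul_le_mul_of_nonneg_left hN hf) hL₀
  linarith

/-- The slope of the pointwise inequality. -/
noncomputable def slope (F U : ℝ) : ℝ := (F * U - (2 * F + 1) / 2) / U ^ 2

theorem num_C (s F p n U m q r : ℝ) (hs : 0 ≤ s) (hF : F = 6 + s) (hp : p = 2*F+1) (hn : n = F+1)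
    (hU : U = F) (hm : m = n) (hq : q = 4*F+1) (hr : r = 4*F+3) :
    let μ := slope F U
    let k := 2*F*n/p
    let S₂ := 1+(F/2-1)/(4*n^2)+(F/2)/(4*F^2)+1/(8*m^2)
    let E₁ := 1+(F/2-1)/(2*n)-(F/2)/(2*F)+1/(4*m)
    let L := p*(p^2/4 - p*k + k^2*S₂) - 2*(p/2 - k*E₁)^2 - μ^2*((F/2+2)*p - (n^2-F^2/2) - F)
    F*(1+7*p)*L < (F*n - p/2)^2 - μ^2*(n^4 - n^2) ∧ (F*n - p/2)^2 - μ^2*(n^4 - n^2) < 0 := by
  intro μ k S₂ E₁ L
  simp only [L, S₂, E₁, k, μ, slope, ← hp]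
  have : F ≠ 0 := by rw [hF]; linarith
  have : p ≠ 0 := by linarith
  have : n ≠ 0 := by linarith
  have : U ≠ 0 := by linarith
  have : m ≠ 0 := by linarith
  have : q ≠ 0 := by linarith
  have : r ≠ 0 := by linarith
  refine ⟨?_, ?_⟩
  · rw [← sub_pos]
    field_simp
    refine lt_of_eq_of_lt (by ring) (div_pos ?_ (by positivity))
    subst hU hm hq hr hp hn hF
    ring_nf
    positivity
  · rw [← neg_pos, neg_sub]
    field_simp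
    refine lt_of_eq_of_lt (by ring) (div_pos ?_ (by positivity))
    subst hU hm hq hr hp hn hF
    ring_nf
    positivity

theorem bound_C {f n p N Q : ℕ} (hf : 6 ≤ f) (hpar : Even f) (hn : n = f + 1) (hp : f * 2 + 1 = p)
    (hQ : f + 4 ≤ 2 * Q) (hN : 1 + 7 * p ≤ N) {S₂ E₁ : ℝ}
    (hS : S₂ = 1+((f:ℝ)/2-1)/(4*((f:ℝ)+1)^2)+((f:ℝ)/2)/(4*(f:ℝ)^2)+1/(8*(((f:ℝ)+1))^2))
    (hE : E₁ = 1+((f:ℝ)/2-1)/(2*((f:ℝ)+1))-((f:ℝ)/2)/(2*(f:ℝ))+1/(4*(((f:ℝ)+1))))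
    (h : ((f : ℝ) * n - (p : ℝ) / 2) ^ 2 - slope f ((f:ℝ)) ^ 2 * ((n : ℝ) ^ 4 - (n : ℝ) ^ 2) ≤
      (f : ℝ) * N * momentL p f n S₂ E₁ Q (slope f ((f:ℝ)))) : False := by
  have hnR : (n : ℝ) = (f : ℝ) + 1 := by exact_mod_cast hn
  have hpR : (p : ℝ) = 2 * (f : ℝ) + 1 := by
    rw [← hp]; push_cast; ring
  have hfR : (6 : ℝ) ≤ (f : ℝ) := by exact_mod_cast hf
  obtain ⟨h1, h2⟩ := num_C ((f : ℝ) - 6) (f : ℝ) (p : ℝ) (n : ℝ) _ _ _ _ (by linarith) (by ring) hpR hnR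
    rfl rfl rfl rfl
  rw [momentL, if_pos hpar, hS, hE] at h
  refine contra h ?_ (by rw [hnR] at h2 ⊢; exact h2) (by rw [hnR] at h1 ⊢; exact h1) ?_ (by positivity) (Nat.cast_nonneg f)
  · have hQR : ((f:ℝ)/2+2) ≤ (Q : ℝ) := by
      have : ((f + 4 : ℕ) : ℝ) ≤ ((2 * Q : ℕ) : ℝ) := Nat.cast_le.2 hQ
      push_cast at this
      linarith
    have h3 := mul_le_mul_of_nonneg_right hQR (Nat.cast_nonneg (α := ℝ) p)
    have h4 := mul_le_mul_of_nonneg_left h3 (sq_nonneg (slope (f:ℝ) ((f:ℝ))))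
    rw [hnR]
    linarith
  · exact_mod_cast hN

theorem num_D1 (s F p n U m q r : ℝ) (hs : 0 ≤ s) (hF : F = 6 + s) (hp : p = 2*F+1) (hn : n = F+1)
    (hU : U = F-1) (hm : m = n) (hq : q = 4*F+1) (hr : r = 4*F+3) :
    let μ := slope F U
    let k := 2*F*n/p
    let S₂ := 1+(F/2-2)/(4*n^2)+1/r^2+(F/2-1)/(4*F^2)+1/q^2+1/(8*m^2)
    let E₁ := 1+(F/2-2)/(2*n)+1/r-(F/2-1)/(2*F)-1/q+1/(4*m)
    let L := p*(p^2/4 - p*k + k^2*S₂) - 2*(p/2 - k*E₁)^2 - μ^2*((F/2+1)*p - (n^2-F^2/2) - F)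
    F*(1+33*p)*L < (F*n - p/2)^2 - μ^2*(n^4 - n^2) ∧ (F*n - p/2)^2 - μ^2*(n^4 - n^2) < 0 := by
  intro μ k S₂ E₁ L
  simp only [L, S₂, E₁, k, μ, slope, ← hp]
  have : F ≠ 0 := by rw [hF]; linarith
  have : p ≠ 0 := by linarith
  have : n ≠ 0 := by linarith
  have : U ≠ 0 := by linarith
  have : m ≠ 0 := by linarith
  have : q ≠ 0 := by linarith
  have : r ≠ 0 := by linarith
  refine ⟨?_, ?_⟩
  · rw [← sub_pos]
    field_simp
    refine lt_of_eq_of_lt (by ring) (div_pos ?_ (by positivity))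
    subst hU hm hq hr hp hn hF
    ring_nf
    positivity
  · rw [← neg_pos, neg_sub]
    field_simp
    refine lt_of_eq_of_lt (by ring) (div_pos ?_ (by positivity))
    subst hU hm hq hr hp hn hF
    ring_nf
    positivity

theorem bound_D1 {f n p N Q : ℕ} (hf : 6 ≤ f) (hpar : Even f) (hn : n = f + 1) (hp : f * 2 + 1 = p)
    (hQ : f + 2 ≤ 2 * Q) (hN : 1 + 33 * p ≤ N) {S₂ E₁ : ℝ}
    (hS : S₂ = 1+((f:ℝ)/2-2)/(4*((f:ℝ)+1)^2)+1/(4*(f:ℝ)+3)^2+((f:ℝ)/2-1)/(4*(f:ℝ)^2)+1/(4*(f:ℝ)+1)^2+1/(8*(((f:ℝ)+1))^2))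
    (hE : E₁ = 1+((f:ℝ)/2-2)/(2*((f:ℝ)+1))+1/(4*(f:ℝ)+3)-((f:ℝ)/2-1)/(2*(f:ℝ))-1/(4*(f:ℝ)+1)+1/(4*(((f:ℝ)+1))))
    (h : ((f : ℝ) * n - (p : ℝ) / 2) ^ 2 - slope f ((f:ℝ)-1) ^ 2 * ((n : ℝ) ^ 4 - (n : ℝ) ^ 2) ≤
      (f : ℝ) * N * momentL p f n S₂ E₁ Q (slope f ((f:ℝ)-1))) : False := by
  have hnR : (n : ℝ) = (f : ℝ) + 1 := by exact_mod_cast hn
  have hpR : (p : ℝ) = 2 * (f : ℝ) + 1 := by
    rw [← hp]; push_cast; ring
  have hfR : (6 : ℝ) ≤ (f : ℝ) := by exact_mod_cast hf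
  obtain ⟨h1, h2⟩ := num_D1 ((f : ℝ) - 6) (f : ℝ) (p : ℝ) (n : ℝ) _ _ _ _ (by linarith) (by ring) hpR hnR
    rfl rfl rfl rfl
  rw [momentL, if_pos hpar, hS, hE] at h
  refine contra h ?_ (by rw [hnR] at h2 ⊢; exact h2) (by rw [hnR] at h1 ⊢; exact h1) ?_ (by positivity) (Nat.cast_nonneg f)
  · have hQR : ((f:ℝ)/2+1) ≤ (Q : ℝ) := by
      have : ((f + 2 : ℕ) : ℝ) ≤ ((2 * Q : ℕ) : ℝ) := Nat.cast_le.2 hQ
      push_cast at this
      linarith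
    have h3 := mul_le_mul_of_nonneg_right hQR (Nat.cast_nonneg (α := ℝ) p)
    have h4 := mul_le_mul_of_nonneg_left h3 (sq_nonneg (slope (f:ℝ) ((f:ℝ)-1)))
    rw [hnR]
    linarith
  · exact_mod_cast hN

theorem num_D2 (s F p n U m q r : ℝ) (hs : 0 ≤ s) (hF : F = 8 + s) (hp : p = 2*F+1) (hn : n = F+1)
    (hU : U = n-21/10) (hm : m = 3*F+2) (hq : q = 4*F+1) (hr : r = 4*F+3) :
    let μ := slope F U
    let k := 2*F*n/p
    let S₂ := 1+(F/2-1)/(4*n^2)+(F/2-1)/(4*F^2)+1/q^2+1/(8*m^2)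
    let E₁ := 1+(F/2-1)/(2*n)-(F/2-1)/(2*F)-1/q+1/(4*m)
    let L := p*(p^2/4 - p*k + k^2*S₂) - 2*(p/2 - k*E₁)^2 - μ^2*((F/2+1)*p - (n^2-F^2/2) - F)
    F*(1+64*p)*L < (F*n - p/2)^2 - μ^2*(n^4 - n^2) ∧ (F*n - p/2)^2 - μ^2*(n^4 - n^2) < 0 := by
  intro μ k S₂ E₁ L
  simp only [L, S₂, E₁, k, μ, slope, ← hp]
  have : F ≠ 0 := by rw [hF]; linarith
  have : p ≠ 0 := by linarith
  have : n ≠ 0 := by linarith
  have : U ≠ 0 := by linarith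
  have : m ≠ 0 := by linarith
  have : q ≠ 0 := by linarith
  have : r ≠ 0 := by linarith
  refine ⟨?_, ?_⟩
  · rw [← sub_pos]
    field_simp
    refine lt_of_eq_of_lt (by ring) (div_pos ?_ (by positivity))
    subst hU hm hq hr hp hn hF
    ring_nf
    positivity
  · rw [← neg_pos, neg_sub]
    field_simp
    refine lt_of_eq_of_lt (by ring) (div_pos ?_ (by positivity))
    subst hU hm hq hr hp hn hF
    ring_nf
    positivity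

theorem bound_D2 {f n p N Q : ℕ} (hf : 8 ≤ f) (hpar : Even f) (hn : n = f + 1) (hp : f * 2 + 1 = p)
    (hQ : f + 2 ≤ 2 * Q) (hN : 1 + 64 * p ≤ N) {S₂ E₁ : ℝ}
    (hS : S₂ = 1+((f:ℝ)/2-1)/(4*((f:ℝ)+1)^2)+((f:ℝ)/2-1)/(4*(f:ℝ)^2)+1/(4*(f:ℝ)+1)^2+1/(8*(3*(f:ℝ)+2)^2))
    (hE : E₁ = 1+((f:ℝ)/2-1)/(2*((f:ℝ)+1))-((f:ℝ)/2-1)/(2*(f:ℝ))-1/(4*(f:ℝ)+1)+1/(4*(3*(f:ℝ)+2)))
    (h : ((f : ℝ) * n - (p : ℝ) / 2) ^ 2 - slope f (((f:ℝ)+1)-21/10) ^ 2 * ((n : ℝ) ^ 4 - (n : ℝ) ^ 2) ≤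
      (f : ℝ) * N * momentL p f n S₂ E₁ Q (slope f (((f:ℝ)+1)-21/10))) : False := by
  have hnR : (n : ℝ) = (f : ℝ) + 1 := by exact_mod_cast hn
  have hpR : (p : ℝ) = 2 * (f : ℝ) + 1 := by
    rw [← hp]; push_cast; ring
  have hfR : (8 : ℝ) ≤ (f : ℝ) := by exact_mod_cast hf
  obtain ⟨h1, h2⟩ := num_D2 ((f : ℝ) - 8) (f : ℝ) (p : ℝ) (n : ℝ) _ _ _ _ (by linarith) (by ring) hpR hnR
    rfl rfl rfl rfl
  rw [momentL, if_pos hpar, hS, hE] at h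
  refine contra h ?_ (by rw [hnR] at h2 ⊢; exact h2) (by rw [hnR] at h1 ⊢; exact h1) ?_ (by positivity) (Nat.cast_nonneg f)
  · have hQR : ((f:ℝ)/2+1) ≤ (Q : ℝ) := by
      have : ((f + 2 : ℕ) : ℝ) ≤ ((2 * Q : ℕ) : ℝ) := Nat.cast_le.2 hQ
      push_cast at this
      linarith
    have h3 := mul_le_mul_of_nonneg_right hQR (Nat.cast_nonneg (α := ℝ) p)
    have h4 := mul_le_mul_of_nonneg_left h3 (sq_nonneg (slope (f:ℝ) (((f:ℝ)+1)-21/10)))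
    rw [hnR]
    linarith
  · exact_mod_cast hN

theorem num_D6 (F p n U m q r : ℝ) (hF : F = 6) (hp : p = 2*F+1) (hn : n = F+1)
    (hU : U = 24/5) (hm : m = 3*F+2) (hq : q = 4*F+1) (hr : r = 4*F+3) :
    let μ := slope F U
    let k := 2*F*n/p
    let S₂ := 1+(F/2-1)/(4*n^2)+(F/2-1)/(4*F^2)+1/q^2+1/(8*m^2)
    let E₁ := 1+(F/2-1)/(2*n)-(F/2-1)/(2*F)-1/q+1/(4*m)
    let L := p*(p^2/4 - p*k + k^2*S₂) - 2*(p/2 - k*E₁)^2 - μ^2*((F/2+1)*p - (n^2-F^2/2) - F)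
    F*(1+148*p)*L < (F*n - p/2)^2 - μ^2*(n^4 - n^2) ∧ (F*n - p/2)^2 - μ^2*(n^4 - n^2) < 0 := by
  intro μ k S₂ E₁ L
  simp only [L, S₂, E₁, k, μ, slope]
  subst hU hm hq hr hn hp hF
  norm_num

theorem bound_D6 {f n p N Q : ℕ} (hf : f = 6) (hpar : Even f) (hn : n = f + 1) (hp : f * 2 + 1 = p)
    (hQ : f + 2 ≤ 2 * Q) (hN : 1 + 148 * p ≤ N) {S₂ E₁ : ℝ}
    (hS : S₂ = 1+((f:ℝ)/2-1)/(4*((f:ℝ)+1)^2)+((f:ℝ)/2-1)/(4*(f:ℝ)^2)+1/(4*(f:ℝ)+1)^2+1/(8*(3*(f:ℝ)+2)^2))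
    (hE : E₁ = 1+((f:ℝ)/2-1)/(2*((f:ℝ)+1))-((f:ℝ)/2-1)/(2*(f:ℝ))-1/(4*(f:ℝ)+1)+1/(4*(3*(f:ℝ)+2)))
    (h : ((f : ℝ) * n - (p : ℝ) / 2) ^ 2 - slope f (24/5) ^ 2 * ((n : ℝ) ^ 4 - (n : ℝ) ^ 2) ≤
      (f : ℝ) * N * momentL p f n S₂ E₁ Q (slope f (24/5))) : False := by
  have hnR : (n : ℝ) = (f : ℝ) + 1 := by exact_mod_cast hn
  have hpR : (p : ℝ) = 2 * (f : ℝ) + 1 := by
    rw [← hp]; push_cast; ring
  have hfR : (6 : ℝ) = (f : ℝ) := by exact_mod_cast hf.symm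
  obtain ⟨h1, h2⟩ := num_D6 (f : ℝ) (p : ℝ) (n : ℝ) _ _ _ _ hfR.symm hpR hnR
    rfl rfl rfl rfl
  rw [momentL, if_pos hpar, hS, hE] at h
  refine contra h ?_ (by rw [hnR] at h2 ⊢; exact h2) (by rw [hnR] at h1 ⊢; exact h1) ?_ (by positivity) (Nat.cast_nonneg f)
  · have hQR : ((f:ℝ)/2+1) ≤ (Q : ℝ) := by
      have : ((f + 2 : ℕ) : ℝ) ≤ ((2 * Q : ℕ) : ℝ) := Nat.cast_le.2 hQ
      push_cast at this
      linarith
    have h3 := mul_le_mul_of_nonneg_right hQR (Nat.cast_nonneg (α := ℝ) p)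
    have h4 := mul_le_mul_of_nonneg_left h3 (sq_nonneg (slope (f:ℝ) (24/5)))
    rw [hnR]
    linarith
  · exact_mod_cast hN

theorem num_A (s F p n U m q r : ℝ) (hs : 0 ≤ s) (hF : F = 11 + s) (hp : p = 2*F+1) (hn : n = F+1)
    (hU : U = F) (hm : m = n) (hq : q = 4*F+1) (hr : r = 4*F+3) :
    let μ := slope F U
    let k := 2*F*n/p
    let S₂ := 1+((F-5)/2)/(4*n^2)+1/r^2+((F+1)/2)/(4*F^2)+1/(8*m^2)
    let E₁ := 1+((F-5)/2)/(2*n)+1/r-((F+1)/2)/(2*F)+1/(4*m)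
    let L := p*(p^2/4 - p*k + k^2*S₂) - 2*(p/2 - k*E₁)^2 - μ^2*(((F+3)/2)*p - (n^2/2) - F)
    F*(1+7*p)*L < (F*n - p/2)^2 - μ^2*(n^4 - n^2) ∧ (F*n - p/2)^2 - μ^2*(n^4 - n^2) < 0 := by
  intro μ k S₂ E₁ L
  simp only [L, S₂, E₁, k, μ, slope, ← hp]
  have : F ≠ 0 := by rw [hF]; linarith
  have : p ≠ 0 := by linarith
  have : n ≠ 0 := by linarith
  have : U ≠ 0 := by linarith
  have : m ≠ 0 := by linarith
  have : q ≠ 0 := by linarith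
  have : r ≠ 0 := by linarith
  refine ⟨?_, ?_⟩
  · rw [← sub_pos]
    field_simp
    refine lt_of_eq_of_lt (by ring) (div_pos ?_ (by positivity))
    subst hU hm hq hr hp hn hF
    ring_nf
    positivity
  · rw [← neg_pos, neg_sub]
    field_simp
    refine lt_of_eq_of_lt (by ring) (div_pos ?_ (by positivity))
    subst hU hm hq hr hp hn hF
    ring_nf
    positivity

theorem bound_A {f n p N Q : ℕ} (hf : 11 ≤ f) (hpar : Odd f) (hn : n = f + 1) (hp : f * 2 + 1 = p)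
    (hQ : f + 3 ≤ 2 * Q) (hN : 1 + 7 * p ≤ N) {S₂ E₁ : ℝ}
    (hS : S₂ = 1+(((f:ℝ)-5)/2)/(4*((f:ℝ)+1)^2)+1/(4*(f:ℝ)+3)^2+(((f:ℝ)+1)/2)/(4*(f:ℝ)^2)+1/(8*(((f:ℝ)+1))^2))
    (hE : E₁ = 1+(((f:ℝ)-5)/2)/(2*((f:ℝ)+1))+1/(4*(f:ℝ)+3)-(((f:ℝ)+1)/2)/(2*(f:ℝ))+1/(4*(((f:ℝ)+1))))
    (h : ((f : ℝ) * n - (p : ℝ) / 2) ^ 2 - slope f ((f:ℝ)) ^ 2 * ((n : ℝ) ^ 4 - (n : ℝ) ^ 2) ≤
      (f : ℝ) * N * momentL p f n S₂ E₁ Q (slope f ((f:ℝ)))) : False := by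
  have hnR : (n : ℝ) = (f : ℝ) + 1 := by exact_mod_cast hn
  have hpR : (p : ℝ) = 2 * (f : ℝ) + 1 := by
    rw [← hp]; push_cast; ring
  have hfR : (11 : ℝ) ≤ (f : ℝ) := by exact_mod_cast hf
  obtain ⟨h1, h2⟩ := num_A ((f : ℝ) - 11) (f : ℝ) (p : ℝ) (n : ℝ) _ _ _ _ (by linarith) (by ring) hpR hnR
    rfl rfl rfl rfl
  rw [momentL, if_neg (Nat.not_even_iff_odd.2 hpar), hS, hE] at h
  refine contra h ?_ (by rw [hnR] at h2 ⊢; exact h2) (by rw [hnR] at h1 ⊢; exact h1) ?_ (by positivity) (Nat.cast_nonneg f)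
  · have hQR : (((f:ℝ)+3)/2) ≤ (Q : ℝ) := by
      have : ((f + 3 : ℕ) : ℝ) ≤ ((2 * Q : ℕ) : ℝ) := Nat.cast_le.2 hQ
      push_cast at this
      linarith
    have h3 := mul_le_mul_of_nonneg_right hQR (Nat.cast_nonneg (α := ℝ) p)
    have h4 := mul_le_mul_of_nonneg_left h3 (sq_nonneg (slope (f:ℝ) ((f:ℝ))))
    rw [hnR]
    linarith
  · exact_mod_cast hN

theorem num_B (s F p n U m q r : ℝ) (hs : 0 ≤ s) (hF : F = 11 + s) (hp : p = 2*F+1) (hn : n = F+1)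
    (hU : U = n-21/10) (hm : m = 3*F+1) (hq : q = 4*F+1) (hr : r = 4*F+3) :
    let μ := slope F U
    let k := 2*F*n/p
    let S₂ := 1+((F-3)/2)/(4*n^2)+1/r^2+((F-1)/2)/(4*F^2)+1/(8*m^2)
    let E₁ := 1+((F-3)/2)/(2*n)+1/r-((F-1)/2)/(2*F)-1/(4*m)
    let L := p*(p^2/4 - p*k + k^2*S₂) - 2*(p/2 - k*E₁)^2 - μ^2*(((F+1)/2)*p - (n^2/2) - F)
    F*(1+49*p)*L < (F*n - p/2)^2 - μ^2*(n^4 - n^2) ∧ (F*n - p/2)^2 - μ^2*(n^4 - n^2) < 0 := by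
  intro μ k S₂ E₁ L
  simp only [L, S₂, E₁, k, μ, slope, ← hp]
  have : F ≠ 0 := by rw [hF]; linarith
  have : p ≠ 0 := by linarith
  have : n ≠ 0 := by linarith
  have : U ≠ 0 := by linarith
  have : m ≠ 0 := by linarith
  have : q ≠ 0 := by linarith
  have : r ≠ 0 := by linarith
  refine ⟨?_, ?_⟩
  · rw [← sub_pos]
    field_simp
    refine lt_of_eq_of_lt (by ring) (div_pos ?_ (by positivity))
    subst hU hm hq hr hp hn hF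
    ring_nf
    positivity
  · rw [← neg_pos, neg_sub]
    field_simp
    refine lt_of_eq_of_lt (by ring) (div_pos ?_ (by positivity))
    subst hU hm hq hr hp hn hF
    ring_nf
    positivity

theorem bound_B {f n p N Q : ℕ} (hf : 11 ≤ f) (hpar : Odd f) (hn : n = f + 1) (hp : f * 2 + 1 = p)
    (hQ : f + 1 ≤ 2 * Q) (hN : 1 + 49 * p ≤ N) {S₂ E₁ : ℝ}
    (hS : S₂ = 1+(((f:ℝ)-3)/2)/(4*((f:ℝ)+1)^2)+1/(4*(f:ℝ)+3)^2+(((f:ℝ)-1)/2)/(4*(f:ℝ)^2)+1/(8*(3*(f:ℝ)+1)^2))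
    (hE : E₁ = 1+(((f:ℝ)-3)/2)/(2*((f:ℝ)+1))+1/(4*(f:ℝ)+3)-(((f:ℝ)-1)/2)/(2*(f:ℝ))-1/(4*(3*(f:ℝ)+1)))
    (h : ((f : ℝ) * n - (p : ℝ) / 2) ^ 2 - slope f (((f:ℝ)+1)-21/10) ^ 2 * ((n : ℝ) ^ 4 - (n : ℝ) ^ 2) ≤
      (f : ℝ) * N * momentL p f n S₂ E₁ Q (slope f (((f:ℝ)+1)-21/10))) : False := by
  have hnR : (n : ℝ) = (f : ℝ) + 1 := by exact_mod_cast hn
  have hpR : (p : ℝ) = 2 * (f : ℝ) + 1 := by
    rw [← hp]; push_cast; ring
  have hfR : (11 : ℝ) ≤ (f : ℝ) := by exact_mod_cast hf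
  obtain ⟨h1, h2⟩ := num_B ((f : ℝ) - 11) (f : ℝ) (p : ℝ) (n : ℝ) _ _ _ _ (by linarith) (by ring) hpR hnR
    rfl rfl rfl rfl
  rw [momentL, if_neg (Nat.not_even_iff_odd.2 hpar), hS, hE] at h
  refine contra h ?_ (by rw [hnR] at h2 ⊢; exact h2) (by rw [hnR] at h1 ⊢; exact h1) ?_ (by positivity) (Nat.cast_nonneg f)
  · have hQR : (((f:ℝ)+1)/2) ≤ (Q : ℝ) := by
      have : ((f + 1 : ℕ) : ℝ) ≤ ((2 * Q : ℕ) : ℝ) := Nat.cast_le.2 hQ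
      push_cast at this
      linarith
    have h3 := mul_le_mul_of_nonneg_right hQR (Nat.cast_nonneg (α := ℝ) p)
    have h4 := mul_le_mul_of_nonneg_left h3 (sq_nonneg (slope (f:ℝ) (((f:ℝ)+1)-21/10)))
    rw [hnR]
    linarith
  · exact_mod_cast hN

theorem num_D2w1 (s t F n m q r u v : ℝ) (hs : 0 ≤ s) (ht : 0 ≤ t) (hF : F = 6 + s)
    (hn : n = F+1) (hm : m = 3*F+2) (hq : q = 4*F+1) (hr : r = 4*F+3) (hv : v = 1 + t)
    (hu : u = n - (1051/500)/v) :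
    n*((u^2 - 1 + n/q*(n^2 - u^2)) - F*u) < u^2 - n := by
  subst hu
  have : F ≠ 0 := by linarith
  have : n ≠ 0 := by linarith
  have : m ≠ 0 := by linarith
  have : q ≠ 0 := by linarith
  have : r ≠ 0 := by linarith
  have : v ≠ 0 := by linarith
  rw [← sub_pos]
  field_simp
  refine lt_of_eq_of_lt (by ring) (div_pos ?_ (by subst hv hm hq hr hn hF; positivity))
  subst hv hm hq hr hn hF
  ring_nf
  positivity

theorem num_D2w1n (s t F n m q r u v : ℝ) (hs : 0 ≤ s) (ht : 0 ≤ t) (hF : F = 6 + s)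
    (hn : n = F+1) (hm : m = 3*F+2) (hq : q = 4*F+1) (hr : r = 4*F+3) (hv : v = 1 + t)
    (hu : u = n - (1051/500)/v) :
    -(n*((u^2 - 1 + n/q*(n^2 - u^2)) - F*u)) < u^2 - n := by
  subst hu
  have : F ≠ 0 := by linarith
  have : n ≠ 0 := by linarith
  have : m ≠ 0 := by linarith
  have : q ≠ 0 := by linarith
  have : r ≠ 0 := by linarith
  have : v ≠ 0 := by linarith
  rw [← sub_pos]
  field_simp
  refine lt_of_eq_of_lt (by ring) (div_pos ?_ (by subst hv hm hq hr hn hF; positivity))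
  subst hv hm hq hr hn hF
  ring_nf
  positivity

theorem num_D2w0 (s t F n m q r u v : ℝ) (hs : 0 ≤ s) (ht : 0 ≤ t) (hF : F = 6 + s)
    (hn : n = F+1) (hm : m = 3*F+2) (hq : q = 4*F+1) (hr : r = 4*F+3) (hv : v = 1 + t)
    (hu : u = n - (1051/500)/v) :
    ((u^2 - 1 + n/q*(n^2 - u^2)) - F/m*(m - (n^2 - u^2)))^2 + (F*n/m*(m - (n^2 - u^2)))^2 < F^2*u^2 + (u^2 - n)^2 := by
  subst hu
  have : F ≠ 0 := by linarith
  have : n ≠ 0 := by linarith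
  have : m ≠ 0 := by linarith
  have : q ≠ 0 := by linarith
  have : r ≠ 0 := by linarith
  have : v ≠ 0 := by linarith
  rw [← sub_pos]
  field_simp
  refine lt_of_eq_of_lt (by ring) (div_pos ?_ (by subst hv hm hq hr hn hF; positivity))
  subst hv hm hq hr hn hF
  ring_nf
  positivity

theorem num_Bw1 (s t F n m q r u v : ℝ) (hs : 0 ≤ s) (ht : 0 ≤ t) (hF : F = 11 + s)
    (hn : n = F+1) (hm : m = 3*F+1) (hq : q = 4*F+1) (hr : r = 4*F+3) (hv : v = 1 + t)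
    (hu : u = n - (1051/500)/v) :
    F*((u^2 + F/r*(n^2 - u^2)) - F*u) < u^2 - u := by
  subst hu
  have : F ≠ 0 := by linarith
  have : n ≠ 0 := by linarith
  have : m ≠ 0 := by linarith
  have : q ≠ 0 := by linarith
  have : r ≠ 0 := by linarith
  have : v ≠ 0 := by linarith
  rw [← sub_pos]
  field_simp
  refine lt_of_eq_of_lt (by ring) (div_pos ?_ (by subst hv hm hq hr hn hF; positivity))
  subst hv hm hq hr hn hF
  ring_nf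
  positivity

theorem num_Bw1n (s t F n m q r u v : ℝ) (hs : 0 ≤ s) (ht : 0 ≤ t) (hF : F = 11 + s)
    (hn : n = F+1) (hm : m = 3*F+1) (hq : q = 4*F+1) (hr : r = 4*F+3) (hv : v = 1 + t)
    (hu : u = n - (1051/500)/v) :
    -(F*((u^2 + F/r*(n^2 - u^2)) - F*u)) < u^2 - u := by
  subst hu
  have : F ≠ 0 := by linarith
  have : n ≠ 0 := by linarith
  have : m ≠ 0 := by linarith
  have : q ≠ 0 := by linarith
  have : r ≠ 0 := by linarith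
  have : v ≠ 0 := by linarith
  rw [← sub_pos]
  field_simp
  refine lt_of_eq_of_lt (by ring) (div_pos ?_ (by subst hv hm hq hr hn hF; positivity))
  subst hv hm hq hr hn hF
  ring_nf
  positivity

theorem num_Bw0 (s t F n m q r u v : ℝ) (hs : 0 ≤ s) (ht : 0 ≤ t) (hF : F = 11 + s)
    (hn : n = F+1) (hm : m = 3*F+1) (hq : q = 4*F+1) (hr : r = 4*F+3) (hv : v = 1 + t)
    (hu : u = n - (1051/500)/v) :
    ((u^2 + F/r*(n^2 - u^2)) - n/m*(m - (n^2 - u^2)))^2 + (F*n/m*(m - (n^2 - u^2)))^2 < F^2*u^2 + (u^2 - u)^2 := by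
  subst hu
  have : F ≠ 0 := by linarith
  have : n ≠ 0 := by linarith
  have : m ≠ 0 := by linarith
  have : q ≠ 0 := by linarith
  have : r ≠ 0 := by linarith
  have : v ≠ 0 := by linarith
  rw [← sub_pos]
  field_simp
  refine lt_of_eq_of_lt (by ring) (div_pos ?_ (by subst hv hm hq hr hn hF; positivity))
  subst hv hm hq hr hn hF
  ring_nf
  positivity

theorem num_Bi (s t F n m q r u v : ℝ) (hs : 0 ≤ s) (ht : 0 ≤ t) (hF : F = 11 + s)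
    (hn : n = F+1) (hm : m = 3*F+1) (hq : q = 4*F+1) (hr : r = 4*F+3) (hv : v = 1 + t)
    (hu : u = n - (1051/500)/v) :
    u^2 - n + (F/r + n/(2*m))*(n^2 - u^2) + 2*(n/m)*(n - u) < F*u := by
  subst hu
  have : F ≠ 0 := by linarith
  have : n ≠ 0 := by linarith
  have : m ≠ 0 := by linarith
  have : q ≠ 0 := by linarith
  have : r ≠ 0 := by linarith
  have : v ≠ 0 := by linarith
  rw [← sub_pos]
  field_simp
  refine lt_of_eq_of_lt (by ring) (div_pos ?_ (by subst hv hm hq hr hn hF; positivity))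
  subst hv hm hq hr hn hF
  ring_nf
  positivity

theorem num_Bii (s t F n m q r u v : ℝ) (hs : 0 ≤ s) (ht : 0 ≤ t) (hF : F = 11 + s)
    (hn : n = F+1) (hm : m = 3*F+1) (hq : q = 4*F+1) (hr : r = 4*F+3) (hv : v = 1 + t)
    (hu : u = n - (1051/500)/v) :
    4*u^2 - 4*n + (n^2 - u^2)*(3*(F/r) + 7/2*(n/m)) + 2*(n/m)*(n - u) < 4*(F*u) := by
  subst hu
  have : F ≠ 0 := by linarith
  have : n ≠ 0 := by linarith
  have : m ≠ 0 := by linarith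
  have : q ≠ 0 := by linarith
  have : r ≠ 0 := by linarith
  have : v ≠ 0 := by linarith
  rw [← sub_pos]
  field_simp
  refine lt_of_eq_of_lt (by ring) (div_pos ?_ (by subst hv hm hq hr hn hF; positivity))
  subst hv hm hq hr hn hF
  ring_nf
  positivity

theorem exists_param {n u : ℝ} (h₁ : n - 1051 / 500 ≤ u) (h₂ : u < n) :
    ∃ t : ℝ, 0 ≤ t ∧ u = n - (1051 / 500) / (1 + t) := by
  refine ⟨(1051 / 500) / (n - u) - 1, ?_, ?_⟩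
  · rw [sub_nonneg, le_div_iff₀ (by linarith)]
    linarith
  · rw [add_sub_cancel, div_div_cancel₀ (by norm_num)]
    ring

/-- A convex function on an interval is largest at an end. -/
theorem quad_le_ends {w w₀ w₁ G γ φ B : ℝ} (h₀ : w₀ ≤ w) (h₁ : w ≤ w₁)
    (e₀ : (G - γ * w₀) ^ 2 + (φ * w₀) ^ 2 < B) (e₁ : (G - γ * w₁) ^ 2 + (φ * w₁) ^ 2 < B) :
    (G - γ * w) ^ 2 + (φ * w) ^ 2 < B := by
  have hA : 0 ≤ γ ^ 2 + φ ^ 2 := by positivity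
  by_cases hc : 0 ≤ (γ ^ 2 + φ ^ 2) * (w + w₀) - 2 * G * γ
  · have h3 : 0 ≤ (γ ^ 2 + φ ^ 2) * (w + w₁) - 2 * G * γ := by
      have := mul_le_mul_of_nonneg_left (show w + w₀ ≤ w + w₁ by linarith) hA
      linarith
    have h4 := mul_nonneg (sub_nonneg.2 h₁) h3
    linarith
  · have h4 := mul_nonpos_of_nonneg_of_nonpos (sub_nonneg.2 h₀) (le_of_not_ge hc)
    linarith

theorem sq_lt_of_abs {a b : ℝ} (h₁ : a < b) (h₂ : -a < b) : a ^ 2 < b ^ 2 := by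
  nlinarith

theorem excl_D2 {F n m q u w R : ℝ} (hF : 6 ≤ F) (hn : n = F + 1) (hm : m = 3 * F + 2)
    (hq : q = 4 * F + 1) (hu₁ : n - 1051 / 500 ≤ u) (hu₂ : u < n)
    (hw : m - (n ^ 2 - u ^ 2) ≤ w) (hR₁ : F * u ≤ R)
    (hR₂ : R ≤ u ^ 2 - 1 + n / q * (n ^ 2 - u ^ 2) - F / m * w)
    (hpar : F ^ 2 * u ^ 2 + (u ^ 2 - n) ^ 2 ≤ R ^ 2 + (F * n / m * w) ^ 2) : False := by
  obtain ⟨t, ht, hut⟩ := exists_param hu₁ hu₂
  set G := u ^ 2 - 1 + n / q * (n ^ 2 - u ^ 2) with hG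
  have a₁ := num_D2w1 (F - 6) t F n m q (4 * F + 3) u _ (by linarith) ht (by ring) hn hm hq rfl rfl hut
  have a₂ := num_D2w1n (F - 6) t F n m q (4 * F + 3) u _ (by linarith) ht (by ring) hn hm hq rfl rfl hut
  have a₀ := num_D2w0 (F - 6) t F n m q (4 * F + 3) u _ (by linarith) ht (by ring) hn hm hq rfl rfl hut
  rw [← hG] at a₁ a₂ a₀
  have hm0 : 0 < m := by linarith
  have hγ : 0 < F / m := div_pos (by linarith) hm0
  have hend : (G - F / m * ((G - F * u) / (F / m))) ^ 2 + (F * n / m * ((G - F * u) / (F / m))) ^ 2 <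
      F ^ 2 * u ^ 2 + (u ^ 2 - n) ^ 2 := by
    rw [mul_div_cancel₀ _ hγ.ne', show F * n / m * ((G - F * u) / (F / m)) = n * (G - F * u) by
      have : F ≠ 0 := by linarith
      field_simp]
    have := sq_lt_of_abs a₁ a₂
    linarith
  have h1 := quad_le_ends hw (by rw [le_div_iff₀ hγ]; linarith) a₀ hend
  have hR0 : 0 ≤ R := le_trans (mul_nonneg (by linarith) (by linarith)) hR₁
  have h2 := pow_le_pow_left₀ hR0 hR₂ 2
  linarith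

theorem excl_B {F n m r u w R : ℝ} (hF : 11 ≤ F) (hn : n = F + 1) (hm : m = 3 * F + 1)
    (hr : r = 4 * F + 3) (hu₁ : n - 1051 / 500 ≤ u) (hu₂ : u < n)
    (hw : m - (n ^ 2 - u ^ 2) ≤ w) (hR₁ : F * u ≤ R)
    (hR₂ : R ≤ u ^ 2 + F / r * (n ^ 2 - u ^ 2) - n / m * w)
    (hpar : F ^ 2 * u ^ 2 + (u ^ 2 - u) ^ 2 ≤ R ^ 2 + (F * n / m * w) ^ 2) : False := by
  obtain ⟨t, ht, hut⟩ := exists_param hu₁ hu₂
  set G := u ^ 2 + F / r * (n ^ 2 - u ^ 2) with hG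
  have a₁ := num_Bw1 (F - 11) t F n m (4 * F + 1) r u _ (by linarith) ht (by ring) hn hm rfl hr rfl hut
  have a₂ := num_Bw1n (F - 11) t F n m (4 * F + 1) r u _ (by linarith) ht (by ring) hn hm rfl hr rfl hut
  have a₀ := num_Bw0 (F - 11) t F n m (4 * F + 1) r u _ (by linarith) ht (by ring) hn hm rfl hr rfl hut
  rw [← hG] at a₁ a₂ a₀
  have hm0 : 0 < m := by linarith
  have hγ : 0 < n / m := div_pos (by linarith) hm0
  have hend : (G - n / m * ((G - F * u) / (n / m))) ^ 2 + (F * n / m * ((G - F * u) / (n / m))) ^ 2 <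
      F ^ 2 * u ^ 2 + (u ^ 2 - u) ^ 2 := by
    rw [mul_div_cancel₀ _ hγ.ne', show F * n / m * ((G - F * u) / (n / m)) = F * (G - F * u) by
      have : n ≠ 0 := by linarith
      field_simp]
    have := sq_lt_of_abs a₁ a₂
    linarith
  have h1 := quad_le_ends hw (by rw [le_div_iff₀ hγ]; linarith) a₀ hend
  have hR0 : 0 ≤ R := le_trans (mul_nonneg (by linarith) (by linarith)) hR₁
  have h2 := pow_le_pow_left₀ hR0 hR₂ 2
  linarith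

theorem excl_B_one {F n m r u w R : ℝ} (hF : 11 ≤ F) (hn : n = F + 1) (hm : m = 3 * F + 1)
    (hr : r = 4 * F + 3) (hu₁ : n - 1051 / 500 ≤ u) (hu₂ : u < n)
    (hw : 2 * (m - w) ≤ n ^ 2 - u ^ 2 + 4 * (n - u)) (hR₁ : F * u ≤ R)
    (hR₂ : R ≤ u ^ 2 + F / r * (n ^ 2 - u ^ 2) - n / m * w) : False := by
  obtain ⟨t, ht, hut⟩ := exists_param hu₁ hu₂
  have a := num_Bi (F - 11) t F n m (4 * F + 1) r u _ (by linarith) ht (by ring) hn hm rfl hr rfl hut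
  have hγ : 0 ≤ n / m := div_nonneg (by linarith) (by linarith)
  have h1 := mul_le_mul_of_nonneg_left
    (show m - (n ^ 2 - u ^ 2) / 2 - 2 * (n - u) ≤ w by linarith) hγ
  have hm' : n / m * m = n := div_mul_cancel₀ _ (by linarith)
  have hd : n / (2 * m) = n / m / 2 := by ring
  rw [hd] at a
  linarith

theorem excl_B_pos {F n m r u w v R : ℝ} (hF : 11 ≤ F) (hn : n = F + 1) (hm : m = 3 * F + 1)
    (hr : r = 4 * F + 3) (hu₁ : n - 1051 / 500 ≤ u) (hu₂ : u < n)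
    (hw : m - (n ^ 2 - u ^ 2) ≤ w) (hv : 2 * (m - v) ≤ n ^ 2 - u ^ 2 + 4 * (n - u))
    (hR₂ : R ≤ u ^ 2 + F / r * (n ^ 2 - u ^ 2) - n / m * w)
    (hph : 0 ≤ 3 * R - 4 * (F * u) + (u ^ 2 - n / m * v)) : False := by
  obtain ⟨t, ht, hut⟩ := exists_param hu₁ hu₂
  have a := num_Bii (F - 11) t F n m (4 * F + 1) r u _ (by linarith) ht (by ring) hn hm rfl hr rfl hut
  have hγ : 0 ≤ n / m := div_nonneg (by linarith) (by linarith)
  have h1 := mul_le_mul_of_nonneg_left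
    (show m - (n ^ 2 - u ^ 2) / 2 - 2 * (n - u) ≤ v by linarith) hγ
  have h2 := mul_le_mul_of_nonneg_left hw hγ
  have hm' : n / m * m = n := div_mul_cancel₀ _ (by linarith)
  linarith

theorem excl_D1 {F q r V W R : ℝ} (hF : 6 ≤ F) (hq : q = 4 * F + 1) (hr : r = 4 * F + 3)
    (hV : 2 * F + 2 ≤ V) (hW : 2 * F ≤ W) (hR₁ : F ^ 2 ≤ R)
    (hR₂ : R ≤ F ^ 2 + F - F / r * V - (F + 1) / q * W) : False := by
  have hq0 : 0 < q := by linarith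
  have hr0 : 0 < r := by linarith
  have h1 := mul_le_mul_of_nonneg_left hV (div_nonneg (show 0 ≤ F by linarith) hr0.le)
  have h2 := mul_le_mul_of_nonneg_left hW (div_nonneg (show 0 ≤ F + 1 by linarith) hq0.le)
  have h3 : F < F / r * (2 * F + 2) + (F + 1) / q * (2 * F) := by
    rw [div_mul_eq_mul_div, div_mul_eq_mul_div, div_add_div _ _ hr0.ne' hq0.ne',
      lt_div_iff₀ (mul_pos hr0 hq0)]
    subst hq hr
    nlinarith
  linarith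

/-- The pointwise inequality. -/
theorem pointwise {F U u R : ℝ} (hU : 0 < U) (hF : 0 ≤ F) (hs : 0 ≤ slope F U)
    (hcond : F ≤ slope F U * (U + 7 / 5)) (hu₁ : 7 / 5 ≤ u) (hu₂ : u ≤ U) (hR : F * u ≤ R) :
    slope F U ^ 2 * ((u ^ 2) ^ 2 - u ^ 2) ≤ (R - (2 * F + 1) / 2) ^ 2 := by
  set μ := slope F U with hμ
  have e : μ * U ^ 2 = F * U - (2 * F + 1) / 2 := by
    rw [hμ, slope, div_mul_cancel₀ _ (pow_ne_zero 2 hU.ne')]
  have h1 : 0 ≤ μ * (U + u) - F := by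
    have := mul_le_mul_of_nonneg_left (show U + 7 / 5 ≤ U + u by linarith) hs
    linarith
  have h2 : μ * u ^ 2 ≤ R - (2 * F + 1) / 2 := by
    have := mul_nonneg (sub_nonneg.2 hu₂) h1
    linarith
  have h3 := pow_le_pow_left₀ (by positivity) h2 2
  have h4 : 0 ≤ μ ^ 2 * u ^ 2 := by positivity
  linarith

end H15.Degree.Bounds
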