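import Cfsg.Agent.H15.Degree.Family

/-!
Degrees below `p - 1` (helper15): the linear character of the normalizer on the invariants of
`P`, and multiplicities of linear characters of the normalizer.
-/

set_option autoImplicit false
set_option linter.style.haveILetI false
set_option linter.unusedSectionVars false

open Cfsg
open scoped ComplexConjugate

namespace H15.Degree

open H85.D1 H15.HalfDeg

universe u

variable {G : Type u} [Group G] [Fintype G] {p : ℕ} [hp : Fact p.Prime]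
  {P : Sylow p G} {u a : G} {H : Subgroup G} [Fintype H]

local notation "NP" => Subgroup.normalizer ((P : Subgroup G) : Set G)
local notation "CP" => Subgroup.centralizer ((P : Subgroup G) : Set G)

variable (D : Setting P u a H)

/-- The action of the normalizer on `P`. -/
noncomputable def act : ↥(NP) →* ↥(D.aut (H12.oneIrr H)) :=
  ((P : Subgroup G).normalizerMonoidHom).codRestrict (D.aut (H12.oneIrr H)) fun g =>
    D.mem_aut_iff.2 ⟨g, by rw [D.stab_one]; exact g.2, fun x => rfl⟩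

theorem act_apply (g : ↥(NP)) (x : (P : Subgroup G)) :
    (((act D g : MulAut (P : Subgroup G)) x : (P : Subgroup G)) : G) = g * x * (g : G)⁻¹ := rfl

theorem act_surjective : Function.Surjective (act D) := by
  intro α
  obtain ⟨t, htN, ht⟩ := D.mem_aut_iff.1 α.2
  rw [D.stab_one] at htN
  refine ⟨⟨t, htN⟩, Subtype.ext (MulEquiv.ext fun x => Subtype.ext ?_)⟩
  rw [act_apply, ht x]

theorem act_eq_one_iff (g : ↥(NP)) : act D g = 1 ↔ (g : G) ∈ CP := by
  rw [Subgroup.mem_centralizer_iff]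
  constructor
  · intro h x hx
    have h1 := act_apply D g ⟨x, hx⟩
    rw [h, Subgroup.coe_one, MulAut.one_apply] at h1
    exact eq_mul_inv_iff_mul_eq.1 h1
  · intro h
    refine Subtype.ext (MulEquiv.ext fun x => Subtype.ext ?_)
    rw [act_apply, Subgroup.coe_one, MulAut.one_apply, mul_inv_eq_iff_eq_mul]
    exact (h x x.2).symm

include D in
/-- Outside the centralizer the normalizer consists of regular elements. -/
theorem regular_of_notMem (g : ↥(NP)) (hg : (g : G) ∉ CP) : ¬ p ∣ orderOf (g : G) := by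
  intro hd
  obtain ⟨m, hm⟩ := hd
  set y := (g : G) ^ m with hy
  have hy1 : y ^ p = 1 := by rw [hy, ← pow_mul, mul_comm, ← hm, pow_orderOf_eq_one]
  have hyp : IsPGroup p (Subgroup.zpowers y) := by
    intro z
    refine ⟨1, Subtype.ext ?_⟩
    obtain ⟨i, hi⟩ := Subgroup.mem_zpowers_iff.1 z.2
    rw [pow_one, SubmonoidClass.coe_pow, ← hi, ← zpow_natCast, ← zpow_mul, mul_comm, zpow_mul,
      zpow_natCast, hy1, one_zpow, OneMemClass.coe_one]
  have hyN : y ∈ NP := by rw [hy]; exact pow_mem g.2 m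
  have hyP : y ∈ (P : Subgroup G) :=
    (Subgroup.mem_inf.1 ((SetLike.ext_iff.1 (hyp.inf_normalizer_sylow P) y).1
      (Subgroup.mem_inf.2 ⟨Subgroup.mem_zpowers y, hyN⟩))).2
  have hyne : y ≠ 1 := fun h => by
    have hpos : 0 < m := Nat.pos_of_ne_zero fun h0 => by
      rw [h0, mul_zero] at hm
      exact (orderOf_pos (g : G)).ne' hm
    have := Nat.le_of_dvd hpos (orderOf_dvd_of_pow_eq_one (hy ▸ h))
    rw [hm] at this
    have h2 := Nat.mul_le_mul_right m hp.out.two_le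
    omega
  exact hg (D.centralizer_eq hyP hyne (hy ▸ Commute.self_pow (g : G) m))

/-- The multiplicity of a linear character of the normalizer. -/
noncomputable def wt (F : G → ℂ) (μ : ↥(NP) →* ℂˣ) [Fintype ↥(NP)] : ℂ :=
  classInner (fun g : ↥(NP) => F g) fun g => (μ g : ℂ)

variable [Fintype ↥(Subgroup.normalizer ((P : Subgroup G) : Set G))]

theorem wt_nat {F : G → ℂ} (hF : IsCharacter G F) (μ : ↥(NP) →* ℂˣ) :
    ∃ w : ℕ, wt (P := P) F μ = (w : ℂ) :=
  H12.IsCharacter.classInner_nat (H12.IsCharacter.res hF _) (H12.isCharacter_monoidHom μ)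

/-- Constituents with positive multiplicity bound the multiplicity of a character. -/
theorem wt_le {F : G → ℂ} (hF : IsCharacter G F) (μ : ↥(NP) →* ℂˣ) (s : Finset (IrrCharacter G))
    (k : IrrCharacter G → ℕ) (hk : ∀ i ∈ s, classInner F (i : G → ℂ) = (k i : ℂ))
    (hs : ∀ i ∈ s, ∃ w : ℕ, 1 ≤ w ∧ wt (P := P) (i : G → ℂ) μ = (w : ℂ))
    {W : ℕ} (hW : wt (P := P) F μ = (W : ℂ)) : ∑ i ∈ s, k i ≤ W := by
  classical
  obtain ⟨m, hm⟩ := H12.IsCharacter.exists_mult hF
  choose w hw using fun i : IrrCharacter G => wt_nat (P := P) (H12.isCharacter_irr i) μ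
  have hkm : ∀ i ∈ s, k i = m i := fun i hi => by
    have h1 := hk i hi
    rw [hm, H12.classInner_sum_smul_irr] at h1
    exact_mod_cast h1.symm
  have htot : W = ∑ i : IrrCharacter G, m i * w i := by
    have h1 : (W : ℂ) = ∑ i : IrrCharacter G, (m i : ℂ) * (w i : ℂ) := by
      rw [← hW]
      simp only [wt, hm, H12.classInner_def, ← hw, Finset.mul_sum, Finset.sum_apply, Pi.smul_apply,
        smul_eq_mul, Finset.sum_mul]
      rw [Finset.sum_comm]
      exact Finset.sum_congr rfl fun i _ => Finset.sum_congr rfl fun g _ => by ring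
    exact_mod_cast h1
  rw [htot]
  refine le_trans (Finset.sum_le_sum fun i hi => ?_)
    (Finset.sum_le_sum_of_subset (Finset.subset_univ s))
  obtain ⟨w', hw'1, hw'⟩ := hs i hi
  have : w i = w' := by
    have h1 := (hw i).symm.trans hw'
    exact_mod_cast h1
  rw [hkm i hi, this]
  exact Nat.le_mul_of_pos_right _ hw'1

variable [Fintype (P : Subgroup G)]

include D in
theorem mem_CP_mul (x : (P : Subgroup G)) (k : H) : (x : G) * k ∈ CP :=
  mul_mem (D.P_le x.2) (D.frame.H_le k.2)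

include D in
/-- Sums over the centralizer inside the normalizer. -/
theorem sum_central [DecidablePred fun g : ↥(NP) => (g : G) ∈ CP] (F : G → ℂ) :
    ∑ g ∈ Finset.univ.filter (fun g : ↥(NP) => (g : G) ∈ CP), F g =
      ∑ x : (P : Subgroup G), ∑ k : H, F (x * k) := by
  classical
  rw [← Fintype.sum_prod_type' (fun (x : (P : Subgroup G)) (k : H) => F (x * k))]
  symm
  refine Finset.sum_bij (fun z _ => (⟨(z.1 : G) * z.2,
    Subgroup.centralizer_le_normalizer _ (mem_CP_mul D z.1 z.2)⟩ : ↥(NP))) (fun z _ => ?_)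
    (fun z _ z' _ hz => ?_) (fun g hg => ?_) (fun z _ => rfl)
  · exact Finset.mem_filter.2 ⟨Finset.mem_univ _, mem_CP_mul D z.1 z.2⟩
  · have h1 : (z.1 : G) * z.2 = z'.1 * z'.2 := congrArg Subtype.val hz
    have h2 : (z.1 : G) = z'.1 := by
      rw [← D.pPart_mul z.1.2 z.2.2, ← D.pPart_mul z'.1.2 z'.2.2, h1]
    refine Prod.ext (Subtype.ext h2) (Subtype.ext ?_)
    rw [h2] at h1
    exact mul_left_cancel h1
  · obtain ⟨x, hx, k, hk, hxk⟩ := D.exists_mul (Finset.mem_filter.1 hg).2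
    exact ⟨(⟨x, hx⟩, ⟨k, hk⟩), Finset.mem_univ _, Subtype.ext hxk.symm⟩

variable [Fintype (D.aut (H12.oneIrr H))]

theorem card_normalizer {f : ℕ} (hf : Nat.card (D.aut (H12.oneIrr H)) = f) :
    Nat.card ↥(NP) = f * p * Nat.card H := by
  rw [← D.card_orbit (H12.oneIrr H), show Nat.card (D.orbit (H12.oneIrr H)) = 1 by
    rw [D.orbit_one]; simp, one_mul, D.card_stab, D.card_centralizer, hf]
  ring

/-- The multiplicity through the centralizer and the rest. -/
theorem wt_formula {f : ℕ} (hf : Nat.card (D.aut (H12.oneIrr H)) = f)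
    [DecidablePred fun g : ↥(NP) => (g : G) ∈ CP] (F : G → ℂ) (μ : ↥(NP) →* ℂˣ)
    (hμ : ∀ (x : (P : Subgroup G)) (k : H), F (x * k) *
      conj (μ ⟨(x : G) * k, Subgroup.centralizer_le_normalizer _ (mem_CP_mul D x k)⟩ : ℂ) = F x) :
    ((f * p * Nat.card H : ℕ) : ℂ) * wt F μ =
      (Nat.card H : ℂ) * ∑ x : (P : Subgroup G), F x +
        ∑ g ∈ Finset.univ.filter (fun g : ↥(NP) => (g : G) ∉ CP), F g * conj (μ g : ℂ) := by
  classical
  rw [← card_normalizer D hf, wt, H12.classInner_def, ← mul_assoc,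
    mul_inv_cancel₀ (Nat.cast_ne_zero.2 Nat.card_pos.ne'), one_mul,
    ← Finset.sum_filter_add_sum_filter_not Finset.univ (fun g : ↥(NP) => (g : G) ∈ CP)]
  congr 1
  let F' : G → ℂ := fun g => if hg : g ∈ NP then F g * conj (μ ⟨g, hg⟩ : ℂ) else 0
  have h1 := sum_central D F'
  simp only [F', SetLike.coe_mem, dif_pos, Subtype.coe_eta] at h1
  rw [h1, Finset.mul_sum]
  refine Finset.sum_congr rfl fun x _ => ?_
  rw [Finset.sum_congr rfl (g := fun _ => F x) fun k _ => by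
    rw [dif_pos (Subgroup.centralizer_le_normalizer _ (mem_CP_mul D x k))]; exact hμ x k,
    Finset.sum_const, Finset.card_univ, ← Nat.card_eq_fintype_card, nsmul_eq_mul]

/-- The sum of a linear character over the elements moving `P`. -/
theorem sum_outside {f : ℕ} (hf : Nat.card (D.aut (H12.oneIrr H)) = f)
    [DecidablePred fun g : ↥(NP) => (g : G) ∈ CP] (ν μ : ↥(NP) →* ℂˣ)
    (hνμ : ∀ g : ↥(NP), (g : G) ∈ CP → ν g = μ g) [Decidable (ν = μ)] :
    ∑ g ∈ Finset.univ.filter (fun g : ↥(NP) => (g : G) ∉ CP), (ν g : ℂ) * conj (μ g : ℂ) =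
      (if ν = μ then ((f * p * Nat.card H : ℕ) : ℂ) else 0) - (p : ℂ) * Nat.card H := by
  classical
  have hnorm : ∀ g, (μ g : ℂ) * conj (μ g : ℂ) = 1 := fun g => by
    rw [Complex.mul_conj, Complex.normSq_eq_norm_sq, Complex.norm_eq_one_of_pow_eq_one
      (by rw [← Units.val_pow_eq_pow_val, ← map_pow, pow_card_eq_one', map_one, Units.val_one])
      (Nat.card_pos (α := ↥(NP))).ne', one_pow, Complex.ofReal_one]
  have hC : ∑ g ∈ Finset.univ.filter (fun g : ↥(NP) => (g : G) ∈ CP),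
      (ν g : ℂ) * conj (μ g : ℂ) = (p : ℂ) * Nat.card H := by
    rw [Finset.sum_congr rfl (g := fun g : ↥(NP) => (fun _ : G => (1 : ℂ)) g) fun g hg => by
      rw [hνμ g (Finset.mem_filter.1 hg).2]; exact hnorm g, sum_central D (fun _ : G => (1 : ℂ))]
    simp [← Nat.card_eq_fintype_card, D.hP]
  have htot : ∑ g : ↥(NP), (ν g : ℂ) * conj (μ g : ℂ) =
      if ν = μ then ((f * p * Nat.card H : ℕ) : ℂ) else 0 := by
    split_ifs with h
    · subst h
      rw [Finset.sum_congr rfl fun g _ => hnorm g, Finset.sum_const, Finset.card_univ,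
        ← Nat.card_eq_fintype_card, card_normalizer D hf]
      simp
    · obtain ⟨g₀, hg₀⟩ : ∃ g, ν g ≠ μ g := by
        by_contra! hall
        exact h (MonoidHom.ext hall)
      have h1 : ∑ g : ↥(NP), (ν g : ℂ) * conj (μ g : ℂ) =
          ((ν g₀ : ℂ) * conj (μ g₀ : ℂ)) * ∑ g : ↥(NP), (ν g : ℂ) * conj (μ g : ℂ) := by
        rw [Finset.mul_sum]
        refine (Fintype.sum_equiv (Equiv.mulLeft g₀) _ _ fun g => ?_).symm
        simp only [Equiv.coe_mulLeft, map_mul, Units.val_mul]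
        ring
      by_contra hne
      have h2 := (mul_right_cancel₀ hne ((one_mul _).trans h1)).symm
      refine hg₀ (Units.ext ?_)
      have h3 := hnorm g₀
      linear_combination (μ g₀ : ℂ) * h2 - (ν g₀ : ℂ) * h3
  rw [← Finset.sum_filter_add_sum_filter_not Finset.univ (fun g : ↥(NP) => (g : G) ∈ CP), hC] at htot
  linear_combination htot

variable {D} {f n : ℕ} {χ : IrrCharacter G} {θ : IrrCharacter H} {ψ : (P : Subgroup G) →* ℂˣ}

/-- The linear character on the invariants of `P`. -/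
theorem Neg.exists_lam (h : Neg D f n χ θ ψ) {t : ℕ} (hft : f * t + 1 = p) {M : Ideal AlgInt}
    [M.IsPrime] (hM : IsPModular p M) :
    ∃ l : ↥(NP) →* ℂˣ,
      (∀ g : ↥(NP), (g : G) ∉ CP → (χ : G → ℂ) g = (l g : ℂ)) ∧
      ∀ (x : (P : Subgroup G)) (k : H),
        (l ⟨(x : G) * k, Subgroup.centralizer_le_normalizer _ (mem_CP_mul D x k)⟩ : ℂ) =
          (θ : H → ℂ) k := by
  classical
  obtain ⟨d, ρ, hρi, hρ⟩ := χ.2
  have hχv : ∀ g, LinearMap.trace ℂ _ (ρ g) = (χ : G → ℂ) g := fun g => congrFun hρ g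
  set e : Module.End ℂ (Fin d → ℂ) := (p : ℂ)⁻¹ • ∑ x : (P : Subgroup G), ρ (x : G) with he
  have hp0 : (p : ℂ) ≠ 0 := Nat.cast_ne_zero.2 hp.out.ne_zero
  have hmul : ∀ y : (P : Subgroup G), ρ (y : G) * e = e := fun y => by
    rw [he, mul_smul_comm, Finset.mul_sum]
    congr 1
    exact Fintype.sum_equiv (Equiv.mulLeft y) _ _ fun x => by
      rw [← map_mul, Equiv.coe_mulLeft, Subgroup.coe_mul]
  have hee : e * e = e := by
    conv_lhs => arg 1; rw [he]
    rw [smul_mul_assoc, Finset.sum_mul, Finset.sum_congr rfl fun y _ => hmul y, Finset.sum_const,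
      Finset.card_univ, ← Nat.card_eq_fintype_card, D.hP, ← Nat.cast_smul_eq_nsmul ℂ, smul_smul,
      inv_mul_cancel₀ hp0, one_smul]
  have hgsum : ∀ g : G, LinearMap.trace ℂ _ (ρ g * e) =
      (p : ℂ)⁻¹ * ∑ x : (P : Subgroup G), (χ : G → ℂ) (g * x) := fun g => by
    rw [he, mul_smul_comm, map_smul, Finset.mul_sum, map_sum, smul_eq_mul]
    congr 1
    exact Finset.sum_congr rfl fun x _ => by rw [← map_mul, hχv]
  have hTr1 : LinearMap.trace ℂ _ e = 1 := by
    have h1 := hgsum 1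
    rw [map_one, one_mul] at h1
    rw [h1, ← Finset.add_sum_erase _ _ (Finset.mem_univ (1 : (P : Subgroup G)))]
    simp only [one_mul, OneMemClass.coe_one]
    rw [Finset.sum_congr rfl fun x hx => h.val_per hft x (Finset.ne_of_mem_erase hx),
      Finset.sum_neg_distrib, sum_erase_per D.hP h.psi_ne hft (one_mem_lab hft), H12.irr_apply_one,
      h.degree_eq, neg_neg, ← Nat.cast_add, h.add_eq, inv_mul_cancel₀ hp0]
  have hproj : LinearMap.IsProj (LinearMap.range e) e :=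
    ⟨fun x => LinearMap.mem_range_self e x, fun x hx => by
      obtain ⟨y, rfl⟩ := hx
      exact LinearMap.congr_fun hee y⟩
  have hfr : Module.finrank ℂ (LinearMap.range e) = 1 := by
    have h1 := hproj.trace
    rw [hTr1] at h1
    exact_mod_cast h1.symm
  clear_value e
  obtain ⟨⟨v, hv⟩, hv0, hspan⟩ := finrank_eq_one_iff'.1 hfr
  have hv0' : v ≠ 0 := fun hh => hv0 (Subtype.ext hh)
  have hev : e v = v := hproj.map_id v hv
  have hcomm : ∀ g : ↥(NP), ρ (g : G) * e = e * ρ (g : G) := fun g => by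
    rw [he, mul_smul_comm, smul_mul_assoc, Finset.mul_sum, Finset.sum_mul]
    congr 1
    refine Fintype.sum_equiv ((act D g : MulAut (P : Subgroup G)) : (P : Subgroup G) ≃ (P : Subgroup G))
      _ _ fun x => ?_
    rw [← map_mul, ← map_mul]
    congr 1
    show (g : G) * x = (((act D g : MulAut (P : Subgroup G)) x : (P : Subgroup G)) : G) * g
    rw [act_apply, inv_mul_cancel_right]
  have hscal : ∀ g : ↥(NP), ∃ c : ℂ, ρ (g : G) v = c • v := fun g => by
    have hmem : ρ (g : G) v ∈ LinearMap.range e := by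
      refine ⟨ρ (g : G) v, ?_⟩
      rw [← Module.End.mul_apply, ← hcomm g, Module.End.mul_apply, hev]
    obtain ⟨c, hc⟩ := hspan ⟨_, hmem⟩
    exact ⟨c, (congrArg Subtype.val hc).symm⟩
  choose c hc using hscal
  have hcu : ∀ g c', ρ ((g : ↥(NP)) : G) v = c' • v → c g = c' := fun g c' h' =>
    smul_left_injective ℂ hv0' ((hc g).symm.trans h')
  have hc1 : c 1 = 1 := hcu 1 1 (by simp)
  have hcm : ∀ g g', c (g * g') = c g * c g' := fun g g' => hcu _ _ (by
    rw [Subgroup.coe_mul, map_mul, Module.End.mul_apply, hc g', map_smul, hc g, smul_smul, mul_comm])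
  let cM : ↥(NP) →* ℂ := { toFun := c, map_one' := hc1, map_mul' := hcm }
  let l : ↥(NP) →* ℂˣ := cM.toHomUnits
  have hl : ∀ g, (l g : ℂ) = c g := fun g => MonoidHom.coe_toHomUnits cM g
  have hrank : ∀ g : ↥(NP), ρ (g : G) * e = c g • e := fun g => LinearMap.ext fun x => by
    obtain ⟨b, hb⟩ := hspan ⟨e x, LinearMap.mem_range_self e x⟩
    have hb' : b • v = e x := congrArg Subtype.val hb
    rw [Module.End.mul_apply, LinearMap.smul_apply, ← hb', map_smul, hc g, smul_comm]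
  have htr : ∀ g : ↥(NP), LinearMap.trace ℂ _ (ρ (g : G) * e) = c g := fun g => by
    rw [hrank g, map_smul, hTr1, smul_eq_mul, mul_one]
  refine ⟨l, fun g hg => ?_, fun x k => ?_⟩
  · rw [hl, ← htr g, hgsum]
    let Φ : ↥(P : Subgroup G) → ↥(P : Subgroup G) := fun y =>
      ⟨(g : G)⁻¹ * (y : G)⁻¹ * g * y, mul_mem ((Subgroup.mem_normalizer_iff''.1 g.2 _).1
        (inv_mem y.2)) y.2⟩
    have hΦ : Function.Bijective Φ := by
      refine Finite.injective_iff_bijective.1 fun y₁ y₂ he12 => ?_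
      have h1 : (g : G)⁻¹ * (y₁ : G)⁻¹ * g * y₁ = (g : G)⁻¹ * (y₂ : G)⁻¹ * g * y₂ :=
        congrArg Subtype.val he12
      by_contra hne
      have hne' : (y₁ : G) * (y₂ : G)⁻¹ ≠ 1 := fun h' => hne (Subtype.ext (mul_inv_eq_one.1 h'))
      refine hg (D.centralizer_eq (mul_mem y₁.2 (inv_mem y₂.2)) hne' ?_)
      have h2 : (y₁ : G)⁻¹ * g * y₁ = (y₂ : G)⁻¹ * g * y₂ := by
        have := congrArg ((g : G) * ·) h1
        simpa [mul_assoc] using this
      calc (g : G) * ((y₁ : G) * (y₂ : G)⁻¹) = y₁ * ((y₁ : G)⁻¹ * g * y₁) * (y₂ : G)⁻¹ := by group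
        _ = y₁ * ((y₂ : G)⁻¹ * g * y₂) * (y₂ : G)⁻¹ := by rw [h2]
        _ = y₁ * (y₂ : G)⁻¹ * g := by group
    have h3 : ∑ x : (P : Subgroup G), (χ : G → ℂ) (g * x) =
        ∑ _y : (P : Subgroup G), (χ : G → ℂ) g := by
      refine (Fintype.sum_bijective Φ hΦ _ _ fun y => ?_).symm
      show (χ : G → ℂ) g = (χ : G → ℂ) (g * ((g : G)⁻¹ * (y : G)⁻¹ * g * y))
      rw [show (g : G) * ((g : G)⁻¹ * (y : G)⁻¹ * g * y) = (y : G)⁻¹ * g * ((y : G)⁻¹)⁻¹ by group,
        H12.irr_isClassFunction χ (g : G) (y : G)⁻¹]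
    rw [h3, Finset.sum_const, Finset.card_univ, ← Nat.card_eq_fintype_card, D.hP, nsmul_eq_mul,
      ← mul_assoc, inv_mul_cancel₀ hp0, one_mul]
  · rw [hl]
    refine hcu _ _ ?_
    show ρ ((x : G) * k) v = _
    have h1 : ρ (x : G) v = v := by
      rw [← hev, ← Module.End.mul_apply, hmul x]
    have h2 : ρ (k : G) = ((θ : H → ℂ) k) • (1 : Module.End ℂ (Fin d → ℂ)) := by
      obtain ⟨c', hc'⟩ := H12.exists_scalar_of_commute ρ (ρ (k : G)) fun g => by
        rw [← map_mul, ← map_mul, Subgroup.mem_center_iff.1 (h.central_le k.2) g]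
      have h4 := apply_center D h.central_le hM h.mem_supp k
      rw [← hχv, hc', map_smul, LinearMap.trace_one, smul_eq_mul, h.degree_eq] at h4
      have hd : Module.finrank ℂ (Fin d → ℂ) = n := by
        rw [← h.degree_eq, ← hρ, H12.degree_character]
      rw [hd] at h4
      have hn0 : (n : ℂ) ≠ 0 := Nat.cast_ne_zero.2 (by
        have := h.add_eq; have := h.le_half; omega)
      rw [hc', mul_right_cancel₀ hn0 h4]
    rw [map_mul, Module.End.mul_apply, h2, LinearMap.smul_apply, Module.End.one_apply, map_smul, h1]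

/-- A linear character occurring in all exceptional characters of a block. -/
theorem Fam.exists_common (h : Neg D f n χ θ ψ) {t : ℕ} (hft : f * t + 1 = p) {φ : IrrCharacter H}
    (Φ : Fam D f t ψ φ) (ht : 2 * f + 1 < p) (ν : ↥(NP) →* ℂˣ)
    (hν : ∀ (x : (P : Subgroup G)) (k : H),
      (ν ⟨(x : G) * k, Subgroup.centralizer_le_normalizer _ (mem_CP_mul D x k)⟩ : ℂ) =
        (φ : H → ℂ) k) :
    ∃ μ : ↥(NP) →* ℂˣ, (∀ g : ↥(NP), (g : G) ∈ CP → μ g = ν g) ∧
      ∀ A ∈ lab (p := p) t, ∃ w : ℕ, 1 ≤ w ∧ wt (Φ.Y A : G → ℂ) μ = (w : ℂ) := by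
  classical
  haveI : Finite (↥(D.aut (H12.oneIrr H)) →* ℂˣ) := H20.finite_dual
  haveI : Fintype (↥(D.aut (H12.oneIrr H)) →* ℂˣ) := Fintype.ofFinite _
  have hAbel : ∀ α β : ↥(D.aut (H12.oneIrr H)), α * β = β * α := fun α β => Subtype.ext (MulEquiv.ext fun x => by
    obtain ⟨y, hy⟩ : ∃ y : (P : Subgroup G), y ≠ 1 :=
      ⟨⟨u, D.u_mem⟩, fun h' => D.u_ne_one (congrArg Subtype.val h')⟩
    obtain ⟨i, hi⟩ := zpowers_top D.hP hy ((α : MulAut (P : Subgroup G)) y)
    obtain ⟨j, hj⟩ := zpowers_top D.hP hy ((β : MulAut (P : Subgroup G)) y)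
    obtain ⟨l, rfl⟩ := zpowers_top D.hP hy x
    simp only [Subgroup.coe_mul, MulAut.mul_apply, map_zpow, ← hi, ← hj, ← zpow_mul]
    congr 1
    ring)
  let μ₀ : (↥(D.aut (H12.oneIrr H)) →* ℂˣ) → (↥(NP) →* ℂˣ) := fun ξ => ν * ξ.comp (act D)
  have hagree : ∀ ξ (g : ↥(NP)), (g : G) ∈ CP → μ₀ ξ g = ν g := fun ξ g hg => by
    show ν g * ξ (act D g) = ν g
    rw [(act_eq_one_iff D g).2 hg, map_one, mul_one]
  have hνnorm : ∀ k : H, (φ : H → ℂ) k * conj ((φ : H → ℂ) k) = 1 := fun k => by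
    rw [Complex.mul_conj, Complex.normSq_eq_norm_sq, norm_lin D h.central_le φ k, one_pow,
      Complex.ofReal_one]
  obtain ⟨s, hs1, hs⟩ := Fam.Y_fixed h hft Φ ht (one_mem_lab hft)
  have hY : ∀ A ∈ lab (p := p) t, ∀ ξ (x : (P : Subgroup G)) (k : H), (Φ.Y A : G → ℂ) (x * k) *
      conj (μ₀ ξ ⟨(x : G) * k, Subgroup.centralizer_le_normalizer _ (mem_CP_mul D x k)⟩ : ℂ) =
        (Φ.Y A : G → ℂ) x := by
    intro A hA ξ x k
    rw [hagree ξ _ (mem_CP_mul D x k), hν x k]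
    have hsupp : Φ.Y A ∈ D.supp φ := (Φ.mem_supp _).2 (Or.inr ⟨A, hA, rfl⟩)
    obtain ⟨M, hM⟩ := H22.exists_isPModular p hp.out
    haveI : M.IsPrime := hM.2.1.isPrime
    rw [central_mul D h.central_le hM hsupp (x : G) k]
    linear_combination (Φ.Y A : G → ℂ) x * hνnorm k
  choose w hw using fun ξ : ↥(D.aut (H12.oneIrr H)) →* ℂˣ => wt_nat (P := P) (H12.isCharacter_irr (Φ.Y 1)) (μ₀ ξ)
  have hsum : ∑ ξ : ↥(D.aut (H12.oneIrr H)) →* ℂˣ, w ξ = s := by
    have hform := fun ξ => wt_formula D h.card_aut (Φ.Y 1 : G → ℂ) (μ₀ ξ) (hY 1 (one_mem_lab hft) ξ)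
    have hout : ∑ ξ : ↥(D.aut (H12.oneIrr H)) →* ℂˣ, ∑ g ∈ Finset.univ.filter (fun g : ↥(NP) => (g : G) ∉ CP),
        (Φ.Y 1 : G → ℂ) g * conj (μ₀ ξ g : ℂ) = 0 := by
      rw [Finset.sum_comm]
      refine Finset.sum_eq_zero fun g hg => ?_
      have hg1 : act D g ≠ 1 := fun h' => (Finset.mem_filter.1 hg).2 ((act_eq_one_iff D g).1 h')
      rw [Finset.sum_congr rfl (g := fun ξ : ↥(D.aut (H12.oneIrr H)) →* ℂˣ =>
        (Φ.Y 1 : G → ℂ) g * conj (ν g : ℂ) * conj (ξ (act D g) : ℂ)) fun ξ _ => by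
          show _ * conj (((ν g * ξ (act D g) : ℂˣ)) : ℂ) = _
          rw [Units.val_mul, map_mul]; ring,
        ← Finset.mul_sum, ← map_sum, H20.sum_dual_ne_one hAbel hg1, map_zero, mul_zero]
    have h1 : ((f * p * Nat.card H : ℕ) : ℂ) * ((∑ ξ : ↥(D.aut (H12.oneIrr H)) →* ℂˣ, w ξ : ℕ) : ℂ) =
        (f : ℂ) * ((Nat.card H : ℂ) * ((p : ℂ) * s)) := by
      rw [Nat.cast_sum, Finset.mul_sum, Finset.sum_congr rfl fun ξ _ => by rw [← hw ξ, hform ξ],
        Finset.sum_add_distrib, hout, add_zero, Finset.sum_const, Finset.card_univ, hs,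
        show Fintype.card (↥(D.aut (H12.oneIrr H)) →* ℂˣ) = f from
          (by exact_mod_cast H20.card_dual hAbel : Fintype.card (↥(D.aut (H12.oneIrr H)) →* ℂˣ) = Nat.card ↥(D.aut (H12.oneIrr H))).trans
            h.card_aut, nsmul_eq_mul]
    have h2 : (f * p * Nat.card H) * (∑ ξ : ↥(D.aut (H12.oneIrr H)) →* ℂˣ, w ξ) = (f * p * Nat.card H) * s := by
      have : ((f * p * Nat.card H * (∑ ξ : ↥(D.aut (H12.oneIrr H)) →* ℂˣ, w ξ) : ℕ) : ℂ) =
          ((f * p * Nat.card H * s : ℕ) : ℂ) := by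
        push_cast at h1 ⊢
        linear_combination h1
      exact_mod_cast this
    exact Nat.eq_of_mul_eq_mul_left (Nat.mul_pos (Nat.mul_pos (f_pos hft) hp.out.pos) Nat.card_pos) h2
  obtain ⟨ξ, -, hξ⟩ := Finset.exists_ne_zero_of_sum_ne_zero (hsum.symm ▸ (by omega : s ≠ 0) :
    ∑ ξ : ↥(D.aut (H12.oneIrr H)) →* ℂˣ, w ξ ≠ 0)
  refine ⟨μ₀ ξ, hagree ξ, fun A hA => ⟨w ξ, Nat.one_le_iff_ne_zero.2 hξ, ?_⟩⟩
  rw [← hw ξ]
  refine mul_left_cancel₀ (show ((f * p * Nat.card H : ℕ) : ℂ) ≠ 0 from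
    Nat.cast_ne_zero.2 (Nat.mul_pos (Nat.mul_pos (f_pos hft) hp.out.pos) Nat.card_pos).ne') ?_
  rw [wt_formula D h.card_aut _ _ (hY A hA ξ),
    wt_formula D h.card_aut _ _ (hY 1 (one_mem_lab hft) ξ)]
  congr 1
  · congr 1
    obtain ⟨sA, hsA, hdA⟩ := Fam.degree_Y h hft Φ hA
    obtain ⟨s₁, hs₁, hd₁⟩ := Fam.degree_Y h hft Φ (one_mem_lab hft)
    rw [hsA, hs₁]
    congr 1
    have : (p : ℤ) * sA = p * s₁ := by rw [← hdA, ← hd₁, Fam.degree_Y_eq h hft Φ hA]
    exact_mod_cast mul_left_cancel₀ (by exact_mod_cast hp.out.ne_zero) this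
  · refine Finset.sum_congr rfl fun g hg => ?_
    rw [Φ.regY A hA g (regular_of_notMem D g (Finset.mem_filter.1 hg).2)]

end H15.Degree
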