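import Cfsg.Agent.H15.Degree.Sums
import Cfsg.Agent.H15.Degree.Weights

/-!
Degrees below `p - 1` (helper15): two classes of elements of order `p`; a quadratic moment of the
class sums bounds the number of Sylow subgroups.
-/

set_option autoImplicit false
set_option linter.style.haveILetI false
set_option linter.unusedSectionVars false

open Cfsg
open scoped ComplexConjugate

namespace H15.Degree

open H85.D1 H15.HalfDeg

universe u

variable {G : Type u} [Group G] [Fintype G] {p : ℕ} [hp : Fact p.Prime]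
  {P : Sylow p G} {u a : G} {H : Subgroup G} [Fintype H] [Fintype (P : Subgroup G)]
  {D : Setting P u a H} [Fintype (D.aut (H12.oneIrr H))] {f n : ℕ}
  {χ : IrrCharacter G} {θ : IrrCharacter H} {ψ : (P : Subgroup G) →* ℂˣ}

/-- The value of the moment over the regular elements, up to the order of the group. -/
noncomputable def momentL (p f n : ℕ) (S₂ E₁ Q μ : ℝ) : ℝ :=
  (p : ℝ) * ((p : ℝ) ^ 2 / 4 - (p : ℝ) * (2 * f * n / p) + (2 * f * n / p) ^ 2 * S₂) -
    2 * ((p : ℝ) / 2 - 2 * f * n / p * E₁) ^ 2 -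
    μ ^ 2 * (Q * p - (if Even f then (n : ℝ) ^ 2 - (f : ℝ) ^ 2 / 2 else (n : ℝ) ^ 2 / 2) - f)

variable (h : Neg D f n χ θ ψ) (hft : f * 2 + 1 = p)
include h hft

/-- The order of the group. -/
theorem card_group : Nat.card G = f * p * Nat.card H * Nat.card (Sylow p G) := by
  classical
  haveI : Fintype ↥(Subgroup.normalizer ((P : Subgroup G) : Set G)) := Fintype.ofFinite _
  rw [show Nat.card (Sylow p G) =
    (Subgroup.normalizer ((P : Subgroup G) : Set G)).index from P.card_eq_index_normalizer,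
    ← card_normalizer D h.card_aut]
  exact (Subgroup.card_mul_index _).symm

variable {M : Ideal AlgInt} [M.IsPrime] (hM : IsPModular p M)
include hM

variable {θ' : IrrCharacter H} (Θ : Fam D f 2 ψ θ') (Φ₁ : Fam D f 2 ψ (H12.oneIrr H))

/-- The moment inequality. -/
theorem moment (hone : H12.oneIrr G ∈ Φ₁.X) (hΘδ : Θ.δ = -1)
    (hΘd : H12.degree (Θ.Y 1 : G → ℂ) = n) {Q : ℕ}
    (hQ : classInner (fun g => (Θ.Y 1 : G → ℂ) g * conj ((Θ.Y 1 : G → ℂ) g))
      (fun g => (Θ.Y 1 : G → ℂ) g * conj ((Θ.Y 1 : G → ℂ) g)) = (Q : ℂ)) (μ : ℝ)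
    (hpt : ∀ g : G, ¬ p ∣ orderOf g → g ∉ H → ∀ R : ℝ, blockR n Φ₁ g = (R : ℂ) →
      μ ^ 2 * (Complex.normSq ((Θ.Y 1 : G → ℂ) g) ^ 2 - Complex.normSq ((Θ.Y 1 : G → ℂ) g)) ≤
        (R - (p : ℝ) / 2) ^ 2) :
    ((f : ℝ) * n - (p : ℝ) / 2) ^ 2 - μ ^ 2 * ((n : ℝ) ^ 4 - (n : ℝ) ^ 2) ≤
      (f : ℝ) * Nat.card (Sylow p G) * momentL p f n
        (∑ i ∈ Φ₁.X, 1 / (H12.degree (i : G → ℂ) : ℝ) ^ 2 +
          1 / (8 * (H12.degree (Φ₁.Y 1 : G → ℂ) : ℝ) ^ 2))
        (∑ i ∈ Φ₁.X, (Φ₁.εX i : ℝ) / (H12.degree (i : G → ℂ) : ℝ) -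
          (Φ₁.δ : ℝ) / (4 * (H12.degree (Φ₁.Y 1 : G → ℂ) : ℝ))) Q μ := by
  classical
  set T : G → ℝ := fun g => Complex.normSq ((Θ.Y 1 : G → ℂ) g) with hT
  set k : ℝ := 2 * f * n / p with hk
  set m := H12.degree (Φ₁.Y 1 : G → ℂ) with hm
  have hm0 : (m : ℂ) ≠ 0 := Nat.cast_ne_zero.2 (H12.irr_degree_pos _).ne'
  have hp0 : (p : ℝ) ≠ 0 := Nat.cast_ne_zero.2 hp.out.ne_zero
  have hl1 := one_mem_lab (p := p) hft
  have hlm := neg_one_mem (p := p) hft
  have hYne : Φ₁.Y 1 ≠ Φ₁.Y (-1) := fun e => neg_one_ne hft (Φ₁.injY 1 hl1 _ hlm e).symm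
  set Ys : Finset (IrrCharacter G) := {Φ₁.Y 1, Φ₁.Y (-1)} with hYs
  have hdisj : Disjoint Φ₁.X Ys := Finset.disjoint_left.2 fun i hi hi' => by
    rcases Finset.mem_insert.1 hi' with rfl | hi'
    · exact Φ₁.disj 1 hl1 hi
    · rw [Finset.mem_singleton.1 hi'] at hi; exact Φ₁.disj (-1) hlm hi
  -- the class function
  let c : IrrCharacter G → ℂ := fun i =>
    (if i ∈ Φ₁.X then ((k / (H12.degree (i : G → ℂ) : ℝ) : ℝ) : ℂ) else 0) +
    (if i ∈ Ys then ((k / (4 * (m : ℝ)) : ℝ) : ℂ) else 0) -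
    (if i = H12.oneIrr G then (((p : ℝ) / 2 : ℝ) : ℂ) else 0)
  set W : G → ℂ := ∑ i : IrrCharacter G, c i • (i : G → ℂ) with hW
  have hWval : ∀ g : G, W g = (k : ℂ) * ∑ i ∈ Φ₁.X, (i : G → ℂ) g / (H12.degree (i : G → ℂ) : ℂ) +
      (k : ℂ) / (4 * m) * ((Φ₁.Y 1 : G → ℂ) g + (Φ₁.Y (-1) : G → ℂ) g) - (p : ℂ) / 2 := by
    intro g
    simp only [hW, c, Finset.sum_apply, Pi.smul_apply, smul_eq_mul, add_mul, sub_mul, ite_mul,
      zero_mul, Finset.sum_add_distrib, Finset.sum_sub_distrib, Finset.sum_ite_mem,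
      Finset.univ_inter, Finset.sum_ite_eq', Finset.mem_univ, if_true, hYs, Finset.sum_pair hYne,
      H12.oneIrr_apply, mul_one]
    push_cast
    rw [Finset.mul_sum]
    simp only [div_mul_eq_mul_div, mul_div_assoc]
    ring
  have hWcl : IsClassFunction G W := by
    intro g t
    simp only [hW, Finset.sum_apply, Pi.smul_apply, smul_eq_mul]
    exact Finset.sum_congr rfl fun i _ => by rw [H12.irr_isClassFunction i g t]
  have hreg : ∀ g : G, ¬ p ∣ orderOf g → W g = blockR n Φ₁ g - (p : ℂ) / 2 := fun g hg => by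
    rw [hWval, Φ₁.regY (-1) hlm g hg, blockR, hk, hm]
    push_cast
    ring
  -- the values on the singular elements
  set E₁ : ℝ := ∑ i ∈ Φ₁.X, (Φ₁.εX i : ℝ) / (H12.degree (i : G → ℂ) : ℝ) -
    (Φ₁.δ : ℝ) / (4 * (m : ℝ)) with hE₁
  have hsingW : ∀ (x : (P : Subgroup G)), x ≠ 1 → ∀ j : H,
      W ((x : G) * j) = (((k * E₁ - (p : ℝ) / 2 : ℝ)) : ℂ) := by
    intro x hx j
    rw [hWval, Φ₁.valY 1 hl1 x hx j, Φ₁.valY (-1) hlm x hx j, H12.oneIrr_apply, mul_one, mul_one,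
      ← mul_add, per_pair h hft x hx, hE₁,
      Finset.sum_congr rfl fun i hi => by rw [Φ₁.valX i hi x hx j, H12.oneIrr_apply, mul_one]]
    push_cast
    ring
  -- the norm
  set S₂ : ℝ := ∑ i ∈ Φ₁.X, 1 / (H12.degree (i : G → ℂ) : ℝ) ^ 2 + 1 / (8 * (m : ℝ) ^ 2) with hS₂
  have hnorm : ∑ g : G, Complex.normSq (W g) =
      (Nat.card G : ℝ) * (k ^ 2 * S₂ - (p : ℝ) * k + (p : ℝ) ^ 2 / 4) := by
    have h1 := H12.sum_mul_conj_eq_card_mul W W
    rw [show classInner W W = ∑ i : IrrCharacter G, c i * conj (c i) by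
      rw [hW, H12.classInner_sum_smul_sum_smul]] at h1
    simp only [Complex.mul_conj] at h1
    have h2 : ∑ g : G, Complex.normSq (W g) = (Nat.card G : ℝ) * ∑ i, Complex.normSq (c i) := by
      exact_mod_cast h1
    rw [h2]
    congr 1
    have hcr : ∀ i, Complex.normSq (c i) =
        ((if i ∈ Φ₁.X then k / (H12.degree (i : G → ℂ) : ℝ) else 0) +
          (if i ∈ Ys then k / (4 * (m : ℝ)) else 0) -
          (if i = H12.oneIrr G then (p : ℝ) / 2 else 0)) ^ 2 := fun i => by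
      rw [show c i = ((((if i ∈ Φ₁.X then k / (H12.degree (i : G → ℂ) : ℝ) else 0) +
          (if i ∈ Ys then k / (4 * (m : ℝ)) else 0) -
          (if i = H12.oneIrr G then (p : ℝ) / 2 else 0)) : ℝ) : ℂ) by
        simp only [c]; split_ifs <;> push_cast <;> ring, Complex.normSq_ofReal]
      ring
    have hsq : ∀ i, Complex.normSq (c i) =
        (if i ∈ Φ₁.X then (k / (H12.degree (i : G → ℂ) : ℝ)) ^ 2 else 0) +
        (if i ∈ Ys then (k / (4 * (m : ℝ))) ^ 2 else 0) +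
        (if i = H12.oneIrr G then (p : ℝ) ^ 2 / 4 - (p : ℝ) * k else 0) := fun i => by
      rw [hcr i]
      by_cases hi : i ∈ Φ₁.X
      · have hiY := Finset.disjoint_left.1 hdisj hi
        by_cases h1' : i = H12.oneIrr G
        · have hd : H12.degree (H12.oneIrr G : G → ℂ) = 1 := by
            have h1 := H12.irr_apply_one (H12.oneIrr G)
            rw [H12.oneIrr_apply] at h1
            exact_mod_cast h1.symm
          rw [if_pos hi, if_neg hiY, if_pos h1', if_pos hi, if_neg hiY, if_pos h1', h1', hd]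
          push_cast
          ring
        · simp [hi, hiY, h1']
      · have h1' : i ≠ H12.oneIrr G := fun e => hi (e ▸ hone)
        by_cases hiY : i ∈ Ys <;> simp [hi, hiY, h1']
    simp only [hsq, Finset.sum_add_distrib, Finset.sum_ite_mem, Finset.univ_inter,
      Finset.sum_ite_eq', Finset.mem_univ, if_true, hYs, Finset.sum_pair hYne, hS₂]
    rw [mul_add, Finset.mul_sum, Finset.sum_congr rfl (g := fun i : IrrCharacter G =>
      (k / (H12.degree (i : G → ℂ) : ℝ)) ^ 2) (fun i _ => by ring :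
        ∀ i ∈ Φ₁.X, k ^ 2 * (1 / (H12.degree (i : G → ℂ) : ℝ) ^ 2) = _)]
    ring
  -- the fourth powers
  have hTsum : ∑ g : G, T g = (Nat.card G : ℝ) := by
    have h1 := H12.sum_mul_conj_eq_card_mul (Θ.Y 1 : G → ℂ) (Θ.Y 1 : G → ℂ)
    rw [H12.classInner_irr_self, mul_one] at h1
    simp only [Complex.mul_conj] at h1
    exact_mod_cast h1
  have hT2sum : ∑ g : G, T g ^ 2 = (Nat.card G : ℝ) * Q := by
    have h1 := H12.sum_mul_conj_eq_card_mul
      (fun g => (Θ.Y 1 : G → ℂ) g * conj ((Θ.Y 1 : G → ℂ) g))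
      (fun g => (Θ.Y 1 : G → ℂ) g * conj ((Θ.Y 1 : G → ℂ) g))
    rw [hQ] at h1
    simp only [Complex.mul_conj, Complex.conj_ofReal] at h1
    simp only [hT, pow_two]
    exact_mod_cast h1
  -- the singular sum
  set F : G → ℝ := fun g => Complex.normSq (W g) - μ ^ 2 * (T g ^ 2 - T g) with hF
  have hTcl : ∀ g t : G, T (t * g * t⁻¹) = T g := fun g t => by
    simp only [hT]; rw [H12.irr_isClassFunction (Θ.Y 1) g t]
  have hTk : ∀ (g : G) (j : H), T (g * j) = T g := fun g j => by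
    simp only [hT]
    rw [central_mul D h.central_le hM ((Θ.mem_supp _).2 (Or.inr ⟨1, hl1, rfl⟩)) g j,
      Complex.normSq_mul, Complex.normSq_eq_norm_sq, norm_lin D h.central_le θ' j, one_pow, one_mul]
  have hsing := HalfDeg.sum_singular D h.central_le (F := F)
    (fun g t => by simp only [hF]; rw [hWcl g t, hTcl g t])
    fun x hx hx1 j => by
      have hx' : (⟨x, hx⟩ : (P : Subgroup G)) ≠ 1 := fun h' => hx1 (congrArg Subtype.val h')
      have e1 := hsingW ⟨x, hx⟩ hx' j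
      have e2 := hsingW ⟨x, hx⟩ hx' 1
      rw [OneMemClass.coe_one, mul_one] at e2
      simp only [hF]
      rw [show W (x * j) = _ from e1, show W x = _ from e2, hTk x j]
  have hTx : ∀ x : (P : Subgroup G), x ≠ 1 →
      (T x : ℂ) = per ψ f (1 : ZMod p) x * conj (per ψ f (1 : ZMod p) x) := fun x hx => by
    simp only [hT]
    rw [← Complex.mul_conj, Fam.valY' h hft Θ hl1 x hx, hΘδ]
    push_cast
    simp [map_neg]
  have hT1 : ∑ x ∈ Finset.univ.erase (1 : (P : Subgroup G)), T x = (p : ℝ) * f - (f : ℝ) * f := by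
    have h1 : ((∑ x ∈ Finset.univ.erase (1 : (P : Subgroup G)), T x : ℝ) : ℂ) =
        (((p : ℝ) * f - (f : ℝ) * f : ℝ) : ℂ) := by
      push_cast
      rw [Finset.sum_congr rfl fun x hx => hTx x (Finset.ne_of_mem_erase hx),
        sum_erase_per_mul_conj D.hP h.psi_ne hft 1 1 hl1 hl1, if_pos rfl]
    exact_mod_cast h1
  have hT4 : 2 * ∑ x ∈ Finset.univ.erase (1 : (P : Subgroup G)), T x ^ 2 =
      if Even f then (f : ℝ) * (2 * (n : ℝ) * n - (f : ℝ) * f) else (f : ℝ) * n * n := by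
    have h1 := sum_per_fourth h hft hl1
    rw [Finset.sum_congr rfl (g := fun x : (P : Subgroup G) => ((T x : ℝ) : ℂ) ^ 2) fun x hx => by
      rw [hTx x (Finset.ne_of_mem_erase hx)]] at h1
    split_ifs at h1 ⊢ <;>
      (refine Complex.ofReal_injective ?_; push_cast; exact h1)
  have hcardE : ((Finset.univ.erase (1 : (P : Subgroup G))).card : ℝ) = 2 * f := by
    rw [Finset.card_erase_of_mem (Finset.mem_univ _), Finset.card_univ, ← Nat.card_eq_fintype_card,
      D.hP, ← hft, Nat.add_sub_cancel]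
    push_cast; ring
  have hFx : ∑ x ∈ Finset.univ.erase (1 : (P : Subgroup G)), F x =
      2 * f * (k * E₁ - (p : ℝ) / 2) ^ 2 - μ ^ 2 *
        (∑ x ∈ Finset.univ.erase (1 : (P : Subgroup G)), T x ^ 2 - ((p : ℝ) * f - (f : ℝ) * f)) := by
    simp only [hF, Finset.sum_sub_distrib, ← Finset.mul_sum, hT1]
    rw [Finset.sum_congr rfl (g := fun _ => (k * E₁ - (p : ℝ) / 2) ^ 2) fun x hx => by
      have e2 := hsingW x (Finset.ne_of_mem_erase hx) 1
      rw [OneMemClass.coe_one, mul_one] at e2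
      rw [e2, Complex.normSq_ofReal]; ring, Finset.sum_const, nsmul_eq_mul, hcardE]
  rw [h.card_aut, hFx] at hsing
  -- the regular sum
  set RS := ∑ g ∈ Finset.univ.filter (fun g : G => ¬ p ∣ orderOf g), F g with hRS
  have hHreg : ∀ j : H, ¬ p ∣ orderOf (j : G) := fun j => D.not_dvd_orderOf j.2
  have hlow : (Nat.card H : ℝ) * (((f : ℝ) * n - (p : ℝ) / 2) ^ 2 -
      μ ^ 2 * ((n : ℝ) ^ 4 - (n : ℝ) ^ 2)) ≤ RS := by
    have hval : ∀ j : H, F j = ((f : ℝ) * n - (p : ℝ) / 2) ^ 2 -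
        μ ^ 2 * ((n : ℝ) ^ 4 - (n : ℝ) ^ 2) := fun j => by
      have hT' : T j = (n : ℝ) ^ 2 := by
        have := hTk 1 j
        rw [one_mul] at this
        rw [this]
        simp only [hT, H12.irr_apply_one, hΘd, Complex.normSq_natCast]
        ring
      have hWj : W (j : G) = (((f : ℝ) * n - (p : ℝ) / 2 : ℝ) : ℂ) := by
        rw [hreg _ (hHreg j), blockR, Finset.sum_congr rfl (g := fun _ => (1 : ℂ)) fun i hi => by
          rw [apply_center D h.central_le hM ((Φ₁.mem_supp _).2 (Or.inl hi)) j, H12.oneIrr_apply,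
            one_mul, div_self (Nat.cast_ne_zero.2 (H12.irr_degree_pos _).ne')],
          apply_center D h.central_le hM ((Φ₁.mem_supp _).2 (Or.inr ⟨1, hl1, rfl⟩)) j,
          H12.oneIrr_apply, one_mul, div_self hm0, Finset.sum_const, Φ₁.card_X, nsmul_eq_mul, mul_one]
        have hpC : (p : ℂ) = f * 2 + 1 := by exact_mod_cast hft.symm
        have hpC0 : (p : ℂ) ≠ 0 := Nat.cast_ne_zero.2 hp.out.ne_zero
        push_cast
        field_simp
        rw [hpC]
        ring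
      simp only [hF, hT', hWj, Complex.normSq_ofReal]
      ring
    have hnonneg : ∀ g ∈ Finset.univ.filter (fun g : G => ¬ p ∣ orderOf g), g ∉ H → 0 ≤ F g := by
      intro g hg hgH
      have hgr := (Finset.mem_filter.1 hg).2
      obtain ⟨R, -, hR, -, -⟩ := block_ineq h hft hM Φ₁ hgr
      have h1 := hpt g hgr hgH R hR
      have hWg : W g = ((R - (p : ℝ) / 2 : ℝ) : ℂ) := by
        rw [hreg g hgr, hR]; push_cast; ring
      simp only [hF, hT, hWg, Complex.normSq_ofReal] at h1 ⊢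
      rw [← pow_two]
      linarith
    rw [hRS, ← Finset.sum_filter_add_sum_filter_not (Finset.univ.filter fun g : G => ¬ p ∣ orderOf g)
      (fun g => g ∈ H)]
    refine le_add_of_le_of_nonneg (le_of_eq ?_) (Finset.sum_nonneg fun g hg =>
      hnonneg g (Finset.mem_filter.1 hg).1 (Finset.mem_filter.1 hg).2)
    rw [Finset.sum_congr rfl (g := fun _ => ((f : ℝ) * n - (p : ℝ) / 2) ^ 2 -
      μ ^ 2 * ((n : ℝ) ^ 4 - (n : ℝ) ^ 2)) fun g hg => hval ⟨g, (Finset.mem_filter.1 hg).2⟩,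
      Finset.sum_const, nsmul_eq_mul, ← Nat.subtype_card _ fun x => by
        show x ∈ _ ↔ x ∈ H
        rw [Finset.mem_filter, Finset.mem_filter]
        exact ⟨fun h => h.2, fun h => ⟨⟨Finset.mem_univ _, D.not_dvd_orderOf h⟩, h⟩⟩]
  have htot := Finset.sum_filter_add_sum_filter_not Finset.univ (fun g : G => p ∣ orderOf g) F
  rw [← hRS, show ∑ g : G, F g = (Nat.card G : ℝ) * (k ^ 2 * S₂ - (p : ℝ) * k + (p : ℝ) ^ 2 / 4) -
      μ ^ 2 * ((Nat.card G : ℝ) * Q - (Nat.card G : ℝ)) by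
    simp only [hF, Finset.sum_sub_distrib, ← Finset.mul_sum, hnorm, hTsum, hT2sum]] at htot
  have hG : (Nat.card G : ℝ) = (f : ℝ) * p * Nat.card H * Nat.card (Sylow p G) := by
    exact_mod_cast card_group h hft
  have hpR : (p : ℝ) = f * 2 + 1 := by exact_mod_cast hft.symm
  have hH : (0 : ℝ) < Nat.card H := Nat.cast_pos.2 Nat.card_pos
  have hfpos : (0 : ℝ) < f := Nat.cast_pos.2 (f_pos hft)
  have hkey : RS = (Nat.card H : ℝ) * ((f : ℝ) * Nat.card (Sylow p G) * momentL p f n S₂ E₁ Q μ) := by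
    push_cast at hsing
    refine mul_left_cancel₀ (mul_ne_zero hfpos.ne' hp0) ?_
    have hS : ∑ g ∈ Finset.univ.filter (fun g : G => p ∣ orderOf g), F g =
        (Nat.card G : ℝ) * (k ^ 2 * S₂ - (p : ℝ) * k + (p : ℝ) ^ 2 / 4) -
      μ ^ 2 * ((Nat.card G : ℝ) * Q - (Nat.card G : ℝ)) - RS := by linarith
    rw [hS, hG] at hsing
    rw [momentL, ← hk]
    split_ifs at hT4 ⊢ with he
    · linear_combination (-1 : ℝ) * hsing +
        ((f : ℝ) * p * Nat.card H * Nat.card (Sylow p G) * μ ^ 2 / 2) * hT4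
    · linear_combination (-1 : ℝ) * hsing +
        ((f : ℝ) * p * Nat.card H * Nat.card (Sylow p G) * μ ^ 2 / 2) * hT4
  rw [hkey] at hlow
  exact le_of_mul_le_mul_left hlow hH

end H15.Degree
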