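import Cfsg.Agent.H15.Degree.Wedge
import Cfsg.Agent.H15.Degree.Moment
import Cfsg.Agent.H15.Degree.Bounds

/-!
Degrees below `p - 1` (helper15): two classes of elements of order `p`; the principal block as seen
by the squares of the absolute values of the characters of degree `(p + 1) / 2`.
-/

set_option autoImplicit false
set_option linter.style.haveILetI false
set_option linter.unusedSectionVars false

open Cfsg
open scoped ComplexConjugate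

namespace H15.Degree

open H85.D1 H15.HalfDeg

universe u

variable {G : Type u} [Group G] [Fintype G] {p : ℕ} [hp : Fact p.Prime]
  {P : Sylow p G} {u a : G} {H : Subgroup G} [Fintype H] [Fintype (P : Subgroup G)]
  {D : Setting P u a H} [Fintype (D.aut (H12.oneIrr H))] {f n : ℕ}
  {χ : IrrCharacter G} {θ : IrrCharacter H} {ψ : (P : Subgroup G) →* ℂˣ}

variable (h : Neg D f n χ θ ψ) (hft : f * 2 + 1 = p)
include h hft

theorem Split.sum_Xp {Φ : Fam D f 2 ψ (H12.oneIrr H)} {F₁ F₂ : G → ℂ} (S : Split n Φ F₁ F₂)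
    (F : ℕ → ℝ) : ∑ i ∈ S.Xp, F (H12.degree (i : G → ℂ)) =
      F 1 + ((S.Xp.card : ℝ) - 1 - S.V.card) * F (2 * n) + (S.V.card : ℝ) * F (4 * f + 3) := by
  classical
  have hmem := S.one_mem rfl
  have hd : H12.degree (H12.oneIrr G : G → ℂ) = 1 := by
    have e := H12.irr_apply_one (H12.oneIrr G)
    rw [H12.oneIrr_apply] at e
    exact_mod_cast e.symm
  have hsub : S.V ⊆ S.Xp.erase (H12.oneIrr G) := fun i hi =>
    Finset.mem_erase.2 ⟨fun e => S.one_V (e ▸ hi), S.sub_V hi⟩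
  rw [← Finset.add_sum_erase _ _ hmem, hd, ← Finset.sum_sdiff hsub,
    Finset.sum_congr rfl (g := fun _ => F (4 * f + 3)) (s₁ := S.V) fun i hi => by rw [S.deg_V i hi],
    Finset.sum_congr rfl (g := fun _ => F (2 * n)) (s₁ := _ \ S.V) fun i hi => by
      obtain ⟨h1, h2⟩ := Finset.mem_sdiff.1 hi
      rw [S.deg_p i (Finset.mem_of_mem_erase h1) (Finset.ne_of_mem_erase h1) h2],
    Finset.sum_const, Finset.sum_const, nsmul_eq_mul, nsmul_eq_mul,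
    Finset.card_sdiff_of_subset hsub, Nat.cast_sub (Finset.card_le_card hsub),
    Finset.card_erase_of_mem hmem, Nat.cast_sub (Finset.card_pos.2 ⟨_, hmem⟩)]
  push_cast
  ring

theorem Split.sum_Xm {φ : IrrCharacter H} {Φ : Fam D f 2 ψ φ} {F₁ F₂ : G → ℂ}
    (S : Split n Φ F₁ F₂) (F : ℕ → ℝ) : ∑ i ∈ S.Xm, F (H12.degree (i : G → ℂ)) =
      ((S.Xm.card : ℝ) - S.W.card) * F (2 * f) + (S.W.card : ℝ) * F (4 * f + 1) := by
  classical
  rw [← Finset.sum_sdiff S.sub_W,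
    Finset.sum_congr rfl (g := fun _ => F (4 * f + 1)) (s₁ := S.W) fun i hi => by rw [S.deg_W i hi],
    Finset.sum_congr rfl (g := fun _ => F (2 * f)) (s₁ := _ \ S.W) fun i hi => by
      obtain ⟨h1, h2⟩ := Finset.mem_sdiff.1 hi
      rw [S.deg_m i h1 h2],
    Finset.sum_const, Finset.sum_const, nsmul_eq_mul, nsmul_eq_mul,
    Finset.card_sdiff_of_subset S.sub_W, Nat.cast_sub (Finset.card_le_card S.sub_W)]

theorem Split.card_add {φ : IrrCharacter H} {Φ : Fam D f 2 ψ φ} {F₁ F₂ : G → ℂ}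
    (S : Split n Φ F₁ F₂) : S.Xp.card + S.Xm.card = f := by
  classical
  rw [← Finset.card_union_of_disjoint S.disjoint]
  refine Eq.trans (congrArg Finset.card ?_) Φ.card_X
  ext i
  rw [Finset.mem_union]
  exact (S.union i).symm

/-- The two sums of the moment inequality. -/
theorem Split.moment_sums {Φ : Fam D f 2 ψ (H12.oneIrr H)} {F₁ F₂ : G → ℂ}
    (S : Split n Φ F₁ F₂) {α β v w : ℝ} (hα : (S.Xp.card : ℝ) - 1 - S.V.card = α)
    (hβ : (S.Xm.card : ℝ) - S.W.card = β) (hv : (S.V.card : ℝ) = v) (hw : (S.W.card : ℝ) = w)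
    (m : ℕ) :
    ∑ i ∈ Φ.X, 1 / (H12.degree (i : G → ℂ) : ℝ) ^ 2 + 1 / (8 * (m : ℝ) ^ 2) =
      1 + α / (4 * ((f : ℝ) + 1) ^ 2) + v / (4 * (f : ℝ) + 3) ^ 2 + β / (4 * (f : ℝ) ^ 2) +
        w / (4 * (f : ℝ) + 1) ^ 2 + 1 / (8 * (m : ℝ) ^ 2) ∧
    ∑ i ∈ Φ.X, (Φ.εX i : ℝ) / (H12.degree (i : G → ℂ) : ℝ) -
        (Φ.δ : ℝ) / (4 * (m : ℝ)) =
      1 + α / (2 * ((f : ℝ) + 1)) + v / (4 * (f : ℝ) + 3) - β / (2 * (f : ℝ)) -
        w / (4 * (f : ℝ) + 1) - (Φ.δ : ℝ) / (4 * (m : ℝ)) := by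
  classical
  have hX : Φ.X = S.Xp ∪ S.Xm := by ext i; rw [Finset.mem_union]; exact S.union i
  have hn : (n : ℝ) = (f : ℝ) + 1 := by exact_mod_cast n_eq h hft
  constructor
  · rw [hX, Finset.sum_union S.disjoint, S.sum_Xp h hft (fun k => 1 / (k : ℝ) ^ 2),
      S.sum_Xm h hft (fun k => 1 / (k : ℝ) ^ 2), hα, hβ, hv, hw]
    push_cast
    rw [hn]
    ring
  · rw [hX, Finset.sum_union S.disjoint,
      Finset.sum_congr rfl (s₁ := S.Xp) (g := fun i => 1 / (H12.degree (i : G → ℂ) : ℝ))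
        fun i hi => by rw [S.eps_p i hi, Int.cast_one],
      Finset.sum_congr rfl (s₁ := S.Xm) (g := fun i => -1 / (H12.degree (i : G → ℂ) : ℝ))
        fun i hi => by rw [S.eps_m i hi, Int.cast_neg, Int.cast_one],
      S.sum_Xp h hft (fun k => 1 / (k : ℝ)), S.sum_Xm h hft (fun k => -1 / (k : ℝ)), hα, hβ, hv, hw]
    push_cast
    rw [hn]
    ring

variable {M : Ideal AlgInt} [M.IsPrime] (hM : IsPModular p M)
include hM

/-- The product of an exceptional character of degree `n` with its conjugate. -/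
theorem prods_self {φ : IrrCharacter H} (Θ : Fam D f 2 ψ φ) (hδ : Θ.δ = -1)
    (hd : H12.degree (Θ.Y 1 : G → ℂ) = n) :
    Prods D f n ψ (H12.oneIrr H) (fun g => (Θ.Y 1 : G → ℂ) g * conj ((Θ.Y 1 : G → ℂ) g))
      (fun g => (Θ.Y 1 : G → ℂ) g * conj ((Θ.Y (-1) : G → ℂ) g)) :=
  prods_pair h hft hM Θ Θ (fun k => by
    rw [H12.oneIrr_apply, Complex.mul_conj, Complex.normSq_eq_norm_sq, norm_lin D h.central_le φ k,
      one_pow, Complex.ofReal_one]) hδ hδ hd hd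

variable (hf5 : 5 ≤ f) (hnof : ∀ i : IrrCharacter G, H12.degree (i : G → ℂ) ≠ f)
  (Φ₁ : Fam D f 2 ψ (H12.oneIrr H))
  (hbad : ¬ (Φ₁.δ = -1 ∧ H12.degree (Φ₁.Y 1 : G → ℂ) = n))
include hf5 hnof hbad

omit hf5 hnof in
/-- The configurations of the principal block with a large exceptional degree. -/
theorem Split.kind_bad {F₁ F₂ : G → ℂ} (S : Split n Φ₁ F₁ F₂) :
    (Φ₁.δ = -1 ∧ Even f ∧ H12.degree (Φ₁.Y 1 : G → ℂ) = 3 * f + 2 ∧ S.E = 0 ∧ S.E' = 1 ∧ S.z = 0 ∧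
      S.V.card = 0 ∧ S.W.card = 1 ∧ 2 * S.Xm.card = f) ∨
    (Φ₁.δ = 1 ∧ Odd f ∧ H12.degree (Φ₁.Y 1 : G → ℂ) = 3 * f + 1 ∧ S.E = 1 ∧ S.E' = 0 ∧ S.z = 0 ∧
      S.V.card = 1 ∧ S.W.card = 0 ∧ 2 * S.Xm.card + 1 = f) := by
  have hι : iota (H12.oneIrr H) = 1 := if_pos rfl
  rcases S.kind with ⟨k1, -, -, k2, -⟩ | ⟨k1, -, k2, -⟩ | k | ⟨k1, -, k2, -⟩ |
    ⟨k1, k2, k3, k4, k5, k6, k7, k8, k9⟩
  · exact absurd ⟨k1, k2⟩ hbad
  · exact absurd ⟨k1, k2⟩ hbad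
  · obtain ⟨k1, k2, -, k3⟩ := k
    exact Or.inl ⟨k1, k2, k3⟩
  · exact absurd ⟨k1, k2⟩ hbad
  · exact Or.inr ⟨k1, k2, k3, k4, k5, k6, k7.trans hι, k8, k9⟩

/-- All products in the principal block agree on the regular elements. -/
theorem prods_universal {F₁ F₂ F₁' F₂' : G → ℂ} (hF : Prods D f n ψ (H12.oneIrr H) F₁ F₂)
    (hF' : Prods D f n ψ (H12.oneIrr H) F₁' F₂') {g : G} (hg : ¬ p ∣ orderOf g) :
    F₁ g = F₁' g := by
  classical
  obtain ⟨S⟩ := exists_split_prods h hft hM Φ₁ hF hf5 hnof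
  obtain ⟨S'⟩ := exists_split_prods h hft hM Φ₁ hF' hf5 hnof
  have hm : ∀ {A B : G → ℂ} (T : Split n Φ₁ A B), T.Xm = Φ₁.X.filter fun i => Φ₁.εX i = -1 := by
    intro A B T
    ext i
    rw [Finset.mem_filter, T.union]
    refine ⟨fun hi => ⟨Or.inr hi, T.eps_m i hi⟩, fun hi => hi.1.resolve_left fun hp' => ?_⟩
    have := T.eps_p i hp'
    rw [hi.2] at this
    norm_num at this
  have hk : S.E = S'.E ∧ S.z = 0 ∧ S'.z = 0 := by
    rcases S.kind_bad h hft hM Φ₁ hbad with k | k <;>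
      rcases S'.kind_bad h hft hM Φ₁ hbad with k' | k'
    · exact ⟨k.2.2.2.1.trans k'.2.2.2.1.symm, k.2.2.2.2.2.1, k'.2.2.2.2.2.1⟩
    · have := k.1; rw [k'.1] at this; norm_num at this
    · have := k.1; rw [k'.1] at this; norm_num at this
    · exact ⟨k.2.2.2.1.trans k'.2.2.2.1.symm, k.2.2.2.2.2.1, k'.2.2.2.2.2.1⟩
  rw [hF.reg g hg, hF'.reg g hg, S.expand₂ hk.2.1 g hg, S'.expand₂ hk.2.2 g hg, hm S, hm S', hk.1]

/-- The absolute values of the characters of degree `n` agree. -/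
theorem normSq_universal {φ φ' : IrrCharacter H} (Θ : Fam D f 2 ψ φ) (hδ : Θ.δ = -1)
    (hd : H12.degree (Θ.Y 1 : G → ℂ) = n) (Θ' : Fam D f 2 ψ φ') (hδ' : Θ'.δ = -1)
    (hd' : H12.degree (Θ'.Y 1 : G → ℂ) = n) {g : G} (hg : ¬ p ∣ orderOf g) :
    Complex.normSq ((Θ.Y 1 : G → ℂ) g) = Complex.normSq ((Θ'.Y 1 : G → ℂ) g) := by
  have h1 := prods_universal h hft hM hf5 hnof Φ₁ hbad (prods_self h hft hM Θ hδ hd)
    (prods_self h hft hM Θ' hδ' hd') hg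
  simp only [Complex.mul_conj] at h1
  exact_mod_cast h1

/-- The squares of the absolute values are integers. -/
theorem exists_int_normSq {φ : IrrCharacter H} (Θ : Fam D f 2 ψ φ) (hδ : Θ.δ = -1)
    (hd : H12.degree (Θ.Y 1 : G → ℂ) = n) {g : G} (hg : ¬ p ∣ orderOf g) :
    ∃ k : ℤ, Complex.normSq ((Θ.Y 1 : G → ℂ) g) = (k : ℝ) := by
  have hinv : (Complex.normSq ((Θ.Y 1 : G → ℂ) g) : ℂ) =
      (Θ.Y 1 : G → ℂ) g * (Θ.Y 1 : G → ℂ) g⁻¹ := by rw [H12.irr_inv, Complex.mul_conj]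
  obtain ⟨k, hk⟩ := exists_int_of_fixed
    (z := (Complex.normSq ((Θ.Y 1 : G → ℂ) g) : ℂ))
    (hinv ▸ (isIntegral_irr_val _ g).mul (isIntegral_irr_val _ g⁻¹)) fun σ => by
      obtain ⟨φ', Θ', hδ', hd', -, hval⟩ := exists_galois h hft hM Θ hd σ
      rw [hinv, map_mul, hval g hg, hval g⁻¹ (by rwa [orderOf_inv]), H12.irr_inv,
        Complex.mul_conj, ← hinv]
      exact_mod_cast (normSq_universal h hft hM hf5 hnof Φ₁ hbad Θ' hδ' hd' Θ hδ hd hg)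
  exact ⟨k, by exact_mod_cast hk⟩

end H15.Degree
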