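import Cfsg.Agent.H15.Degree.Values
import Cfsg.Agent.H15.Degree.Moment
import Cfsg.Agent.H15.HalfDeg.Main
import Cfsg.Agent.H15.BergerLemmas

/-!
Degrees below `p - 1` (helper15): two classes of elements of order `p`; congruences for the number
of Sylow subgroups, and the recognition of `PSL(2, p)` modulo the centre.
-/

set_option autoImplicit false
set_option linter.style.haveILetI false
set_option linter.unusedSectionVars false

open Cfsg
open scoped ComplexConjugate

namespace H15.Degree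

open H85.D1 H15.HalfDeg

universe u

variable {G : Type u} [Group G] [Fintype G] {p : ℕ} [hp : Fact p.Prime]
  {P : Sylow p G} {u a : G} {H : Subgroup G} [Fintype H] [Fintype (P : Subgroup G)]
  {D : Setting P u a H} [Fintype (D.aut (H12.oneIrr H))] {f n : ℕ}
  {χ : IrrCharacter G} {θ : IrrCharacter H} {ψ : (P : Subgroup G) →* ℂˣ}

variable (h : Neg D f n χ θ ψ) (hft : f * 2 + 1 = p)
include h hft

/-- The number of Sylow subgroups is `1 + j p` with `j` positive. -/
theorem exists_j : ∃ j : ℕ, 1 ≤ j ∧ Nat.card (Sylow p G) = 1 + j * p := by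
  classical
  have h1 := card_sylow_modEq_one p G
  have hp2 := hp.out.two_le
  have hmod : Nat.card (Sylow p G) % p = 1 := by
    rw [h1]; exact Nat.mod_eq_of_lt (by omega)
  refine ⟨Nat.card (Sylow p G) / p, ?_, ?_⟩
  · refine Nat.pos_of_ne_zero fun h0 => h.not_normal ?_
    have hN : Nat.card (Sylow p G) = 1 := by
      have := Nat.div_add_mod (Nat.card (Sylow p G)) p
      rw [h0, hmod, mul_zero] at this
      omega
    haveI : Subsingleton (Sylow p G) := (Nat.card_eq_one_iff_unique.1 hN).1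
    exact Sylow.normal_of_subsingleton P
  · have := Nat.div_add_mod (Nat.card (Sylow p G)) p
    rw [hmod, mul_comm] at this
    omega

/-- The index of the centre. -/
theorem index_eq : H.index = f * p * Nat.card (Sylow p G) := by
  have h1 := H.card_mul_index
  rw [card_group h hft] at h1
  refine Nat.eq_of_mul_eq_mul_left (Nat.card_pos (α := H)) ?_
  rw [h1]
  ring

/-- The group modulo its centre when there are `p + 1` Sylow subgroups. -/
theorem psl_of_card (hgen : Subgroup.closure {g : G | g ^ p = 1} = ⊤)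
    (hn : Nat.card (Sylow p G) = p + 1) :
    Nonempty ((G ⧸ Subgroup.center G) ≃* Matrix.ProjectiveSpecialLinearGroup (Fin 2) (ZMod p)) := by
  classical
  have hcard : Nat.card G = Nat.card H * (p * f * (p + 1)) := by
    rw [card_group h hft, hn]; ring
  set Z := Subgroup.center G with hZ
  set π := QuotientGroup.mk' Z with hπ
  have hπs : Function.Surjective π := QuotientGroup.mk'_surjective Z
  have hHZ : H = Z := h.center_eq
  set P' := P.mapSurjective hπs with hP'
  have hP'c : (P' : Subgroup (G ⧸ Z)) = (P : Subgroup G).map π := rfl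
  have hxp : ∀ x ∈ (P : Subgroup G), x ^ p = 1 := fun x hx => by
    have h1 := pow_card_eq_one' (G := (P : Subgroup G)) (x := ⟨x, hx⟩)
    rw [D.hP] at h1
    exact congrArg Subtype.val h1
  have hkill : ∀ w : G, w ∈ H → w ^ p = 1 → w = 1 := fun w hw h1 => by
    rcases (Nat.dvd_prime hp.out).1 (orderOf_dvd_of_pow_eq_one h1) with h2 | h2
    · exact orderOf_eq_one_iff.1 h2
    · exact absurd (h2 ▸ dvd_rfl) (D.not_dvd_orderOf hw)
  have hPcard : Nat.card P' = p := by
    show Nat.card ((P : Subgroup G).map π : Subgroup (G ⧸ Z)) = p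
    refine Eq.trans ?_ D.hP
    refine (Nat.card_congr (Equiv.ofBijective
      (fun x : ↥(P : Subgroup G) => (⟨π x, x, x.2, rfl⟩ : ↥((P : Subgroup G).map π)))
      ⟨fun x y hxy => ?_, ?_⟩)).symm
    · have h1 : π x = π y := congrArg Subtype.val hxy
      have h2 : (x : G)⁻¹ * y ∈ H := hHZ ▸ (QuotientGroup.eq.1 h1)
      have h3 := hkill _ h2 (hxp _ (mul_mem (inv_mem x.2) y.2))
      exact Subtype.ext (inv_mul_eq_one.1 h3)
    · rintro ⟨_, x, hx, rfl⟩
      exact ⟨⟨x, hx⟩, rfl⟩
  -- an element commuting modulo the centre with an element of `P`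
  have hmod : ∀ (g : G) (x z : G), x ∈ (P : Subgroup G) → z ∈ (P : Subgroup G) →
      π (g * x * g⁻¹) = π z → g * x * g⁻¹ = z := by
    intro g x z hx hz he
    have h2 : z⁻¹ * (g * x * g⁻¹) ∈ H := hHZ ▸ (QuotientGroup.eq.1 he.symm)
    have hcomm : Commute (z⁻¹) (g * x * g⁻¹) := by
      have h3 := Subgroup.mem_center_iff.1 (h.central_le h2) z
      show z⁻¹ * (g * x * g⁻¹) = g * x * g⁻¹ * z⁻¹
      rw [eq_mul_inv_iff_mul_eq, ← h3, mul_inv_cancel_left]
    have h4 := hkill _ h2 (by
      rw [hcomm.mul_pow, inv_pow, hxp z hz, inv_one, one_mul, conj_pow, hxp x hx, mul_one,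
        mul_inv_cancel])
    exact (inv_mul_eq_one.1 h4).symm
  have hC : ∀ c, c ∈ Subgroup.centralizer ((P' : Subgroup (G ⧸ Z)) : Set (G ⧸ Z)) →
      c ∈ (P' : Subgroup (G ⧸ Z)) := by
    intro c hc
    obtain ⟨g, rfl⟩ := hπs c
    have hgC : g ∈ Subgroup.centralizer ((P : Subgroup G) : Set G) := by
      intro x hx
      have h1 : π x * π g = π g * π x := hc (π x) ⟨x, hx, rfl⟩
      have h2 := hmod g x x hx hx (by rw [map_mul, map_mul, map_inv, ← h1, mul_inv_cancel_right])
      exact (mul_inv_eq_iff_eq_mul.1 h2).symm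
    obtain ⟨x, hx, k, hk, rfl⟩ := D.exists_mul hgC
    refine ⟨x, hx, ?_⟩
    rw [map_mul]
    have : π k = 1 := (QuotientGroup.eq_one_iff k).2 (hHZ ▸ hk)
    rw [this, mul_one]
  have hcardK : Nat.card (G ⧸ Z) = p * f * (p + 1) := by
    have h1 := Z.card_mul_index
    rw [hcard, ← hHZ] at h1
    rw [← Subgroup.index_eq_card, ← hHZ]
    exact Nat.eq_of_mul_eq_mul_left Nat.card_pos h1
  have hnorm : (Subgroup.normalizer ((P' : Subgroup (G ⧸ Z)) : Set (G ⧸ Z))).comap π =
      Subgroup.normalizer ((P : Subgroup G) : Set G) := by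
    refine le_antisymm (fun g hg => ?_) fun g hg => ?_
    · rw [Subgroup.mem_comap] at hg
      have h1 : π g * π u * (π g)⁻¹ ∈ (P' : Subgroup (G ⧸ Z)) :=
        (Subgroup.mem_normalizer_iff.1 hg (π u)).1 ⟨u, D.u_mem, rfl⟩
      obtain ⟨z, hz, hze⟩ := h1
      have h2 := hmod g u z D.u_mem hz (by rw [map_mul, map_mul, map_inv, hze])
      exact D.mem_normalizer D.u_mem D.u_ne_one hz h2
    · rw [Subgroup.mem_comap]
      refine Subgroup.mem_normalizer_iff.2 fun y => ⟨?_, ?_⟩
      · rintro ⟨x, hx, rfl⟩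
        exact ⟨g * x * g⁻¹, (Subgroup.mem_normalizer_iff.1 hg x).1 hx, by simp⟩
      · rintro ⟨x, hx, hxy⟩
        refine ⟨g⁻¹ * x * g, (Subgroup.mem_normalizer_iff''.1 hg x).1 hx, ?_⟩
        rw [map_mul, map_mul, map_inv, hxy]
        group
  have hnK : Nat.card (Sylow p (G ⧸ Z)) = p + 1 := by
    rw [show Nat.card (Sylow p (G ⧸ Z)) =
      (Subgroup.normalizer ((P' : Subgroup (G ⧸ Z)) : Set (G ⧸ Z))).index from
      P'.card_eq_index_normalizer, ← Subgroup.index_comap_of_surjective _ hπs, hnorm, ← hn]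
    exact P.card_eq_index_normalizer.symm
  have hgenK : Subgroup.closure {g : G ⧸ Z | g ^ p = 1} = ⊤ := by
    refine top_le_iff.1 ?_
    rw [← Subgroup.map_top_of_surjective π hπs, ← hgen, MonoidHom.map_closure]
    refine Subgroup.closure_mono ?_
    rintro _ ⟨g, hg, rfl⟩
    show π g ^ p = 1
    rw [← map_pow, show g ^ p = 1 from hg, map_one]
  exact psl_of_sylow h.two_le (by omega) P' hPcard hC hcardK hnK hgenK

variable {M : Ideal AlgInt} [M.IsPrime] (hM : IsPModular p M)
include hM

/-- The degree of a character in a block divides the index of the centre. -/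
theorem dvd_index {φ : IrrCharacter H} {i : IrrCharacter G} (hi : i ∈ D.supp φ) {j : ℕ}
    (hj : Nat.card (Sylow p G) = 1 + j * p) :
    H12.degree (i : G → ℂ) ∣ f * p * (1 + j * p) := by
  haveI : H.Normal := h.center_eq ▸ inferInstance
  have h1 := degree_dvd_index_of_scalar i.2 H (fun z hz => by
    rw [show (i : G → ℂ) z = _ from apply_center D h.central_le hM hi ⟨z, hz⟩, norm_mul,
      norm_lin D h.central_le, one_mul, H12.irr_apply_one]) (H12.irr_apply_one i)
  rwa [index_eq h hft, hj] at h1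

omit hM in
theorem n_dvd_sub {j : ℕ} (hd : n ∣ f * p * (1 + j * p)) : (n : ℤ) ∣ (j : ℤ) - 1 := by
  have h1 : (n : ℤ) ∣ (f : ℤ) * p * (1 + j * p) := by exact_mod_cast hd
  have hn : (n : ℤ) = f + 1 := by exact_mod_cast n_eq h hft
  have hpZ : (p : ℤ) = 2 * n - 1 := by rw [hn, ← hft]; push_cast; ring
  have e : (j : ℤ) - 1 = -((f : ℤ) * p * (1 + j * p)) +
      n * ((1 + j * p) * (2 * f - 1) + 2 * j) := by
    rw [hn, show (p : ℤ) = 2 * f + 1 by omega]; ring
  rw [e]
  exact dvd_add (dvd_neg.2 h1) (dvd_mul_right _ _)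

omit hM in
theorem w_dvd {j : ℕ} (hd : 4 * f + 1 ∣ f * p * (1 + j * p)) : 4 * f + 1 ∣ j + 2 := by
  have h1 : ((4 * f + 1 : ℕ) : ℤ) ∣ (f : ℤ) * p * (1 + j * p) := by exact_mod_cast hd
  rw [← Int.natCast_dvd_natCast]
  push_cast at h1 ⊢
  have hpZ : (p : ℤ) = 2 * f + 1 := by omega
  have key : ∀ c : ℤ, (4 * (f : ℤ) + 1) * c + -16 * ((f : ℤ) * p * (1 + j * p)) = j + 2 →
      (4 * (f : ℤ) + 1) ∣ (j : ℤ) + 2 := fun c e => by
    rw [← e]; exact dvd_add (dvd_mul_right _ _) (dvd_mul_of_dvd_right h1 _)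
  refine key (2 + 8 * f + j * (16 * (f : ℤ) ^ 2 + 12 * f + 1) - 2 * (4 * 0)) ?_
  rw [hpZ]
  ring

omit hM in
theorem v_dvd {j : ℕ} (hd : 4 * f + 3 ∣ f * p * (1 + j * p)) :
    (4 * (f : ℤ) + 3) ∣ 3 * ((j : ℤ) - 2) := by
  have h1 : ((4 * f + 3 : ℕ) : ℤ) ∣ (f : ℤ) * p * (1 + j * p) := by exact_mod_cast hd
  push_cast at h1
  have hpZ : (p : ℤ) = 2 * f + 1 := by omega
  have key : ∀ c : ℤ, (4 * (f : ℤ) + 3) * c + -16 * ((f : ℤ) * p * (1 + j * p)) = 3 * ((j : ℤ) - 2) →
      (4 * (f : ℤ) + 3) ∣ 3 * ((j : ℤ) - 2) := fun c e => by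
    rw [← e]; exact dvd_add (dvd_mul_right _ _) (dvd_mul_of_dvd_right h1 _)
  refine key (-2 + 8 * f + j * (1 + 4 * f + 16 * (f : ℤ) ^ 2)) ?_
  rw [hpZ]
  ring

/-- A nontrivial character of degree `f` gives `PSL(2, p)`. -/
theorem psl_of_small (hgen : Subgroup.closure {g : G | g ^ p = 1} = ⊤) (i : IrrCharacter G)
    (hi : H12.degree (i : G → ℂ) = f) :
    Nonempty ((G ⧸ Subgroup.center G) ≃* Matrix.ProjectiveSpecialLinearGroup (Fin 2) (ZMod p)) := by
  classical
  obtain ⟨d, ρ, hρ, hρc⟩ := i.2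
  have hd : d = f := by rw [← hi, ← hρc, H12.degree_character]; simp
  have hf2 := h.two_le
  have hd0 : (d : ℂ) ≠ 0 := Nat.cast_ne_zero.2 (by omega)
  let μ : G →* Module.End ℂ (Fin d → ℂ) := ρ
  have hnc : ¬ ∀ g t : G, μ g * μ t = μ t * μ g := by
    intro hall
    have hone : f ∣ (⊤ : Subgroup G).index := degree_dvd_index_of_scalar i.2 ⊤ (fun z _ => by
      obtain ⟨c, hc⟩ := H12.exists_scalar_of_commute ρ (ρ z) fun g => hall z g
      have hcn : ‖c‖ = 1 := by
        refine Complex.norm_eq_one_of_pow_eq_one (n := orderOf z) ?_ (orderOf_pos z).ne'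
        have h2 : ρ (z ^ orderOf z) = (c ^ orderOf z) • (1 : Module.End ℂ (Fin d → ℂ)) := by
          rw [map_pow, hc, smul_pow, one_pow]
        rw [pow_orderOf_eq_one, map_one] at h2
        have h3 := congrArg (LinearMap.trace ℂ (Fin d → ℂ)) h2
        rw [map_smul, LinearMap.trace_one, smul_eq_mul, Module.finrank_fintype_fun_eq_card,
          Fintype.card_fin] at h3
        exact mul_right_cancel₀ hd0 (h3.symm.trans (one_mul _).symm)
      rw [H12.irr_apply_one, ← hρc, show ρ.character z = LinearMap.trace ℂ _ (ρ z) from rfl, hc,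
        map_smul, LinearMap.trace_one, smul_eq_mul, Module.finrank_fintype_fun_eq_card,
        Fintype.card_fin, norm_mul, hcn, one_mul, hρc, hi, hd]) (hi ▸ H12.irr_apply_one i)
    rw [Subgroup.index_top] at hone
    have := Nat.le_of_dvd one_pos hone
    omega
  have htop : ∀ N : Subgroup G, N.Normal → u ∈ N → N = ⊤ := by
    intro N hN hu
    refine top_le_iff.1 (hgen ▸ (Subgroup.closure_le N).2 fun g hg => ?_)
    by_cases hg1 : g = 1
    · rw [hg1]; exact one_mem N
    have hord : orderOf g = p := orderOf_eq_prime hg hg1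
    obtain ⟨z, hz, hconj⟩ := H20.FreeSylow.exists_isConj_mem (P := P) (y := g)
      ⟨1, by rw [hord, pow_one]⟩
    obtain ⟨t, ht⟩ := isConj_iff.1 hconj.symm
    rw [← ht]
    refine hN.conj_mem z ?_ t
    obtain ⟨k, hk⟩ := zpowers_top D.hP (show (⟨u, D.u_mem⟩ : (P : Subgroup G)) ≠ 1 from
      fun h' => D.u_ne_one (congrArg Subtype.val h')) (⟨z, hz⟩ : (P : Subgroup G))
    rw [show z = ((⟨z, hz⟩ : (P : Subgroup G)) : G) from rfl, ← hk]
    push_cast
    exact zpow_mem hu k
  set K := μ.ker with hK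
  have hKn : u ∉ K := fun hu => hnc fun g t => by
    have e := htop K inferInstance hu
    have hg : g ∈ K := e ▸ Subgroup.mem_top g
    have ht : t ∈ K := e ▸ Subgroup.mem_top t
    rw [MonoidHom.mem_ker.1 hg, MonoidHom.mem_ker.1 ht]
  have hKH : K ≤ H := normal_le h hft hM hgen K hKn
  let σ : Representation ℂ (G ⧸ K) (Fin d → ℂ) := QuotientGroup.lift K μ le_rfl
  have hσ : ∀ g : G, σ (g : G ⧸ K) = ρ g := fun g => QuotientGroup.lift_mk' K le_rfl g
  have hσc : ∀ g : G, σ.character (g : G ⧸ K) = (i : G → ℂ) g := fun g => by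
    rw [← hρc]; exact congrArg (LinearMap.trace ℂ (Fin d → ℂ)) (hσ g)
  have hidx : K.index = Nat.card (G ⧸ K) := Subgroup.index_eq_card K
  have hGc := K.card_mul_index
  rw [hidx] at hGc
  have hKp : ¬ p ∣ Nat.card K := fun hd' => by
    obtain ⟨z, hz⟩ := exists_prime_orderOf_dvd_card' p hd'
    exact D.not_dvd_orderOf (hKH z.2) (by rw [Subgroup.orderOf_coe, hz])
  have hdiv : p ∣ Nat.card (G ⧸ K) := by
    have : p ∣ Nat.card K * Nat.card (G ⧸ K) := by
      rw [hGc, card_group h hft]
      exact dvd_mul_of_dvd_left (dvd_mul_of_dvd_left (dvd_mul_left _ _) _) _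
    exact (hp.out.dvd_mul.1 this).resolve_left hKp
  have hsq : ¬ p ^ 2 ∣ Nat.card (G ⧸ K) := fun hd' => by
    have h2 : p ^ 2 ∣ Nat.card G := hd'.trans ⟨Nat.card K, by rw [← hGc, mul_comm]⟩
    have h3 := (hp.out.pow_dvd_iff_le_factorization Nat.card_pos.ne').1 h2
    have h4 := P.card_eq_multiplicity
    rw [D.hP] at h4
    have := Nat.pow_right_injective hp.out.two_le ((pow_one p).trans h4)
    omega
  have hnn : ∀ N : Subgroup (G ⧸ K), N.Normal → Nat.card N ≠ p := by
    intro N hN hNc
    haveI := hN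
    set N' := N.comap (QuotientGroup.mk' K) with hN'
    haveI : Nontrivial N := Finite.one_lt_card_iff_nontrivial.1 (by rw [hNc]; exact hp.out.one_lt)
    have hu : u ∈ N' := by
      by_contra hu
      have hle := normal_le h hft hM hgen N' hu
      have hNH : Nat.card N' = Nat.card K * p := by
        have e1 := N'.card_mul_index
        have e2 : N'.index = N.index :=
          Subgroup.index_comap_of_surjective _ (QuotientGroup.mk'_surjective K)
        have e3 := N.card_mul_index
        rw [hNc] at e3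
        rw [e2, ← hGc, ← e3, ← mul_assoc] at e1
        exact Nat.eq_of_mul_eq_mul_right (Nat.pos_of_ne_zero fun h0 => by
          rw [h0, mul_zero] at e3; exact Nat.card_pos.ne e3) e1
      obtain ⟨z, hz⟩ := exists_prime_orderOf_dvd_card' p (show p ∣ Nat.card N' from hNH ▸ dvd_mul_left _ _)
      exact D.not_dvd_orderOf (hle z.2) (by rw [Subgroup.orderOf_coe, hz])
    have hNt := htop N' inferInstance hu
    have hQ : Nat.card (G ⧸ K) = p := by
      have : N = ⊤ := by
        rw [← Subgroup.map_comap_eq_self_of_surjective (QuotientGroup.mk'_surjective K) N, ← hN', hNt,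
          Subgroup.map_top_of_surjective _ (QuotientGroup.mk'_surjective K)]
      rw [← hNc, this, Subgroup.card_top]
    rw [hQ, card_group h hft] at hGc
    have h5 : Nat.card K ≤ Nat.card H := Subgroup.card_le_of_le hKH
    have h6 := Nat.card_pos (α := Sylow p G)
    have h7 : 2 * (p * Nat.card H) ≤ f * p * Nat.card H * Nat.card (Sylow p G) := by
      refine le_trans ?_ (Nat.le_mul_of_pos_right _ h6)
      rw [mul_assoc f]
      exact Nat.mul_le_mul_right _ hf2
    have h8 : Nat.card K * p ≤ p * Nat.card H := by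
      rw [mul_comm]; exact Nat.mul_le_mul_left p h5
    have h9 : 0 < p * Nat.card H := Nat.mul_pos hp.out.pos Nat.card_pos
    omega
  have hdegσ : H12.degree σ.character = f := by rw [H12.degree_character]; simp [hd]
  obtain ⟨e⟩ := psl_of_half_degree (A := G ⧸ K) (e := f) (by omega) hdiv hsq hnn σ.character
    ⟨d, σ, rfl⟩ (fun x hx => by
      induction x using QuotientGroup.induction_on with
      | H g =>
        obtain ⟨c, hc⟩ := H12.exists_scalar_of_norm_eq ρ g (by
          rw [hρc, ← hσc g, hx, σ.char_one]; simp)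
        rw [hσc, ← hρc, σ.char_one, show ρ.character g = LinearMap.trace ℂ _ (ρ g) from rfl, hc,
          map_smul] at hx
        simp only [LinearMap.trace_id, smul_eq_mul, Module.finrank_fintype_fun_eq_card,
          Fintype.card_fin] at hx
        have hc1 : c = 1 := mul_right_cancel₀ hd0 (hx.trans (one_mul _).symm)
        refine (QuotientGroup.eq_one_iff g).2 (MonoidHom.mem_ker.2 ?_)
        show ρ g = 1
        rw [hc, hc1, one_smul]
        rfl) hdegσ
  set φ : G →* Matrix.ProjectiveSpecialLinearGroup (Fin 2) (ZMod p) :=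
    e.toMonoidHom.comp ((QuotientGroup.mk' (Subgroup.center (G ⧸ K))).comp (QuotientGroup.mk' K))
    with hφ
  have hφs : Function.Surjective φ :=
    e.surjective.comp ((QuotientGroup.mk'_surjective _).comp (QuotientGroup.mk'_surjective _))
  have hmem : ∀ g : G, g ∈ φ.ker ↔ (g : G ⧸ K) ∈ Subgroup.center (G ⧸ K) := fun g => by
    rw [MonoidHom.mem_ker, hφ, MonoidHom.comp_apply, MonoidHom.comp_apply,
      MulEquiv.coe_toMonoidHom, MulEquiv.map_eq_one_iff, QuotientGroup.mk'_apply,
      QuotientGroup.mk'_apply, QuotientGroup.eq_one_iff]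
  have hker : φ.ker = Subgroup.center G := by
    refine le_antisymm (le_trans (normal_le h hft hM hgen φ.ker fun hu => hnc fun g t => ?_)
      h.central_le) fun g hg => (hmem g).2 (Subgroup.mem_center_iff.2 fun x => ?_)
    · have hall := htop φ.ker inferInstance hu
      have hgc := (hmem g).1 (hall ▸ Subgroup.mem_top g)
      have e1 := congrArg σ (Subgroup.mem_center_iff.1 hgc (t : G ⧸ K))
      rw [map_mul, map_mul, hσ, hσ] at e1
      exact e1.symm
    · induction x using QuotientGroup.induction_on with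
      | H t => rw [← QuotientGroup.mk_mul, Subgroup.mem_center_iff.1 hg t, QuotientGroup.mk_mul]
  exact ⟨(QuotientGroup.quotientMulEquivOfEq hker.symm).trans
    (QuotientGroup.quotientKerEquivOfSurjective φ hφs)⟩

end H15.Degree
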