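import Cfsg.Agent.H15.Degree.Exclude
import Cfsg.Agent.H15.Degree.Index

/-!
Degrees below `p - 1` (helper15): a perfect group with two classes of elements of order `p` and a
faithful character of degree `(p + 1) / 2` is `PSL(2, p)` modulo its centre.
-/

set_option autoImplicit false
set_option linter.style.haveILetI false
set_option linter.unusedSectionVars false
set_option maxHeartbeats 1000000

open Cfsg
open scoped ComplexConjugate

namespace H15.Degree

open H85.D1 H15.HalfDeg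

universe u

variable {G : Type u} [Group G] [Fintype G] {p : ℕ} [hp : Fact p.Prime]
  {P : Sylow p G} {u a : G} {H : Subgroup G} [Fintype H] [Fintype (P : Subgroup G)]
  {D : Setting P u a H} [Fintype (D.aut (H12.oneIrr H))] {f n : ℕ}
  {χ : IrrCharacter G} {θ : IrrCharacter H} {ψ : (P : Subgroup G) →* ℂˣ}

theorem slope_ok {F U : ℝ} (hU : 0 < U) (h1 : (2 * F + 1) / 2 ≤ F * U)
    (h2 : F * U ^ 2 ≤ (F * U - (2 * F + 1) / 2) * (U + 7 / 5)) :
    0 ≤ Bounds.slope F U ∧ F ≤ Bounds.slope F U * (U + 7 / 5) := by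
  refine ⟨div_nonneg (by linarith) (sq_nonneg U), ?_⟩
  rw [Bounds.slope, div_mul_eq_mul_div, le_div_iff₀ (pow_pos hU 2)]
  exact h2

variable (h : Neg D f n χ θ ψ) (hft : f * 2 + 1 = p)
include h hft

variable {M : Ideal AlgInt} [M.IsPrime] (hM : IsPModular p M)
include hM

/-- The pointwise hypothesis of the moment inequality. -/
theorem pointwise_of {φ : IrrCharacter H} (Θ : Fam D f 2 ψ φ)
    (hd : H12.degree (Θ.Y 1 : G → ℂ) = n) (Φ₁ : Fam D f 2 ψ (H12.oneIrr H)) {U : ℝ} (hU : 0 < U)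
    (hs : 0 ≤ Bounds.slope (f : ℝ) U)
    (hcond : (f : ℝ) ≤ Bounds.slope (f : ℝ) U * (U + 7 / 5))
    (hint : ∀ g : G, ¬ p ∣ orderOf g → ∃ k : ℤ, Complex.normSq ((Θ.Y 1 : G → ℂ) g) = (k : ℝ))
    (hbd : ∀ g : G, ¬ p ∣ orderOf g → g ∉ H → ‖(Θ.Y 1 : G → ℂ) g‖ ≤ U)
    (g : G) (hg : ¬ p ∣ orderOf g) (hgH : g ∉ H) (R : ℝ) (hR : blockR n Φ₁ g = (R : ℂ)) :
    Bounds.slope (f : ℝ) U ^ 2 * (Complex.normSq ((Θ.Y 1 : G → ℂ) g) ^ 2 -
      Complex.normSq ((Θ.Y 1 : G → ℂ) g)) ≤ (R - (p : ℝ) / 2) ^ 2 := by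
  obtain ⟨k, hk⟩ := hint g hg
  have hk0 : 0 ≤ k := by
    have : (0 : ℝ) ≤ (k : ℝ) := hk ▸ Complex.normSq_nonneg _
    exact_mod_cast this
  by_cases hk2 : k ≤ 1
  · have : k = 0 ∨ k = 1 := by omega
    rw [hk]
    rcases this with rfl | rfl <;> norm_num <;> exact sq_nonneg _
  · have hT : (2 : ℝ) ≤ (k : ℝ) := by exact_mod_cast (show (2 : ℤ) ≤ k by omega)
    have hu2 : ‖(Θ.Y 1 : G → ℂ) g‖ ^ 2 = (k : ℝ) := by rw [Complex.sq_norm, hk]
    have hu : 7 / 5 ≤ ‖(Θ.Y 1 : G → ℂ) g‖ := by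
      nlinarith [norm_nonneg ((Θ.Y 1 : G → ℂ) g)]
    have h1 := Bounds.pointwise hU (Nat.cast_nonneg f) hs hcond hu (hbd g hg hgH)
      (le_blockR h hft hM Θ hd Φ₁ hg hR)
    rw [hu2, show (2 * (f : ℝ) + 1) = (p : ℝ) by rw [← hft]; push_cast; ring] at h1
    rwa [hk]

variable (hgen : Subgroup.closure {g : G | g ^ p = 1} = ⊤)
  (hnof : ∀ i : IrrCharacter G, H12.degree (i : G → ℂ) ≠ f)
  (hev : Even f → 6 ≤ f) (hod : Odd f → 11 ≤ f) (Φ₁ : Fam D f 2 ψ (H12.oneIrr H))
include hgen hnof hev hod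

/-- The principal block has an exceptional character of degree `n`. -/
theorem psl_good (hδ : Φ₁.δ = -1) (hd : H12.degree (Φ₁.Y 1 : G → ℂ) = n) :
    Nonempty ((G ⧸ Subgroup.center G) ≃* Matrix.ProjectiveSpecialLinearGroup (Fin 2) (ZMod p)) := by
  classical
  have hn := n_eq h hft
  have hnR : (n : ℝ) = (f : ℝ) + 1 := by exact_mod_cast hn
  have hf6 : 6 ≤ f := (Nat.even_or_odd f).elim hev fun ho => by have := hod ho; omega
  have hf6R : (6 : ℝ) ≤ f := by exact_mod_cast hf6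
  have hF := prods_self h hft hM Φ₁ hδ hd
  obtain ⟨S⟩ := exists_split_prods h hft hM Φ₁ hF (by omega) hnof
  have hone : H12.oneIrr G ∈ Φ₁.X := (S.union _).2 (Or.inl (S.one_mem rfl))
  obtain ⟨Q, hQ, hQle⟩ := S.norm₁
  obtain ⟨j, hj1, hj⟩ := exists_j h hft
  have hjn := n_dvd_sub h hft (hd ▸ dvd_index h hft hM
    ((Φ₁.mem_supp _).2 (Or.inr ⟨1, one_mem_lab hft, rfl⟩)) hj)
  have hcardX : (S.Xp.card : ℝ) + S.Xm.card = f := by exact_mod_cast S.card_add h hft
  have hι : iota (H12.oneIrr H) = 1 := if_pos rfl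
  have hint : ∀ g : G, ¬ p ∣ orderOf g →
      ∃ k : ℤ, Complex.normSq ((Φ₁.Y 1 : G → ℂ) g) = (k : ℝ) := fun g hg => by
    obtain ⟨k, hk⟩ := exists_int_val h hft hM Φ₁ hd hg
    exact ⟨k * k, by rw [hk, Complex.normSq_intCast]; push_cast; ring⟩
  have habs : ∀ g : G, ¬ p ∣ orderOf g → g ∉ H → ∃ k : ℕ, k ≤ f ∧
      ‖(Φ₁.Y 1 : G → ℂ) g‖ = (k : ℝ) := fun g hg hgH => by
    obtain ⟨k, hk⟩ := exists_int_val h hft hM Φ₁ hd hg
    have h1 := norm_Y_lt h hft hM hgen Φ₁ hδ hd hgH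
    have h2 : ‖(Φ₁.Y 1 : G → ℂ) g‖ = (k.natAbs : ℝ) := by
      rw [hk, Complex.norm_intCast, Nat.cast_natAbs, Int.cast_abs]
    rw [h2] at h1
    have : k.natAbs < n := by exact_mod_cast h1
    exact ⟨k.natAbs, by omega, h2⟩
  have hbdf : ∀ g : G, ¬ p ∣ orderOf g → g ∉ H → ‖(Φ₁.Y 1 : G → ℂ) g‖ ≤ (f : ℝ) :=
    fun g hg hgH => by
      obtain ⟨k, hk, e⟩ := habs g hg hgH
      rw [e]; exact_mod_cast hk
  have hsf := slope_ok (F := (f : ℝ)) (U := (f : ℝ)) (by linarith) (by nlinarith) (by nlinarith)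
  have hfin : j = 1 → Nonempty ((G ⧸ Subgroup.center G) ≃*
      Matrix.ProjectiveSpecialLinearGroup (Fin 2) (ZMod p)) := fun e =>
    psl_of_card h hft hgen (by rw [hj, e, one_mul, add_comm])
  have hj7 : j < 7 → j = 1 := fun h7 => by
    have := Int.eq_zero_of_abs_lt_dvd hjn (abs_lt.2 ⟨by omega, by omega⟩)
    omega
  have hone' := Finset.card_pos.2 ⟨_, S.one_mem rfl⟩
  rcases S.kind with k | k | k | k | k
  · obtain ⟨-, he, -, -, -, hE', hz, hV, hW, hXm⟩ := k
    refine hfin (hj7 ?_)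
    by_contra hlt
    have hXmR : 2 * (S.Xm.card : ℝ) = f := by exact_mod_cast hXm
    obtain ⟨e1, e2⟩ := S.moment_sums h hft (α := (f : ℝ) / 2 - 1) (β := (f : ℝ) / 2) (v := 0) (w := 0)
      (by rw [hV]; push_cast; linarith) (by rw [hW]; push_cast; linarith) (by rw [hV, Nat.cast_zero])
      (by rw [hW, Nat.cast_zero]) n
    have hm := moment h hft hM Φ₁ Φ₁ hone hδ hd hQ (Bounds.slope (f : ℝ) f)
      (pointwise_of h hft hM Φ₁ hd Φ₁ (by linarith) hsf.1 hsf.2 hint hbdf)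
    rw [hd, e1, e2] at hm
    exact Bounds.bound_C (hev he) he hn hft (by have := S.card_add h hft; omega)
      (by rw [hj]; have := Nat.mul_le_mul_right p (not_lt.1 hlt); omega)
      (by rw [hnR]; ring) (by rw [hnR, hδ]; push_cast; ring) hm
  · obtain ⟨-, he, -, hE, hE', hz, hV, hW, hXm⟩ := k
    exfalso
    rw [hι] at hV
    have hXmR : 2 * (S.Xm.card : ℝ) = f := by exact_mod_cast hXm
    obtain ⟨e1, e2⟩ := S.moment_sums h hft (α := (f : ℝ) / 2 - 2) (β := (f : ℝ) / 2 - 1) (v := 1)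
      (w := 1)
      (by rw [hV]; push_cast; linarith) (by rw [hW]; push_cast; linarith) (by rw [hV, Nat.cast_one])
      (by rw [hW, Nat.cast_one]) n
    have hsf' := slope_ok (F := (f : ℝ)) (U := (f : ℝ) - 1) (by linarith) (by nlinarith)
      (by nlinarith)
    have hm := moment h hft hM Φ₁ Φ₁ hone hδ hd hQ (Bounds.slope (f : ℝ) ((f : ℝ) - 1))
      (pointwise_of h hft hM Φ₁ hd Φ₁ (by linarith) hsf'.1 hsf'.2 hint fun g hg hgH => by
        obtain ⟨k, hk, e⟩ := habs g hg hgH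
        rcases hk.lt_or_eq with hlt | heq
        · rw [e]
          have : (k : ℝ) + 1 ≤ f := by exact_mod_cast hlt
          linarith
        · subst heq
          exact (excl_D h hft hM Φ₁ hδ hd hf6 S rfl hF hE hE' hz hV hW hg e).elim)
    rw [hd, e1, e2] at hm
    have hj33 : j < 33 := by
      by_contra hlt
      exact Bounds.bound_D1 (hev he) he hn hft (by have := S.card_add h hft; omega)
        (by rw [hj]; have := Nat.mul_le_mul_right p (not_lt.1 hlt); omega)
        (by rw [hnR]) (by rw [hnR, hδ]; push_cast; ring) hm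
    obtain ⟨i, hi⟩ := Finset.card_eq_one.1 hW
    have hiW : i ∈ S.W := by rw [hi]; exact Finset.mem_singleton_self i
    have hw := w_dvd h hft (S.deg_W i hiW ▸ dvd_index h hft hM
      ((Φ₁.mem_supp _).2 (Or.inl ((S.union i).2 (Or.inr (S.sub_W hiW))))) hj)
    have hj2 : j + 2 = 4 * f + 1 := by
      obtain ⟨c, hc⟩ := hw
      rcases Nat.lt_or_ge c 2 with h2 | h2
      · interval_cases c <;> omega
      · have := Nat.mul_le_mul_left (4 * f + 1) h2
        omega
    have h6 : (n : ℤ) ∣ 6 := by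
      obtain ⟨c, hc⟩ := hjn
      refine ⟨4 - c, ?_⟩
      have hjZ : (j : ℤ) = 4 * f - 1 := by omega
      rw [hjZ, show (n : ℤ) = f + 1 by omega] at hc
      rw [show (n : ℤ) = f + 1 by omega]
      linarith
    have := Int.le_of_dvd (by norm_num) h6
    omega
  · obtain ⟨-, -, -, hd', -⟩ := k
    omega
  · obtain ⟨-, ho, -, -, hE', hz, hV, hW, hXm⟩ := k
    rw [hι] at hV
    refine hfin (hj7 ?_)
    by_contra hlt
    have hXmR : 2 * (S.Xm.card : ℝ) = f + 1 := by exact_mod_cast hXm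
    obtain ⟨e1, e2⟩ := S.moment_sums h hft (α := ((f : ℝ) - 5) / 2) (β := ((f : ℝ) + 1) / 2) (v := 1)
      (w := 0)
      (by rw [hV]; push_cast; linarith) (by rw [hW]; push_cast; linarith) (by rw [hV, Nat.cast_one])
      (by rw [hW, Nat.cast_zero]) n
    have hm := moment h hft hM Φ₁ Φ₁ hone hδ hd hQ (Bounds.slope (f : ℝ) f)
      (pointwise_of h hft hM Φ₁ hd Φ₁ (by linarith) hsf.1 hsf.2 hint hbdf)
    rw [hd, e1, e2] at hm
    exact Bounds.bound_A (hod ho) ho hn hft (by have := S.card_add h hft; omega)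
      (by rw [hj]; have := Nat.mul_le_mul_right p (not_lt.1 hlt); omega)
      (by rw [hnR]; ring) (by rw [hnR, hδ]; push_cast; ring) hm
  · rw [k.1] at hδ
    norm_num at hδ

/-- The principal block has no exceptional character of degree `n`: impossible. -/
theorem false_of_bad (hbad : ¬ (Φ₁.δ = -1 ∧ H12.degree (Φ₁.Y 1 : G → ℂ) = n)) : False := by
  classical
  have hn := n_eq h hft
  have hnR : (n : ℝ) = (f : ℝ) + 1 := by exact_mod_cast hn
  have hf6 : 6 ≤ f := (Nat.even_or_odd f).elim hev fun ho => by have := hod ho; omega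
  have hf6R : (6 : ℝ) ≤ f := by exact_mod_cast hf6
  have hf5 : 5 ≤ f := by omega
  obtain ⟨Θ, hΘδ, hΘ⟩ := exists_theta_two h hft hM
  have hΘd : H12.degree (Θ.Y 1 : G → ℂ) = n := by rw [hΘ, h.degree_eq]
  have hF := prods_self h hft hM Θ hΘδ hΘd
  obtain ⟨S⟩ := exists_split_prods h hft hM Φ₁ hF hf5 hnof
  have hone : H12.oneIrr G ∈ Φ₁.X := (S.union _).2 (Or.inl (S.one_mem rfl))
  obtain ⟨Q, hQ, hQle⟩ := S.norm₁
  obtain ⟨j, hj1, hj⟩ := exists_j h hft
  have hjn := n_dvd_sub h hft (h.degree_eq ▸ dvd_index h hft hM h.mem_supp hj)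
  have hint : ∀ g : G, ¬ p ∣ orderOf g →
      ∃ k : ℤ, Complex.normSq ((Θ.Y 1 : G → ℂ) g) = (k : ℝ) := fun g hg =>
    exists_int_normSq h hft hM hf5 hnof Φ₁ hbad Θ hΘδ hΘd hg
  have hlt' : ∀ g : G, g ∉ H → ‖(Θ.Y 1 : G → ℂ) g‖ < (n : ℝ) := fun g hgH =>
    norm_Y_lt h hft hM hgen Θ hΘδ hΘd hgH
  have hcard := S.card_add h hft
  have hcardR : (S.Xp.card : ℝ) + S.Xm.card = f := by exact_mod_cast hcard
  rcases S.kind_bad h hft hM Φ₁ hbad with k | k
  · obtain ⟨hδ₁, he, hm₁, -, hE', hz, hV, hW, hXm⟩ := k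
    have hXmR : 2 * (S.Xm.card : ℝ) = f := by exact_mod_cast hXm
    obtain ⟨e1, e2⟩ := S.moment_sums h hft (α := (f : ℝ) / 2 - 1) (β := (f : ℝ) / 2 - 1) (v := 0)
      (w := 1)
      (by rw [hV]; push_cast; linarith) (by rw [hW]; push_cast; linarith) (by rw [hV, Nat.cast_zero])
      (by rw [hW, Nat.cast_one]) (3 * f + 2)
    have hexcl : ∀ g : G, ¬ p ∣ orderOf g → g ∉ H →
        ‖(Θ.Y 1 : G → ℂ) g‖ < (n : ℝ) - 1051 / 500 := fun g hg hgH => by
      by_contra hge
      have hge' := not_lt.1 hge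
      have hlt := hlt' g hgH
      rw [hΘ] at hge' hlt
      exact excl_big h hft hM hf5 hnof Φ₁ hbad he hf6 Θ hΘδ hΘ hg hge' hlt
    obtain ⟨i, hi⟩ := Finset.card_eq_one.1 hW
    have hiW : i ∈ S.W := by rw [hi]; exact Finset.mem_singleton_self i
    obtain ⟨c, hc⟩ := w_dvd h hft (S.deg_W i hiW ▸ dvd_index h hft hM
      ((Φ₁.mem_supp _).2 (Or.inl ((S.union i).2 (Or.inr (S.sub_W hiW))))) hj)
    rcases Nat.lt_or_ge f 7 with h7 | h7
    · have hf : f = 6 := by omega
      have hfR : (f : ℝ) = 6 := by exact_mod_cast hf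
      have hsf := slope_ok (F := (f : ℝ)) (U := 24 / 5) (by norm_num) (by rw [hfR]; norm_num)
        (by rw [hfR]; norm_num)
      have hm := moment h hft hM Θ Φ₁ hone hΘδ hΘd hQ (Bounds.slope (f : ℝ) (24 / 5))
        (pointwise_of h hft hM Θ hΘd Φ₁ (by norm_num) hsf.1 hsf.2 hint fun g hg hgH => by
          have h1 := hexcl g hg hgH
          obtain ⟨l, hl⟩ := hint g hg
          rw [← Complex.sq_norm] at hl
          rw [hnR, hfR] at h1
          have h0 := norm_nonneg ((Θ.Y 1 : G → ℂ) g)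
          have hl23 : l ≤ 23 := by
            have : (l : ℝ) < 24 := by rw [← hl]; nlinarith
            have : l < 24 := by exact_mod_cast this
            omega
          have : (l : ℝ) ≤ 23 := by exact_mod_cast hl23
          nlinarith)
      rw [hm₁, e1, e2] at hm
      have hj148 : j < 148 := by
        by_contra hlt
        exact Bounds.bound_D6 hf he hn hft (by omega)
          (by rw [hj]; have := Nat.mul_le_mul_right p (not_lt.1 hlt); omega)
          (by push_cast; ring) (by rw [hδ₁]; push_cast; ring) hm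
      rw [hn, hf] at hjn
      rw [hf] at hc
      push_cast at hjn
      omega
    · have hf8 : 8 ≤ f := by obtain ⟨r, hr⟩ := he; omega
      have hf8R : (8 : ℝ) ≤ f := by exact_mod_cast hf8
      have hsf := slope_ok (F := (f : ℝ)) (U := (f : ℝ) + 1 - 21 / 10) (by linarith) (by nlinarith)
        (by nlinarith)
      have hm := moment h hft hM Θ Φ₁ hone hΘδ hΘd hQ
        (Bounds.slope (f : ℝ) ((f : ℝ) + 1 - 21 / 10))
        (pointwise_of h hft hM Θ hΘd Φ₁ (by linarith) hsf.1 hsf.2 hint fun g hg hgH => by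
          have := hexcl g hg hgH
          linarith)
      rw [hm₁, e1, e2] at hm
      have hj64 : j < 64 := by
        by_contra hlt
        exact Bounds.bound_D2 hf8 he hn hft (by omega)
          (by rw [hj]; have := Nat.mul_le_mul_right p (not_lt.1 hlt); omega)
          (by push_cast; ring) (by rw [hδ₁]; push_cast; ring) hm
      have hj2 : j + 2 = 4 * f + 1 := by
        rcases Nat.lt_or_ge c 2 with h2 | h2
        · interval_cases c <;> omega
        · have := Nat.mul_le_mul_left (4 * f + 1) h2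
          omega
      obtain ⟨d, hd⟩ := hjn
      have h6 : (n : ℤ) ∣ 6 := ⟨4 - d, by
        rw [show (j : ℤ) = 4 * f - 1 by omega, show (n : ℤ) = f + 1 by omega] at hd
        rw [show (n : ℤ) = f + 1 by omega]
        linarith⟩
      have := Int.le_of_dvd (by norm_num) h6
      omega
  · obtain ⟨hδ₁, ho, hm₁, hE, hE', hz, hV, hW, hXm⟩ := k
    have hf11 := hod ho
    have hf11R : (11 : ℝ) ≤ f := by exact_mod_cast hf11
    have hXmR : 2 * (S.Xm.card : ℝ) + 1 = f := by exact_mod_cast hXm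
    obtain ⟨e1, e2⟩ := S.moment_sums h hft (α := ((f : ℝ) - 3) / 2) (β := ((f : ℝ) - 1) / 2) (v := 1)
      (w := 0)
      (by rw [hV]; push_cast; linarith) (by rw [hW]; push_cast; linarith) (by rw [hV, Nat.cast_one])
      (by rw [hW, Nat.cast_zero]) (3 * f + 1)
    have hsf := slope_ok (F := (f : ℝ)) (U := (f : ℝ) + 1 - 21 / 10) (by linarith) (by nlinarith)
      (by nlinarith)
    have hm := moment h hft hM Θ Φ₁ hone hΘδ hΘd hQ
      (Bounds.slope (f : ℝ) ((f : ℝ) + 1 - 21 / 10))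
      (pointwise_of h hft hM Θ hΘd Φ₁ (by linarith) hsf.1 hsf.2 hint fun g hg hgH => by
        by_contra hge
        have hge' := not_le.1 hge
        have hlt := hlt' g hgH
        rw [hΘ] at hge' hlt
        exact excl_pos h hft hM hf5 hnof Φ₁ hbad ho hf11 Θ hΘδ hΘ hg (by linarith) hlt)
    rw [hm₁, e1, e2] at hm
    have hj49 : j < 49 := by
      by_contra hlt
      exact Bounds.bound_B hf11 ho hn hft (by omega)
        (by rw [hj]; have := Nat.mul_le_mul_right p (not_lt.1 hlt); omega)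
        (by push_cast; ring) (by rw [hδ₁]; push_cast; ring) hm
    obtain ⟨i, hi⟩ := Finset.card_eq_one.1 hV
    have hiV : i ∈ S.V := by rw [hi]; exact Finset.mem_singleton_self i
    obtain ⟨c, hc⟩ := v_dvd h hft (S.deg_V i hiV ▸ dvd_index h hft hM
      ((Φ₁.mem_supp _).2 (Or.inl ((S.union i).2 (Or.inl (S.sub_V hiV))))) hj)
    obtain ⟨d, hd⟩ := hjn
    have hnZ : (n : ℤ) = f + 1 := by omega
    rw [hnZ] at hd
    have hc0 : -1 < c := by
      by_contra hle
      have := mul_le_mul_of_nonneg_left (not_lt.1 hle) (show (0 : ℤ) ≤ 4 * f + 3 by omega)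
      omega
    have hc4 : c < 4 := by
      by_contra hle
      have := mul_le_mul_of_nonneg_left (not_lt.1 hle) (show (0 : ℤ) ≤ 4 * f + 3 by omega)
      omega
    have hd0 : -1 < d := by
      by_contra hle
      have := mul_le_mul_of_nonneg_left (not_lt.1 hle) (show (0 : ℤ) ≤ (f : ℤ) + 1 by omega)
      omega
    have hd5 : d < 5 := by
      by_contra hle
      have := mul_le_mul_of_nonneg_left (not_lt.1 hle) (show (0 : ℤ) ≤ (f : ℤ) + 1 by omega)
      omega
    interval_cases c <;> interval_cases d <;> omega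

omit hnof hev hod Φ₁ in
/-- Two classes and degree `(p + 1) / 2` give `PSL(2, p)`. -/
theorem psl_two (hp7 : 7 < p) :
    Nonempty ((G ⧸ Subgroup.center G) ≃* Matrix.ProjectiveSpecialLinearGroup (Fin 2) (ZMod p)) := by
  classical
  by_cases hex : ∃ i : IrrCharacter G, H12.degree (i : G → ℂ) = f
  · obtain ⟨i, hi⟩ := hex
    exact psl_of_small h hft hM hgen i hi
  have hnof : ∀ i : IrrCharacter G, H12.degree (i : G → ℂ) ≠ f := fun i hi => hex ⟨i, hi⟩
  have hev : Even f → 6 ≤ f := fun he => by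
    obtain ⟨r, hr⟩ := he
    by_contra hlt
    have hf : f = 4 := by omega
    exact absurd (hft ▸ hp.out) (by rw [hf]; norm_num)
  have hod : Odd f → 11 ≤ f := fun ho => by
    obtain ⟨c, hc⟩ := four_dvd h hft ho hM hnof
    by_contra hlt
    have hf : f = 7 := by omega
    exact absurd (hft ▸ hp.out) (by rw [hf]; norm_num)
  obtain ⟨Φ₁⟩ := h.exists_fam hft hM (H12.oneIrr H)
  by_cases hgood : Φ₁.δ = -1 ∧ H12.degree (Φ₁.Y 1 : G → ℂ) = n
  · exact psl_good h hft hM hgen hnof hev hod Φ₁ hgood.1 hgood.2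
  · exact (false_of_bad h hft hM hgen hnof hev hod Φ₁ hgood).elim

end H15.Degree
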