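import Mathlib

/-!
Degrees below `p - 1` (helper15): the classes of `b ↦ b ^ f` in `ZMod p` and the cyclotomic
numbers attached to them.
-/

set_option autoImplicit false
set_option linter.unusedSectionVars false

namespace H15.Degree

open Finset

variable {p : ℕ} [hp : Fact p.Prime]

/-- The residues whose `f`-th power is `A`. -/
def fib (f : ℕ) (A : ZMod p) : Finset (ZMod p) := univ.filter fun b => b ^ f = A

/-- The labels of the classes. -/
def lab (t : ℕ) : Finset (ZMod p) := univ.filter fun A => A ^ t = 1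

/-- The cyclotomic numbers. -/
def cyc (f : ℕ) (A C : ZMod p) : ℕ := ((fib f A).filter fun s => (1 - s) ^ f = C).card

theorem mem_fib {f : ℕ} {A b : ZMod p} : b ∈ fib f A ↔ b ^ f = A := by simp [fib]

theorem mem_lab {t : ℕ} {A : ZMod p} : A ∈ lab t ↔ A ^ t = 1 := by simp [lab]

variable {f t : ℕ} (hft : f * t + 1 = p)
include hft

theorem f_pos : 0 < f := by
  rcases Nat.eq_zero_or_pos f with h | h
  · subst h; have := hp.out.two_le; omega
  · exact h

theorem t_pos : 0 < t := by
  rcases Nat.eq_zero_or_pos t with h | h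
  · subst h; have := hp.out.two_le; omega
  · exact h

theorem f_lt : f < p := by
  have := Nat.le_mul_of_pos_right f (t_pos hft)
  omega

theorem f_ne_zero : (f : ZMod p) ≠ 0 := by
  rw [Ne, ZMod.natCast_eq_zero_iff]
  exact fun h => absurd (Nat.le_of_dvd (f_pos hft) h) (by have := f_lt hft; omega)

theorem cast_f_mul_t : (f : ZMod p) * (t : ZMod p) = -1 := by
  have h : ((f * t + 1 : ℕ) : ZMod p) = (p : ZMod p) := by rw [hft]
  rw [ZMod.natCast_self] at h
  push_cast at h
  linear_combination h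

theorem t_ne_zero : (t : ZMod p) ≠ 0 := fun h => by
  have := cast_f_mul_t hft
  rw [h, mul_zero] at this
  exact one_ne_zero (neg_eq_zero.1 this.symm)

theorem pow_f_mem_lab {b : ZMod p} (hb : b ≠ 0) : b ^ f ∈ lab t := by
  rw [mem_lab, ← pow_mul, show f * t = p - 1 by omega, ZMod.pow_card_sub_one_eq_one hb]

theorem lab_ne_zero {A : ZMod p} (hA : A ∈ lab t) : A ≠ 0 := fun h => by
  rw [mem_lab, h, zero_pow (t_pos hft).ne'] at hA
  exact zero_ne_one hA

theorem one_mem_lab : (1 : ZMod p) ∈ lab t := by rw [mem_lab, one_pow]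

theorem mul_mem_lab {A B : ZMod p} (hA : A ∈ lab t) (hB : B ∈ lab t) : A * B ∈ lab t := by
  rw [mem_lab] at *
  rw [mul_pow, hA, hB, mul_one]

theorem inv_mem_lab {A : ZMod p} (hA : A ∈ lab t) : A⁻¹ ∈ lab t := by
  rw [mem_lab] at *
  rw [inv_pow, hA, inv_one]

theorem sgn_mem_lab : ((-1 : ZMod p)) ^ f ∈ lab t :=
  pow_f_mem_lab hft (neg_ne_zero.2 one_ne_zero)

theorem fib_ne_zero {A b : ZMod p} (hA : A ∈ lab t) (hb : b ∈ fib f A) : b ≠ 0 := fun h => by
  rw [mem_fib, h, zero_pow (f_pos hft).ne'] at hb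
  exact lab_ne_zero hft hA hb.symm

theorem card_roots_le {k : ℕ} (hk : 0 < k) (A : ZMod p) :
    (univ.filter fun b : ZMod p => b ^ k = A).card ≤ k := by
  classical
  refine le_trans ?_ (Polynomial.card_nthRoots k A)
  refine le_trans (Finset.card_le_card fun b hb => ?_) (Multiset.toFinset_card_le _)
  rw [Multiset.mem_toFinset, Polynomial.mem_nthRoots hk]
  exact (Finset.mem_filter.1 hb).2

theorem card_fib_and_lab : (lab (p := p) t).card = t ∧
    ∀ A ∈ lab (p := p) t, (fib f A).card = f := by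
  classical
  have h1 : (univ.erase (0 : ZMod p)).card = ∑ A ∈ lab (p := p) t, (fib f A).card := by
    rw [Finset.card_eq_sum_card_fiberwise (f := fun b : ZMod p => b ^ f) (t := lab t)
      fun b hb => pow_f_mem_lab hft (Finset.ne_of_mem_erase hb)]
    refine Finset.sum_congr rfl fun A hA => congrArg Finset.card ?_
    ext b
    simp only [Finset.mem_filter, Finset.mem_erase, Finset.mem_univ, and_true, mem_fib]
    exact ⟨fun h => h.2, fun h => ⟨fib_ne_zero hft hA (mem_fib.2 h), h⟩⟩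
  rw [Finset.card_erase_of_mem (Finset.mem_univ _), Finset.card_univ, ZMod.card,
    show p - 1 = f * t by omega] at h1
  have hle : ∀ A ∈ lab (p := p) t, (fib f A).card ≤ f := fun A _ =>
    card_roots_le hft (f_pos hft) A
  have hlab : (lab (p := p) t).card ≤ t := card_roots_le hft (t_pos hft) 1
  have h2 : ∑ A ∈ lab (p := p) t, (fib f A).card ≤ (lab (p := p) t).card * f := by
    rw [← smul_eq_mul]
    exact Finset.sum_le_card_nsmul _ _ _ hle
  have h3 : (lab (p := p) t).card = t := by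
    refine le_antisymm hlab ?_
    by_contra hlt
    have := Nat.mul_lt_mul_of_pos_right (not_le.1 hlt) (f_pos hft)
    rw [mul_comm t f] at this
    omega
  refine ⟨h3, fun A hA => le_antisymm (hle A hA) ?_⟩
  by_contra hlt
  have h4 : ∑ A ∈ lab (p := p) t, (fib f A).card < ∑ A ∈ lab (p := p) t, f :=
    Finset.sum_lt_sum hle ⟨A, hA, not_le.1 hlt⟩
  rw [Finset.sum_const, h3, smul_eq_mul, mul_comm] at h4
  omega

theorem card_lab : (lab (p := p) t).card = t := (card_fib_and_lab hft).1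

theorem card_fib {A : ZMod p} (hA : A ∈ lab t) : (fib f A).card = f :=
  (card_fib_and_lab hft).2 A hA

theorem fib_nonempty {A : ZMod p} (hA : A ∈ lab t) : ∃ b, b ∈ fib f A :=
  Finset.card_pos.1 (by rw [card_fib hft hA]; exact f_pos hft)

/-- Summing over the non-zero residues class by class. -/
theorem sum_lab_fib {R : Type*} [AddCommMonoid R] (F : ZMod p → R) :
    ∑ A ∈ lab (p := p) t, ∑ b ∈ fib f A, F b = ∑ b ∈ univ.erase (0 : ZMod p), F b := by
  classical
  rw [← Finset.sum_fiberwise_of_maps_to (g := fun b : ZMod p => b ^ f) (t := lab t)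
    fun b hb => pow_f_mem_lab hft (Finset.ne_of_mem_erase hb)]
  refine Finset.sum_congr rfl fun A hA => Finset.sum_congr ?_ fun _ _ => rfl
  ext b
  simp only [Finset.mem_filter, Finset.mem_erase, Finset.mem_univ, and_true, mem_fib]
  exact ⟨fun h => ⟨fib_ne_zero hft hA (mem_fib.2 h), h⟩, fun h => h.2⟩

/-- Multiplication moves one class onto another. -/
theorem sum_fib_mul {R : Type*} [AddCommMonoid R] (F : ZMod p → R) {A c : ZMod p} (hc : c ≠ 0) :
    ∑ b ∈ fib f A, F (b * c) = ∑ b ∈ fib f (A * c ^ f), F b := by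
  refine Finset.sum_bij' (fun b _ => b * c) (fun b _ => b * c⁻¹) (fun b hb => ?_) (fun b hb => ?_)
    (fun b _ => ?_) (fun b _ => ?_) (fun b _ => rfl)
  · rw [mem_fib] at *; rw [mul_pow, hb]
  · rw [mem_fib] at *; rw [mul_pow, hb, inv_pow, mul_inv_cancel_right₀ (pow_ne_zero _ hc)]
  · rw [mul_inv_cancel_right₀ hc]
  · rw [inv_mul_cancel_right₀ hc]

/-- The power sums over a class. -/
theorem sum_fib_pow {A : ZMod p} (hA : A ∈ lab t) (l : ℕ) :
    ∑ b ∈ fib f A, b ^ l = if f ∣ l then (f : ZMod p) * A ^ (l / f) else 0 := by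
  split_ifs with h
  · obtain ⟨j, rfl⟩ := h
    rw [Finset.sum_congr rfl fun b hb => by rw [pow_mul, mem_fib.1 hb], Finset.sum_const,
      card_fib hft hA, nsmul_eq_mul, Nat.mul_div_cancel_left _ (f_pos hft)]
  · obtain ⟨c, hc, hcl⟩ : ∃ c ∈ fib f (1 : ZMod p), c ^ l ≠ 1 := by
      by_contra! hall
      have h1 := Finset.card_le_card (s := fib f (1 : ZMod p))
        (t := univ.filter fun b : ZMod p => b ^ Nat.gcd l f = 1) fun b hb =>
          Finset.mem_filter.2 ⟨Finset.mem_univ _, pow_gcd_eq_one.2 ⟨hall b hb, mem_fib.1 hb⟩⟩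
      have hpos : 0 < Nat.gcd l f := Nat.gcd_pos_of_pos_right _ (f_pos hft)
      have h2 := h1.trans (card_roots_le hft hpos 1)
      rw [card_fib hft (one_mem_lab hft)] at h2
      have h3 : Nat.gcd l f = f :=
        le_antisymm (Nat.le_of_dvd (f_pos hft) (Nat.gcd_dvd_right _ _)) h2
      exact h (h3 ▸ Nat.gcd_dvd_left _ _)
    have hc0 := fib_ne_zero hft (one_mem_lab hft) hc
    have h1 := sum_fib_mul hft (fun b => b ^ l) (A := A) hc0
    simp only [mul_pow, mem_fib.1 hc, mul_one, ← Finset.sum_mul] at h1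
    by_contra hne
    exact hcl ((mul_eq_left₀ hne).1 h1)

/-- The power sums of the cyclotomic numbers. -/
theorem sum_cyc_pow {A : ZMod p} (hA : A ∈ lab t) {i : ℕ} (hi : i ≠ 0) :
    ∑ C ∈ lab (p := p) t, (cyc f A C : ZMod p) * C ^ i =
      (f : ZMod p) * ∑ j ∈ Finset.range (i + 1),
        (((f * i).choose (f * j) : ℕ) : ZMod p) * (((-1 : ZMod p)) ^ f * A) ^ j := by
  classical
  have h1 : ∑ C ∈ lab (p := p) t, (cyc f A C : ZMod p) * C ^ i =
      ∑ s ∈ fib f A, (1 - s) ^ (f * i) := by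
    rw [← Finset.sum_filter_add_sum_filter_not (fib f A) (fun s => s = 1),
      Finset.sum_eq_zero (s := (fib f A).filter fun s => s = 1) fun s hs => by
        rw [(Finset.mem_filter.1 hs).2, sub_self,
          zero_pow (Nat.mul_ne_zero (f_pos hft).ne' hi)], zero_add,
      ← Finset.sum_fiberwise_of_maps_to (g := fun s : ZMod p => (1 - s) ^ f) (t := lab t)
        fun s hs => pow_f_mem_lab hft (sub_ne_zero.2 (Ne.symm (Finset.mem_filter.1 hs).2))]
    refine Finset.sum_congr rfl fun C hC => ?_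
    rw [Finset.sum_congr rfl (g := fun _ => C ^ i) fun s hs => by
      rw [pow_mul, (Finset.mem_filter.1 hs).2], Finset.sum_const, nsmul_eq_mul]
    congr 2
    rw [cyc]
    congr 1
    ext s
    simp only [Finset.mem_filter]
    refine ⟨fun h => ⟨⟨h.1, fun h' => ?_⟩, h.2⟩, fun h => ⟨h.1.1, h.2⟩⟩
    have h2 := h.2
    rw [h', sub_self, zero_pow (f_pos hft).ne'] at h2
    exact lab_ne_zero hft hC h2.symm
  rw [h1, Finset.sum_congr rfl fun s _ => show (1 - s) ^ (f * i) =
      ∑ l ∈ Finset.range (f * i + 1), (-1 : ZMod p) ^ l * (((f * i).choose l : ℕ) : ZMod p) * s ^ l by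
    rw [sub_eq_neg_add, add_pow]
    exact Finset.sum_congr rfl fun l _ => by rw [one_pow, neg_pow]; ring,
    Finset.sum_comm, Finset.sum_congr rfl fun l _ => by rw [← Finset.mul_sum, sum_fib_pow hft hA l],
    Finset.mul_sum]
  simp only [mul_ite, mul_zero]
  rw [← Finset.sum_filter]
  symm
  refine Finset.sum_bij (fun j _ => f * j) (fun j hj => ?_) (fun j _ k _ h => ?_) (fun l hl => ?_)
    (fun j _ => ?_)
  · rw [Finset.mem_filter, Finset.mem_range]
    rw [Finset.mem_range] at hj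
    exact ⟨Nat.lt_succ_of_le (Nat.mul_le_mul_left f (by omega)), dvd_mul_right _ _⟩
  · exact Nat.eq_of_mul_eq_mul_left (f_pos hft) h
  · obtain ⟨hl1, j, rfl⟩ := Finset.mem_filter.1 hl
    exact ⟨j, Finset.mem_range.2 (Nat.lt_succ_of_le (Nat.le_of_mul_le_mul_left
      (Nat.lt_succ_iff.1 (Finset.mem_range.1 hl1)) (f_pos hft))), rfl⟩
  · rw [Nat.mul_div_cancel_left _ (f_pos hft), pow_mul, mul_pow]
    ring

theorem sum_cyc {A : ZMod p} (hA : A ∈ lab t) :
    ∑ C ∈ lab (p := p) t, cyc f A C + (if A = 1 then 1 else 0) = f := by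
  classical
  have h1 : ∑ C ∈ lab (p := p) t, cyc f A C = ((fib f A).filter fun s => s ≠ 1).card := by
    rw [Finset.card_eq_sum_card_fiberwise (f := fun s : ZMod p => (1 - s) ^ f) (t := lab t)
      fun s hs => pow_f_mem_lab hft (sub_ne_zero.2 (Ne.symm (Finset.mem_filter.1 hs).2))]
    refine Finset.sum_congr rfl fun C hC => ?_
    rw [cyc]
    congr 1
    ext s
    simp only [Finset.mem_filter]
    refine ⟨fun h => ⟨⟨h.1, fun h' => ?_⟩, h.2⟩, fun h => ⟨h.1.1, h.2⟩⟩
    have h2 := h.2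
    rw [h', sub_self, zero_pow (f_pos hft).ne'] at h2
    exact lab_ne_zero hft hC h2.symm
  rw [h1]
  conv_rhs => rw [← card_fib hft hA,
    ← Finset.card_filter_add_card_filter_not (s := fib f A) (fun s => s ≠ 1)]
  congr 1
  split_ifs with h
  · subst h
    rw [show ((fib f (1 : ZMod p)).filter fun s => ¬ s ≠ 1) = {1} from Finset.ext fun s => by
      simp only [Finset.mem_filter, ne_eq, not_not, Finset.mem_singleton, mem_fib]
      exact ⟨fun h => h.2, fun h => ⟨by rw [h, one_pow], h⟩⟩, Finset.card_singleton]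
  · symm
    rw [Finset.card_eq_zero, Finset.filter_eq_empty_iff]
    intro s hs h'
    exact h (by rw [← mem_fib.1 hs, not_not.1 h', one_pow])

theorem cyc_comm (A C : ZMod p) : cyc f A C = cyc f C A := by
  unfold cyc
  refine Finset.card_bij' (fun s _ => 1 - s) (fun s _ => 1 - s) (fun s hs => ?_) (fun s hs => ?_)
    (fun s _ => sub_sub_cancel 1 s) (fun s _ => sub_sub_cancel 1 s)
  all_goals
    simp only [Finset.mem_filter, mem_fib, sub_sub_cancel] at hs ⊢
    exact hs.symm

/-- Inverting the variable. -/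
theorem cyc_inv {A : ZMod p} (hA : A ∈ lab t) (C : ZMod p) :
    cyc f A C = cyc f A⁻¹ ((-1) ^ f * C * A⁻¹) := by
  have hA0 := lab_ne_zero hft hA
  have hs2 : ((-1 : ZMod p) ^ f) * (-1) ^ f = 1 := by
    rw [← mul_pow]; norm_num
  unfold cyc
  refine Finset.card_bij' (fun s _ => s⁻¹) (fun s _ => s⁻¹) (fun s hs => ?_) (fun s hs => ?_)
    (fun s _ => inv_inv s) (fun s _ => inv_inv s)
  · simp only [Finset.mem_filter, mem_fib] at hs ⊢
    have hs0 := fib_ne_zero hft hA (mem_fib.2 hs.1)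
    refine ⟨by rw [inv_pow, hs.1], ?_⟩
    rw [show (1 : ZMod p) - s⁻¹ = (-1) * (1 - s) * s⁻¹ by field_simp; ring, mul_pow, mul_pow, hs.2,
      inv_pow, hs.1]
  · simp only [Finset.mem_filter, mem_fib] at hs ⊢
    have hs0 := fib_ne_zero hft (inv_mem_lab hft hA) (mem_fib.2 hs.1)
    refine ⟨by rw [inv_pow, hs.1, inv_inv], ?_⟩
    rw [show (1 : ZMod p) - s⁻¹ = (-1) * (1 - s) * s⁻¹ by field_simp; ring, mul_pow, mul_pow, hs.2,
      inv_pow, hs.1, inv_inv]
    calc (-1 : ZMod p) ^ f * ((-1) ^ f * C * A⁻¹) * A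
        = ((-1 : ZMod p) ^ f * (-1) ^ f) * C * (A⁻¹ * A) := by ring
      _ = C := by rw [hs2, inv_mul_cancel₀ hA0, one_mul, mul_one]

omit hft in
/-- The number of `s` with `1 + s` in a given class. -/
theorem card_add (A C : ZMod p) :
    ((fib f A).filter fun s => (1 + s) ^ f = C).card = cyc f ((-1) ^ f * A) C := by
  have hs2 : ((-1 : ZMod p) ^ f) * (-1) ^ f = 1 := by
    rw [← mul_pow]; norm_num
  unfold cyc
  refine Finset.card_bij' (fun s _ => -s) (fun s _ => -s) (fun s hs => ?_) (fun s hs => ?_)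
    (fun s _ => neg_neg s) (fun s _ => neg_neg s)
  · simp only [Finset.mem_filter, mem_fib] at hs ⊢
    exact ⟨by rw [neg_pow, hs.1], by rw [sub_neg_eq_add, hs.2]⟩
  · simp only [Finset.mem_filter, mem_fib] at hs ⊢
    refine ⟨?_, by rw [← sub_eq_add_neg, hs.2]⟩
    rw [neg_pow, hs.1, ← mul_assoc, hs2, one_mul]

end H15.Degree
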