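import Cfsg.Agent.H15.Degree.Blocks

/-!
Degrees below `p - 1` (helper15): two classes of elements of order `p`; the values of the characters
of degree `(p + 1) / 2` that are too close to the degree are excluded.
-/

set_option autoImplicit false
set_option linter.style.haveILetI false
set_option linter.unusedSectionVars false
set_option maxHeartbeats 1000000

open Cfsg
open scoped ComplexConjugate

namespace H15.Degree

open H85.D1 H15.HalfDeg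

universe u

theorem coef_big {f w m q : ℂ} (hm : m = 3 * f + 2) (hq : q = f * 2 + 1) (hm0 : m ≠ 0) (hq0 : q ≠ 0) :
    w * (f * (f + 1) / m - f * 1 - (f + 1) * 0) / q = -(f / m * w) := by
  field_simp
  subst hm hq
  ring

theorem coef_pos {f w m q : ℂ} (hm : m = 3 * f + 1) (hq : q = f * 2 + 1) (hm0 : m ≠ 0) (hq0 : q ≠ 0) :
    w * (f * (f + 1) / m - f * 0 - (f + 1) * 1) / q = -((f + 1) / m * w) := by
  field_simp
  subst hm hq
  ring

variable {G : Type u} [Group G] [Fintype G] {p : ℕ} [hp : Fact p.Prime]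
  {P : Sylow p G} {u a : G} {H : Subgroup G} [Fintype H] [Fintype (P : Subgroup G)]
  {D : Setting P u a H} [Fintype (D.aut (H12.oneIrr H))] {f n : ℕ}
  {χ : IrrCharacter G} {θ : IrrCharacter H} {ψ : (P : Subgroup G) →* ℂˣ}

variable (h : Neg D f n χ θ ψ) (hft : f * 2 + 1 = p)
include h hft

variable {M : Ideal AlgInt} [M.IsPrime] (hM : IsPModular p M)
include hM

/-- The principal exceptional character is real on regular elements. -/
theorem Y_real (Φ₁ : Fam D f 2 ψ (H12.oneIrr H)) {g : G} (hg : ¬ p ∣ orderOf g) :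
    (Φ₁.Y 1 : G → ℂ) g = ((((Φ₁.Y 1 : G → ℂ) g).re : ℝ) : ℂ) := by
  obtain ⟨R, -, -, him, -⟩ := block_ineq h hft hM Φ₁ hg
  have hm : (0 : ℝ) < (H12.degree (Φ₁.Y 1 : G → ℂ) : ℝ) := Nat.cast_pos.2 (H12.irr_degree_pos _)
  rw [blockD, show (f : ℂ) * n / (H12.degree (Φ₁.Y 1 : G → ℂ) : ℂ) =
    (((f : ℝ) * n / (H12.degree (Φ₁.Y 1 : G → ℂ) : ℝ) : ℝ) : ℂ) by push_cast; ring,
    Complex.im_ofReal_mul] at him
  have hc : (f : ℝ) * n / (H12.degree (Φ₁.Y 1 : G → ℂ) : ℝ) ≠ 0 := by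
    have := n_eq h hft
    have := h.two_le
    have h1 : (0 : ℝ) < f := Nat.cast_pos.2 (by omega)
    have h2 : (0 : ℝ) < n := Nat.cast_pos.2 (by omega)
    positivity
  exact Complex.ext (by simp) (by simpa using (mul_eq_zero.1 him).resolve_left hc)

/-- The first block dominates the characters of degree `n`. -/
theorem le_blockR {φ : IrrCharacter H} (Θ : Fam D f 2 ψ φ)
    (hd : H12.degree (Θ.Y 1 : G → ℂ) = n) (Φ₁ : Fam D f 2 ψ (H12.oneIrr H)) {g : G}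
    (hg : ¬ p ∣ orderOf g) {R : ℝ} (hR : blockR n Φ₁ g = (R : ℂ)) :
    (f : ℝ) * ‖(Θ.Y 1 : G → ℂ) g‖ ≤ R := by
  obtain ⟨R', -, hR', -, hb, -⟩ := block_ineq h hft hM Φ₁ hg
  rw [hR'] at hR
  have := (hb _ Θ).1
  rw [blockD, hd, norm_mul, mul_div_assoc, div_self (Nat.cast_ne_zero.2 (by
    have := n_eq h hft; omega) : (n : ℂ) ≠ 0), mul_one, Complex.norm_natCast] at this
  rwa [Complex.ofReal_injective hR] at this

/-- The configuration `D` excludes the value `f`. -/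
theorem excl_D (Φ₁ : Fam D f 2 ψ (H12.oneIrr H)) (hδ : Φ₁.δ = -1)
    (hd : H12.degree (Φ₁.Y 1 : G → ℂ) = n) (hf6 : 6 ≤ f) {F₁ F₂ : G → ℂ} (S : Split n Φ₁ F₁ F₂)
    (hF₁ : F₁ = fun g => (Φ₁.Y 1 : G → ℂ) g * conj ((Φ₁.Y 1 : G → ℂ) g))
    (hF : Prods D f n ψ (H12.oneIrr H) F₁ F₂) (hE : S.E = 0) (hE' : S.E' = 1) (hz : S.z = 0)
    (hV : S.V.card = 1) (hW : S.W.card = 1) {g : G} (hg : ¬ p ∣ orderOf g)
    (hv : ‖(Φ₁.Y 1 : G → ℂ) g‖ = (f : ℝ)) : False := by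
  classical
  obtain ⟨i, hi⟩ := Finset.card_eq_one.1 hV
  obtain ⟨j, hj⟩ := Finset.card_eq_one.1 hW
  have hiV : i ∈ S.V := by rw [hi]; exact Finset.mem_singleton_self i
  have hjW : j ∈ S.W := by rw [hj]; exact Finset.mem_singleton_self j
  have hT : F₁ g = (((f : ℝ) ^ 2 : ℝ) : ℂ) := by
    rw [hF₁]
    show _ * conj _ = _
    rw [Complex.mul_conj, Complex.normSq_eq_norm_sq, hv]
  have hN : ((n : ℂ) * n) = (((n : ℝ) * n : ℝ) : ℂ) := by push_cast; ring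
  have h1 := deficit hF.char₁ (hF.one₁.trans hN) i le_rfl
    (by rw [S.mult_p i (S.sub_V hiV), Nat.cast_one]) (norm_one : ‖(1 : ℂ)‖ = 1) g
  have h2 := deficit hF.char₂ (hF.one₂.trans hN) j le_rfl
    (by rw [S.mult_m j (S.sub_W hjW), Nat.cast_one]) (norm_one : ‖(1 : ℂ)‖ = 1) g
  rw [← hF.reg g hg] at h2
  rw [one_mul, one_mul, hT, Complex.ofReal_re, S.deg_V i hiV] at h1
  rw [one_mul, one_mul, hT, Complex.ofReal_re, S.deg_W j hjW] at h2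
  obtain ⟨R, -, hR, -⟩ := block_ineq h hft hM Φ₁ hg
  have hRf := le_blockR h hft hM Φ₁ hd Φ₁ hg hR
  rw [hv] at hRf
  have hn : (n : ℝ) = (f : ℝ) + 1 := by exact_mod_cast n_eq h hft
  have hn0 : (n : ℂ) ≠ 0 := Nat.cast_ne_zero.2 (by have := n_eq h hft; omega)
  rw [S.blockR_eq h hft hM hF hz hg, hi, hj, Finset.sum_singleton, Finset.sum_singleton, hE, hE',
    hd, iota, if_pos rfl, hT] at hR
  simp only [Nat.cast_zero, Nat.cast_one, mul_zero, mul_one, sub_zero, mul_div_assoc,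
    div_self hn0, sub_self, mul_zero, zero_div, add_zero,
    show (f : ℂ) / (4 * f + 3) = (((f : ℝ) / (4 * f + 3) : ℝ) : ℂ) by push_cast; ring,
    show (n : ℂ) / (4 * f + 1) = (((n : ℝ) / (4 * f + 1) : ℝ) : ℂ) by push_cast; ring] at hR
  have h3 := congrArg Complex.re hR
  simp only [Complex.sub_re, Complex.add_re, Complex.re_ofReal_mul, Complex.ofReal_re,
    Complex.natCast_re] at h3
  push_cast at h1 h2
  rw [hn] at h1 h2 h3
  exact Bounds.excl_D1 (F := (f : ℝ)) (q := 4 * (f : ℝ) + 1) (r := 4 * (f : ℝ) + 3)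
    (V := ((i : G → ℂ) g).re) (W := ((j : G → ℂ) g).re) (R := R) (by exact_mod_cast hf6) rfl rfl
    (by linarith) (by linarith) (by rw [pow_two]; exact hRf) (le_of_eq h3.symm)

variable (hf5 : 5 ≤ f) (hnof : ∀ i : IrrCharacter G, H12.degree (i : G → ℂ) ≠ f)
  (Φ₁ : Fam D f 2 ψ (H12.oneIrr H))
  (hbad : ¬ (Φ₁.δ = -1 ∧ H12.degree (Φ₁.Y 1 : G → ℂ) = n))
include hbad

/-- The label of `χ` is not a trivial one, and neither is its square if `n` is odd. -/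
theorem theta_ne : θ ≠ H12.oneIrr H ∧
    (Odd n → ∀ φ : IrrCharacter H, (∀ k : H, (φ : H → ℂ) k = (θ : H → ℂ) k ^ 2) →
      φ ≠ H12.oneIrr H) := by
  classical
  have hne : θ ≠ H12.oneIrr H := fun he => hbad (by
    obtain ⟨hδ, A, hA, hAi⟩ := Fam.eq_Y_two h hft Φ₁ (he ▸ h.mem_supp) h.degree_eq
    exact ⟨hδ, by rw [← Fam.degree_Y_eq h hft Φ₁ hA, hAi, h.degree_eq]⟩)
  refine ⟨hne, fun hodd φ hφ hφ1 => hne (Subtype.ext (funext fun k => ?_))⟩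
  obtain ⟨d, ρ, hρi, he⟩ := χ.2
  haveI := hρi
  have hd : d = n := by rw [← h.degree_eq, ← he, H12.degree_character]; simp
  obtain ⟨c, hc⟩ := H12.exists_scalar_of_commute ρ (ρ k) fun y => by
    rw [← map_mul, ← map_mul, Subgroup.mem_center_iff.1 (h.central_le k.2) y]
  have h1 := apply_center D h.central_le hM h.mem_supp k
  rw [h.degree_eq, ← he, show ρ.character (k : G) = LinearMap.trace ℂ _ (ρ k) from rfl, hc,
    map_smul, LinearMap.trace_one, Module.finrank_fintype_fun_eq_card, Fintype.card_fin,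
    smul_eq_mul, ← hd] at h1
  have hn0 : (d : ℂ) ≠ 0 := Nat.cast_ne_zero.2 (by have := n_eq h hft; omega)
  have hcθ : c = (θ : H → ℂ) k := mul_right_cancel₀ hn0 h1
  let δ : G →* ℂˣ := ((LinearMap.det : Module.End ℂ (Fin d → ℂ) →* ℂ).comp ρ).toHomUnits
  have h2 : ((δ k : ℂˣ) : ℂ) = 1 := by rw [h.perfect δ]; simp
  rw [show ((δ k : ℂˣ) : ℂ) = LinearMap.det (ρ k) from rfl, hc, LinearMap.det_smul,
    map_one, mul_one, Module.finrank_fintype_fun_eq_card, Fintype.card_fin, hcθ, hd] at h2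
  have h3 : (θ : H → ℂ) k ^ 2 = 1 := by rw [← hφ, hφ1, H12.oneIrr_apply]
  obtain ⟨l, hl⟩ := hodd
  rw [hl, pow_succ, pow_mul, h3, one_pow, one_mul] at h2
  rw [H12.oneIrr_apply]
  exact h2

include hf5 hnof

/-- The exceptional character of the principal block is close to its degree. -/
theorem principal_deficit {φ : IrrCharacter H} (Θ : Fam D f 2 ψ φ) (hδ : Θ.δ = -1)
    (hd : H12.degree (Θ.Y 1 : G → ℂ) = n) {g : G} (hg : ¬ p ∣ orderOf g) :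
    (H12.degree (Φ₁.Y 1 : G → ℂ) : ℝ) - ((Φ₁.Y 1 : G → ℂ) g).re ≤
      (n : ℝ) * n - ‖(Θ.Y 1 : G → ℂ) g‖ ^ 2 := by
  classical
  have hF := prods_self h hft hM Θ hδ hd
  obtain ⟨S⟩ := exists_split_prods h hft hM Φ₁ hF hf5 hnof
  have hN : ((n : ℂ) * n) = (((n : ℝ) * n : ℝ) : ℂ) := by push_cast; ring
  have hT : (Θ.Y 1 : G → ℂ) g * conj ((Θ.Y 1 : G → ℂ) g) =
      ((‖(Θ.Y 1 : G → ℂ) g‖ ^ 2 : ℝ) : ℂ) := by
    rw [Complex.mul_conj, Complex.normSq_eq_norm_sq]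
  rcases S.kind_bad h hft hM Φ₁ hbad with k | k
  · obtain ⟨A, hA, c, hc, hci⟩ := S.mult_Y₁ (by rw [k.2.2.2.2.1])
    have h1 := deficit hF.char₁ (hF.one₁.trans hN) _ hc hci (norm_one : ‖(1 : ℂ)‖ = 1) g
    rwa [Fam.degree_Y_eq h hft Φ₁ hA, Φ₁.regY A hA g hg, one_mul, one_mul, hT,
      Complex.ofReal_re] at h1
  · obtain ⟨A, hA, c, hc, hci⟩ := S.mult_Y₂ (by rw [k.2.2.2.1])
    have h1 := deficit hF.char₂ (hF.one₂.trans hN) _ hc hci (norm_one : ‖(1 : ℂ)‖ = 1) g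
    rwa [Fam.degree_Y_eq h hft Φ₁ hA, Φ₁.regY A hA g hg, one_mul, one_mul, ← hF.reg g hg, hT,
      Complex.ofReal_re] at h1

/-- The configuration `Dbig` excludes values close to `n`. -/
theorem excl_big (hev : Even f) (hf6 : 6 ≤ f) (Θ : Fam D f 2 ψ θ) (hΘδ : Θ.δ = -1)
    (hΘ : Θ.Y 1 = χ) {g : G} (hg : ¬ p ∣ orderOf g)
    (hlo : (n : ℝ) - 1051 / 500 ≤ ‖(χ : G → ℂ) g‖) (hhi : ‖(χ : G → ℂ) g‖ < (n : ℝ)) : False := by
  classical
  have hn := n_eq h hft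
  have hnR : (n : ℝ) = (f : ℝ) + 1 := by exact_mod_cast hn
  have hnC : (n : ℂ) = (f : ℂ) + 1 := by exact_mod_cast hn
  have hpC : (p : ℂ) = f * 2 + 1 := by exact_mod_cast hft.symm
  have hp0 : (p : ℂ) ≠ 0 := Nat.cast_ne_zero.2 hp.out.ne_zero
  have hn0 : (n : ℂ) ≠ 0 := Nat.cast_ne_zero.2 (by omega)
  have hΘd : H12.degree (Θ.Y 1 : G → ℂ) = n := by rw [hΘ, h.degree_eq]
  set u₀ := ‖(χ : G → ℂ) g‖ with hu₀
  have hF := prods_self h hft hM Θ hΘδ hΘd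
  obtain ⟨S⟩ := exists_split_prods h hft hM Φ₁ hF hf5 hnof
  rcases S.kind_bad h hft hM Φ₁ hbad with k | k
  swap
  · exact Nat.not_even_iff_odd.2 k.2.1 hev
  obtain ⟨-, -, hm, hE, hE', hz, hV, hW, -⟩ := k
  obtain ⟨R, -, hR, -, hb, -⟩ := block_ineq h hft hM Φ₁ hg
  have hRu := le_blockR h hft hM Θ hΘd Φ₁ hg hR
  rw [hΘ] at hRu
  set w := ((Φ₁.Y 1 : G → ℂ) g).re with hw
  have hwd := principal_deficit h hft hM hf5 hnof Φ₁ hbad Θ hΘδ hΘd hg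
  rw [hΘ, ← hw, ← hu₀, hm] at hwd
  push_cast at hwd
  obtain ⟨j, hj⟩ := Finset.card_eq_one.1 hW
  have hjW : j ∈ S.W := by rw [hj]; exact Finset.mem_singleton_self j
  have hN : ((n : ℂ) * n) = (((n : ℝ) * n : ℝ) : ℂ) := by push_cast; ring
  have hT : (Θ.Y 1 : G → ℂ) g * conj ((Θ.Y 1 : G → ℂ) g) = ((u₀ ^ 2 : ℝ) : ℂ) := by
    rw [hΘ, Complex.mul_conj, Complex.normSq_eq_norm_sq]
  have hjd := deficit hF.char₂ (hF.one₂.trans hN) j le_rfl
    (by rw [S.mult_m j (S.sub_W hjW), Nat.cast_one]) (norm_one : ‖(1 : ℂ)‖ = 1) g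
  rw [← hF.reg g hg, one_mul, one_mul, hT, Complex.ofReal_re, S.deg_W j hjW] at hjd
  push_cast at hjd
  have hR₂ : R ≤ u₀ ^ 2 - 1 + (n : ℝ) / (4 * f + 1) * ((n : ℝ) ^ 2 - u₀ ^ 2) -
      (f : ℝ) / (3 * f + 2) * w := by
    have hm0 : (3 * (f : ℂ) + 2) ≠ 0 := by exact_mod_cast (show 3 * f + 2 ≠ 0 by omega)
    rw [S.blockR_eq h hft hM hF hz hg, Finset.card_eq_zero.1 hV, Finset.sum_empty, hj,
      Finset.sum_singleton, hE, hE', hm, iota, if_pos rfl, hT,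
      Y_real h hft hM Φ₁ hg, ← hw,
      show (n : ℂ) / (4 * f + 1) = (((n : ℝ) / (4 * f + 1) : ℝ) : ℂ) by push_cast; ring] at hR
    rw [show (w : ℂ) * ((f : ℂ) * n / ((3 * f + 2 : ℕ) : ℂ) - (f : ℂ) * ((1 : ℕ) : ℂ) -
        (n : ℂ) * ((0 : ℕ) : ℂ)) / p = ((-((f : ℝ) / (3 * f + 2) * w) : ℝ) : ℂ) by
      push_cast
      rw [hnC]
      exact coef_big (f := (f : ℂ)) rfl hpC hm0 hp0] at hR
    have h3 := congrArg Complex.re hR
    simp only [Nat.cast_one, mul_one, mul_zero, Complex.sub_re, Complex.add_re,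
      Complex.re_ofReal_mul, Complex.ofReal_re, Complex.natCast_re, Complex.zero_re] at h3
    have h4 := mul_le_mul_of_nonneg_left (show (4 * (f : ℝ) + 1) - ((n : ℝ) * n - u₀ ^ 2) ≤
      ((j : G → ℂ) g).re by linarith) (show (0 : ℝ) ≤ (n : ℝ) / (4 * f + 1) by positivity)
    have h5 : (n : ℝ) / (4 * f + 1) * (4 * f + 1) = n := div_mul_cancel₀ _ (by positivity)
    linarith
  -- the block of the square
  obtain ⟨φ₂, hφ₂⟩ := exists_sq_irr h hft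
  have hodd : Odd n := by rw [hn]; exact hev.add_one
  have hφ21 := (theta_ne h hft hM Φ₁ hbad).2 hodd φ₂ hφ₂
  obtain ⟨Φ₂⟩ := h.exists_fam hft hM φ₂
  obtain ⟨Θc, hcδ, hcd, hcv⟩ := Fam.exists_conj h hft hM Θ hΘδ hΘd
  have hF' := prods_pair h hft hM (φ := φ₂) Θ Θc (fun k => by
    rw [H12.conjIrr_apply, Complex.conj_conj, hφ₂, pow_two]) hΘδ hcδ hΘd hcd
  obtain ⟨S'⟩ := exists_split_prods h hft hM Φ₂ hF' hf5 hnof
  rcases S'.kind with k | k | k | k | k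
  · exact hφ21 k.2.2.1
  swap
  · exact hφ21 k.2.2.1
  swap
  · exact Nat.not_even_iff_odd.2 k.2.1 hev
  swap
  · exact Nat.not_even_iff_odd.2 k.2.1 hev
  obtain ⟨hδ₂, -, hd₂, hE₂, hE₂', hz₂, hV₂, hW₂, -⟩ := k
  rw [iota, if_neg hφ21] at hV₂
  obtain ⟨j₂, hj₂⟩ := Finset.card_eq_one.1 hW₂
  have hsq : (Θ.Y 1 : G → ℂ) g * conj ((Θc.Y 1 : G → ℂ) g) = (χ : G → ℂ) g * (χ : G → ℂ) g := by
    have h1 := hcv 1 (one_mem_lab hft) g
    rw [hev.neg_one_pow, one_mul] at h1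
    rw [h1, Complex.conj_conj, hΘ]
  have hR2 : u₀ ^ 2 - (n : ℝ) ≤ ‖blockR n Φ₂ g‖ := by
    rw [S'.blockR_eq h hft hM hF' hz₂ hg, Finset.card_eq_zero.1 hV₂, Finset.sum_empty, hj₂,
      Finset.sum_singleton, hE₂, hE₂', hd₂, iota, if_neg hφ21, hsq]
    simp only [Nat.cast_zero, Nat.cast_one, mul_zero, mul_one, sub_zero, add_zero,
      mul_div_assoc, div_self hn0, sub_self, zero_div]
    refine le_trans ?_ (norm_sub_norm_le _ _)
    rw [norm_mul, norm_mul, norm_div, ← hu₀, pow_two]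
    refine sub_le_sub_left ?_ _
    have h1 := H12.IsCharacter.norm_le (H12.isCharacter_irr j₂) g
    rw [S'.deg_W j₂ (by rw [hj₂]; exact Finset.mem_singleton_self _)] at h1
    have h2 : ‖(4 * (f : ℂ) + 1)‖ = 4 * (f : ℝ) + 1 := by
      rw [show (4 * (f : ℂ) + 1) = ((4 * f + 1 : ℕ) : ℂ) by push_cast; ring, Complex.norm_natCast]
      push_cast; ring
    rw [h2, Complex.norm_natCast, div_mul_eq_mul_div, div_le_iff₀ (by positivity)]
    push_cast at h1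
    exact mul_le_mul_of_nonneg_left h1 (Nat.cast_nonneg n)
  have hD2 : ‖blockD n Φ₂ g‖ = (f : ℝ) * u₀ := by
    rw [blockD, hd₂, mul_div_assoc, div_self hn0, mul_one, norm_mul, Complex.norm_natCast]
    congr 1
    have e := normSq_universal h hft hM hf5 hnof Φ₁ hbad Φ₂ hδ₂ hd₂ Θ hΘδ hΘd hg
    rw [Complex.normSq_eq_norm_sq, Complex.normSq_eq_norm_sq, hΘ] at e
    exact (pow_left_inj₀ (norm_nonneg _) (norm_nonneg _) two_ne_zero).1 e
  have hpar := (hb _ Φ₂).2.2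
  have hf6R : (6 : ℝ) ≤ f := by exact_mod_cast hf6
  have hTn : 0 ≤ u₀ ^ 2 - (n : ℝ) := by nlinarith
  have hD1 : ‖blockD n Φ₁ g‖ ^ 2 = ((f : ℝ) * n / (3 * f + 2) * w) ^ 2 := by
    rw [blockD, hm, Y_real h hft hM Φ₁ hg, ← hw,
      show (f : ℂ) * n / ((3 * f + 2 : ℕ) : ℂ) * (w : ℂ) =
        ((((f : ℝ) * n / (3 * f + 2) * w) : ℝ) : ℂ) by push_cast; ring,
      Complex.norm_real, Real.norm_eq_abs, sq_abs]
  rw [hD2, hD1] at hpar
  refine Bounds.excl_D2 (F := (f : ℝ)) (n := (n : ℝ)) (u := u₀) (w := w) (R := R) hf6R hnR rfl rfl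
    hlo hhi (by linarith) hRu hR₂ ?_
  have h6 := pow_le_pow_left₀ hTn hR2 2
  rw [mul_pow] at hpar
  linarith

/-- The configuration `pos` excludes values close to `n`. -/
theorem excl_pos (hodd : Odd f) (hf11 : 11 ≤ f) (Θ : Fam D f 2 ψ θ) (hΘδ : Θ.δ = -1)
    (hΘ : Θ.Y 1 = χ) {g : G} (hg : ¬ p ∣ orderOf g)
    (hlo : (n : ℝ) - 1051 / 500 ≤ ‖(χ : G → ℂ) g‖) (hhi : ‖(χ : G → ℂ) g‖ < (n : ℝ)) : False := by
  classical
  have hn := n_eq h hft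
  have hnR : (n : ℝ) = (f : ℝ) + 1 := by exact_mod_cast hn
  have hnC : (n : ℂ) = (f : ℂ) + 1 := by exact_mod_cast hn
  have hpC : (p : ℂ) = f * 2 + 1 := by exact_mod_cast hft.symm
  have hp0 : (p : ℂ) ≠ 0 := Nat.cast_ne_zero.2 hp.out.ne_zero
  have hn0 : (n : ℂ) ≠ 0 := Nat.cast_ne_zero.2 (by omega)
  have hΘd : H12.degree (Θ.Y 1 : G → ℂ) = n := by rw [hΘ, h.degree_eq]
  have hfR : (11 : ℝ) ≤ f := by exact_mod_cast hf11
  set u₀ := ‖(χ : G → ℂ) g‖ with hu₀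
  have hu0 : 0 < u₀ := by linarith
  have hF := prods_self h hft hM Θ hΘδ hΘd
  obtain ⟨S⟩ := exists_split_prods h hft hM Φ₁ hF hf5 hnof
  rcases S.kind_bad h hft hM Φ₁ hbad with k | k
  · exact Nat.not_even_iff_odd.2 hodd k.2.1
  obtain ⟨-, -, hm, hE, hE', hz, hV, hW, -⟩ := k
  obtain ⟨R, -, hR, -, hb, hph⟩ := block_ineq h hft hM Φ₁ hg
  have hRu := le_blockR h hft hM Θ hΘd Φ₁ hg hR
  rw [hΘ] at hRu
  set w := ((Φ₁.Y 1 : G → ℂ) g).re with hw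
  have hwd := principal_deficit h hft hM hf5 hnof Φ₁ hbad Θ hΘδ hΘd hg
  rw [hΘ, ← hw, ← hu₀, hm] at hwd
  push_cast at hwd
  obtain ⟨i, hi⟩ := Finset.card_eq_one.1 hV
  have hiV : i ∈ S.V := by rw [hi]; exact Finset.mem_singleton_self i
  have hN : ((n : ℂ) * n) = (((n : ℝ) * n : ℝ) : ℂ) := by push_cast; ring
  have hT : (Θ.Y 1 : G → ℂ) g * conj ((Θ.Y 1 : G → ℂ) g) = ((u₀ ^ 2 : ℝ) : ℂ) := by
    rw [hΘ, Complex.mul_conj, Complex.normSq_eq_norm_sq]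
  have hid := deficit hF.char₁ (hF.one₁.trans hN) i le_rfl
    (by rw [S.mult_p i (S.sub_V hiV), Nat.cast_one]) (norm_one : ‖(1 : ℂ)‖ = 1) g
  rw [one_mul, one_mul, hT, Complex.ofReal_re, S.deg_V i hiV] at hid
  push_cast at hid
  have hm0 : (3 * (f : ℂ) + 1) ≠ 0 := by exact_mod_cast (show 3 * f + 1 ≠ 0 by omega)
  have hR₂ : R ≤ u₀ ^ 2 + (f : ℝ) / (4 * f + 3) * ((n : ℝ) ^ 2 - u₀ ^ 2) -
      (n : ℝ) / (3 * f + 1) * w := by
    rw [S.blockR_eq h hft hM hF hz hg, Finset.card_eq_zero.1 hW, Finset.sum_empty, hi,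
      Finset.sum_singleton, hE, hE', hm, iota, if_pos rfl, hT,
      Y_real h hft hM Φ₁ hg, ← hw,
      show (f : ℂ) / (4 * f + 3) = (((f : ℝ) / (4 * f + 3) : ℝ) : ℂ) by push_cast; ring] at hR
    rw [show (w : ℂ) * ((f : ℂ) * n / ((3 * f + 1 : ℕ) : ℂ) - (f : ℂ) * ((0 : ℕ) : ℂ) -
        (n : ℂ) * ((1 : ℕ) : ℂ)) / p = ((-((n : ℝ) / (3 * f + 1) * w) : ℝ) : ℂ) by
      push_cast
      rw [hnC]
      exact coef_pos (f := (f : ℂ)) rfl hpC hm0 hp0] at hR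
    have h3 := congrArg Complex.re hR
    simp only [Nat.cast_one, mul_one, mul_zero, Complex.sub_re, Complex.add_re,
      Complex.re_ofReal_mul, Complex.ofReal_re, Complex.natCast_re, Complex.zero_re] at h3
    have h4 := mul_le_mul_of_nonneg_left (show (4 * (f : ℝ) + 3) - ((n : ℝ) * n - u₀ ^ 2) ≤
      ((i : G → ℂ) g).re by linarith) (show (0 : ℝ) ≤ (f : ℝ) / (4 * f + 3) by positivity)
    have h5 : (f : ℝ) / (4 * f + 3) * (4 * f + 3) = f := div_mul_cancel₀ _ (by positivity)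
    linarith
  -- the block of the square
  set ν : ℂ := conj ((χ : G → ℂ) g) / (u₀ : ℂ) with hν
  have hu0C : (u₀ : ℂ) ≠ 0 := Complex.ofReal_ne_zero.2 hu0.ne'
  have hνn : ‖ν‖ = 1 := by
    rw [hν, norm_div, Complex.norm_conj, Complex.norm_real, Real.norm_of_nonneg hu0.le, ← hu₀,
      div_self hu0.ne']
  have hνχ : ν * (χ : G → ℂ) g = (u₀ : ℂ) := by
    rw [hν, div_mul_eq_mul_div, Complex.conj_mul', ← hu₀, pow_two, mul_div_assoc, div_self hu0C,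
      mul_one]
  have hν2 : ν ^ 2 * ((χ : G → ℂ) g * (χ : G → ℂ) g) = ((u₀ ^ 2 : ℝ) : ℂ) := by
    rw [← pow_two, ← mul_pow, hνχ]; push_cast; rfl
  obtain ⟨φ₂, hφ₂⟩ := exists_sq_irr h hft
  obtain ⟨Θc, hcδ, hcd, hcv⟩ := Fam.exists_conj h hft hM Θ hΘδ hΘd
  have hF' := prods_pair h hft hM (φ := φ₂) Θ Θc (fun k => by
    rw [H12.conjIrr_apply, Complex.conj_conj, hφ₂, pow_two]) hΘδ hcδ hΘd hcd
  have hF₂ : (fun y => (Θ.Y 1 : G → ℂ) y * conj ((Θc.Y (-1) : G → ℂ) y)) =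
      fun y => (χ : G → ℂ) y * (χ : G → ℂ) y := by
    funext y
    have h1 := hcv 1 (one_mem_lab hft) y
    rw [hodd.neg_one_pow, mul_one] at h1
    rw [h1, Complex.conj_conj, hΘ]
  have hsq : (Θ.Y 1 : G → ℂ) g * conj ((Θc.Y 1 : G → ℂ) g) = (χ : G → ℂ) g * (χ : G → ℂ) g :=
    (hF'.reg g hg).trans (congrFun hF₂ g)
  by_cases hφ21 : φ₂ = H12.oneIrr H
  · subst hφ21
    obtain ⟨S'⟩ := exists_split_prods h hft hM Φ₁ hF' hf5 hnof
    rcases S'.kind_bad h hft hM Φ₁ hbad with k | k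
    · exact Nat.not_even_iff_odd.2 hodd k.2.1
    obtain ⟨A, hA, c, hc, hci⟩ := S'.mult_Y₂ (by rw [k.2.2.2.1])
    rw [hF₂] at hci
    have h1 := deficit_sym h hft hodd hM hnof hφ₂ Φ₁ (Φ₁.Y A)
      (by rw [Fam.degree_Y_eq h hft Φ₁ hA, hm]; omega) hc hci hνn g
    have hreal : ν ^ 2 = 1 := by
      have e := prods_universal h hft hM hf5 hnof Φ₁ hbad hF' hF hg
      rw [hsq, hT] at e
      refine mul_right_cancel₀ (b := ((u₀ ^ 2 : ℝ) : ℂ))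
        (Complex.ofReal_ne_zero.2 (pow_ne_zero 2 hu0.ne')) ?_
      rw [one_mul]
      conv_lhs => rw [← e]
      exact hν2
    rw [Fam.degree_Y_eq h hft Φ₁ hA, Φ₁.regY A hA g hg, hν2, hνχ, hreal, one_mul, hm, ← hw,
      Complex.ofReal_re, Complex.ofReal_re] at h1
    push_cast at h1
    exact Bounds.excl_B_one (F := (f : ℝ)) (n := (n : ℝ)) (u := u₀) (w := w) (R := R) hfR hnR rfl
      rfl hlo hhi (by linarith) hRu hR₂
  obtain ⟨Φ₂⟩ := h.exists_fam hft hM φ₂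
  obtain ⟨S'⟩ := exists_split_prods h hft hM Φ₂ hF' hf5 hnof
  rcases S'.kind with k | k | k | k | k
  · exact hφ21 k.2.2.1
  · exact Nat.not_even_iff_odd.2 hodd k.2.1
  · exact hφ21 k.2.2.1
  · -- the parallelogram
    obtain ⟨hδ₂, -, hd₂, hE₂, hE₂', hz₂, hV₂, hW₂, -⟩ := k
    rw [iota, if_neg hφ21] at hV₂
    have hη : ‖(Φ₂.Y 1 : G → ℂ) g‖ = u₀ := by
      have e := normSq_universal h hft hM hf5 hnof Φ₁ hbad Φ₂ hδ₂ hd₂ Θ hΘδ hΘd hg
      rw [Complex.normSq_eq_norm_sq, Complex.normSq_eq_norm_sq, hΘ] at e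
      exact (pow_left_inj₀ (norm_nonneg _) (norm_nonneg _) two_ne_zero).1 e
    have hR2 : u₀ ^ 2 - u₀ ≤ ‖blockR n Φ₂ g‖ := by
      rw [S'.blockR_eq h hft hM hF' hz₂ hg, Finset.card_eq_zero.1 hV₂, Finset.card_eq_zero.1 hW₂,
        Finset.sum_empty, hE₂, hE₂', hd₂, iota, if_neg hφ21, hsq,
        show (Φ₂.Y 1 : G → ℂ) g * ((f : ℂ) * n / (n : ℂ) - (f : ℂ) * ((2 : ℕ) : ℂ) -
          (n : ℂ) * ((1 : ℕ) : ℂ)) / p = -(Φ₂.Y 1 : G → ℂ) g by
          rw [mul_div_assoc (f : ℂ), div_self hn0]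
          push_cast
          rw [hnC]
          rw [hpC] at hp0 ⊢
          field_simp
          ring]
      simp only [Nat.cast_zero, mul_zero, sub_zero, add_zero, ← sub_eq_add_neg]
      refine le_trans ?_ (norm_sub_norm_le _ _)
      rw [norm_mul, hη, ← hu₀, pow_two]
    have hpar := (hb _ Φ₂).2.2
    rw [show ‖blockD n Φ₂ g‖ = (f : ℝ) * u₀ by
      rw [blockD, hd₂, mul_div_assoc, div_self hn0, mul_one, norm_mul, Complex.norm_natCast, hη],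
      show ‖blockD n Φ₁ g‖ ^ 2 = ((f : ℝ) * n / (3 * f + 1) * w) ^ 2 by
        rw [blockD, hm, Y_real h hft hM Φ₁ hg, ← hw,
          show (f : ℂ) * n / ((3 * f + 1 : ℕ) : ℂ) * (w : ℂ) =
            ((((f : ℝ) * n / (3 * f + 1) * w) : ℝ) : ℂ) by push_cast; ring,
          Complex.norm_real, Real.norm_eq_abs, sq_abs]] at hpar
    refine Bounds.excl_B (F := (f : ℝ)) (n := (n : ℝ)) (u := u₀) (w := w) (R := R) hfR hnR rfl rfl
      hlo hhi (by linarith) hRu hR₂ ?_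
    have h6 := pow_le_pow_left₀ (show 0 ≤ u₀ ^ 2 - u₀ by nlinarith) hR2 2
    rw [mul_pow] at hpar
    linarith
  · -- the phase
    obtain ⟨hδ₂, -, hd₂, hE₂, hE₂', hz₂, hV₂, hW₂, -⟩ := k
    rw [iota, if_neg hφ21] at hV₂
    obtain ⟨A, hA, c, hc, hci⟩ := S'.mult_Y₂ (by rw [hE₂])
    rw [hF₂] at hci
    have h1 := deficit_sym h hft hodd hM hnof hφ₂ Φ₂ (Φ₂.Y A)
      (by rw [Fam.degree_Y_eq h hft Φ₂ hA, hd₂]; omega) hc hci hνn g
    rw [Fam.degree_Y_eq h hft Φ₂ hA, Φ₂.regY A hA g hg, hν2, hνχ, hd₂, Complex.ofReal_re,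
      Complex.ofReal_re] at h1
    push_cast at h1
    have h2 := hph _ _ Θ Φ₂ hφ₂ ν hνn
    rw [show ν * blockD n Θ g = (((f : ℝ) * u₀ : ℝ) : ℂ) by
        rw [blockD, hΘd, hΘ, mul_div_assoc, div_self hn0, mul_one, mul_left_comm, hνχ]
        push_cast; ring,
      S'.blockR_eq h hft hM hF' hz₂ hg, Finset.card_eq_zero.1 hV₂, Finset.card_eq_zero.1 hW₂,
      Finset.sum_empty, hE₂, hE₂', hd₂, iota, if_neg hφ21, hsq,
      show (Φ₂.Y 1 : G → ℂ) g * ((f : ℂ) * n / ((3 * f + 1 : ℕ) : ℂ) - (f : ℂ) * ((0 : ℕ) : ℂ) -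
          (n : ℂ) * ((1 : ℕ) : ℂ)) / p =
          -((((n : ℝ) / (3 * f + 1) : ℝ) : ℂ) * (Φ₂.Y 1 : G → ℂ) g) by
        push_cast
        rw [hnC, mul_comm (((f : ℂ) + 1) / (3 * f + 1))]
        exact (coef_pos (f := (f : ℂ)) rfl hpC hm0 hp0).trans (by ring)] at h2
    simp only [Nat.cast_zero, mul_zero, sub_zero, add_zero, ← sub_eq_add_neg, mul_sub, hν2,
      mul_left_comm (ν ^ 2) (((n : ℝ) / (3 * f + 1) : ℝ) : ℂ), Complex.sub_re, Complex.ofReal_re,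
      Complex.re_ofReal_mul] at h2
    exact Bounds.excl_B_pos (F := (f : ℝ)) (n := (n : ℝ)) (u := u₀) (w := w)
      (v := (ν ^ 2 * (Φ₂.Y 1 : G → ℂ) g).re) (R := R) hfR hnR rfl rfl hlo hhi (by linarith)
      (by linarith) hR₂ h2

end H15.Degree
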