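import Cfsg.Agent.H15.Degree.Cyclo
import Cfsg.Agent.H85.D1.Column

/-!
Degrees below `p - 1` (helper15): the periods of a linear character of a group of order `p`
along the classes of `b ↦ b ^ f`, their products and their orthogonality.
-/

set_option autoImplicit false
set_option linter.style.haveILetI false
set_option linter.unusedSectionVars false

open scoped ComplexConjugate

namespace H15.Degree

open H85.D1 Finset

universe u

variable {A' : Type u} [Group A'] [Fintype A'] {p : ℕ} [hp : Fact p.Prime]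

/-- The power of a linear character with exponent a residue. -/
noncomputable def ev (ψ : A' →* ℂˣ) (b : ZMod p) (x : A') : ℂ := (ψ x : ℂ) ^ b.val

/-- The period of a class. -/
noncomputable def per (ψ : A' →* ℂˣ) (f : ℕ) (A : ZMod p) (x : A') : ℂ :=
  ∑ b ∈ fib f A, ev ψ b x

variable (hA : Nat.card A' = p) (ψ : A' →* ℂˣ)
include hA

theorem pow_p_lin (x : A') : (ψ x : ℂ) ^ p = 1 := by
  rw [← Units.val_pow_eq_pow_val, ← map_pow, ← hA, pow_card_eq_one', map_one, Units.val_one]

theorem lin_pow_congr (x : A') {i j : ℕ} (h : (i : ZMod p) = j) :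
    (ψ x : ℂ) ^ i = (ψ x : ℂ) ^ j := by
  rw [← Nat.div_add_mod i p, ← Nat.div_add_mod j p, pow_add, pow_add, pow_mul, pow_mul,
    pow_p_lin hA, one_pow, one_pow, (ZMod.natCast_eq_natCast_iff' _ _ _).1 h]

theorem ev_natCast (i : ℕ) (x : A') : ev ψ (i : ZMod p) x = (ψ x : ℂ) ^ i :=
  lin_pow_congr hA ψ x (by simp)

theorem ev_add (b c : ZMod p) (x : A') : ev ψ (b + c) x = ev ψ b x * ev ψ c x := by
  rw [ev, ev, ev, ← pow_add]
  exact lin_pow_congr hA ψ x (by simp)

omit hA in
theorem ev_zero (x : A') : ev ψ (0 : ZMod p) x = 1 := by simp [ev]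

omit hA in
theorem ev_at_one (b : ZMod p) : ev ψ b (1 : A') = 1 := by simp [ev]

omit hA in
theorem ev_mul_apply (b : ZMod p) (x y : A') : ev ψ b (x * y) = ev ψ b x * ev ψ b y := by
  simp [ev, mul_pow]

theorem norm_ev (b : ZMod p) (x : A') : ‖ev ψ b x‖ = 1 := by
  rw [ev, norm_pow, Complex.norm_eq_one_of_pow_eq_one (pow_p_lin hA ψ x) hp.out.ne_zero, one_pow]

theorem conj_ev (b : ZMod p) (x : A') : conj (ev ψ b x) = ev ψ (-b) x := by
  have h1 : ev ψ b x * ev ψ (-b) x = 1 := by rw [← ev_add hA, add_neg_cancel, ev_zero]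
  rw [eq_inv_of_mul_eq_one_right h1, Complex.inv_eq_conj (norm_ev hA ψ b x)]

variable {ψ} (hψ : ψ ≠ 1)
include hψ

theorem lin_ne_one {x : A'} (hx : x ≠ 1) : (ψ x : ℂ) ≠ 1 := fun h =>
  hx (lin_injective hA hψ (by rw [map_one]; exact Units.ext h))

/-- Distinct exponents give distinct characters. -/
theorem ev_inj {x : A'} (hx : x ≠ 1) : Function.Injective fun b : ZMod p => ev ψ b x := by
  intro b c h
  have hord : orderOf (ψ x : ℂ) = p :=
    orderOf_eq_prime (pow_p_lin hA ψ x) (lin_ne_one hA hψ hx)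
  have h1 := pow_injOn_Iio_orderOf (x := (ψ x : ℂ)) (show b.val < orderOf (ψ x : ℂ) by
    rw [hord]; exact ZMod.val_lt b) (show c.val < orderOf (ψ x : ℂ) by
    rw [hord]; exact ZMod.val_lt c) h
  exact ZMod.val_injective p h1

theorem sum_ev {x : A'} (hx : x ≠ 1) : ∑ b : ZMod p, ev ψ b x = 0 := by
  have h1 : ∑ b : ZMod p, ev ψ b x = ev ψ (1 : ZMod p) x * ∑ b : ZMod p, ev ψ b x := by
    rw [Finset.mul_sum]
    exact (Fintype.sum_equiv (Equiv.addLeft (1 : ZMod p)) _ _ fun b => (ev_add hA ψ 1 b x).symm).symm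
  by_contra hne
  have h2 : ev ψ (1 : ZMod p) x = 1 := by
    have := mul_right_cancel₀ hne ((one_mul _).trans h1)
    exact this.symm
  exact one_ne_zero (ev_inj hA hψ hx (h2.trans (ev_zero ψ x).symm))

theorem sum_ev_group (b : ZMod p) : ∑ x : A', ev ψ b x = if b = 0 then (p : ℂ) else 0 := by
  split_ifs with hb
  · simp [hb, ev, ← Nat.card_eq_fintype_card, hA]
  · obtain ⟨x, hx⟩ : ∃ x : A', x ≠ 1 := by
      by_contra! hall
      haveI : Subsingleton A' := ⟨fun x y => (hall x).trans (hall y).symm⟩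
      exact hp.out.ne_one (hA.symm.trans Nat.card_unique)
    have h1 : ∑ y : A', ev ψ b y = ev ψ b x * ∑ y : A', ev ψ b y := by
      rw [Finset.mul_sum]
      exact (Fintype.sum_equiv (Equiv.mulLeft x) _ _ fun y => (ev_mul_apply ψ b x y).symm).symm
    by_contra hne
    have h2 := (mul_right_cancel₀ hne ((one_mul _).trans h1)).symm
    exact hb (ev_inj hA hψ hx (h2.trans (ev_zero ψ x).symm))

variable {f t : ℕ} (hft : f * t + 1 = p)
include hft

omit hψ in
theorem per_at_one {A : ZMod p} (hAl : A ∈ lab t) : per ψ f A (1 : A') = f := by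
  simp [per, ev_at_one, card_fib hft hAl]

theorem sum_per_lab {x : A'} (hx : x ≠ 1) : ∑ A ∈ lab (p := p) t, per ψ f A x = -1 := by
  simp only [per]
  rw [sum_lab_fib hft (fun b => ev ψ b x), Finset.sum_erase_eq_sub (Finset.mem_univ _),
    sum_ev hA hψ hx, ev_zero, zero_sub]

theorem sum_per_group {A : ZMod p} (hAl : A ∈ lab t) : ∑ x : A', per ψ f A x = 0 := by
  simp only [per]
  rw [Finset.sum_comm]
  refine Finset.sum_eq_zero fun b hb => ?_
  rw [sum_ev_group hA hψ, if_neg (fib_ne_zero hft hAl hb)]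

theorem sum_erase_per [DecidableEq A'] {A : ZMod p} (hAl : A ∈ lab t) :
    ∑ x ∈ Finset.univ.erase (1 : A'), per ψ f A x = -(f : ℂ) := by
  rw [Finset.sum_erase_eq_sub (Finset.mem_univ _), sum_per_group hA hψ hft hAl,
    per_at_one hA hft hAl, zero_sub]

omit hψ in
theorem conj_per (A : ZMod p) (x : A') :
    conj (per ψ f A x) = per ψ f ((-1) ^ f * A) x := by
  simp only [per, map_sum, conj_ev hA]
  rw [mul_comm _ A, ← sum_fib_mul hft (fun b => ev ψ b x) (neg_ne_zero.2 one_ne_zero)]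
  simp only [mul_neg, mul_one]

/-- Orthogonality of the periods. -/
theorem sum_per_mul_conj (A B : ZMod p) (hAl : A ∈ lab t) :
    ∑ x : A', per ψ f A x * conj (per ψ f B x) =
      if A = B then (p : ℂ) * f else 0 := by
  classical
  simp only [per, map_sum, conj_ev hA, Finset.sum_mul_sum]
  rw [Finset.sum_comm, Finset.sum_congr rfl fun b _ => Finset.sum_comm]
  simp only [← ev_add hA ψ, sum_ev_group hA hψ, add_neg_eq_zero]
  simp only [Finset.sum_ite_eq]
  rw [← Finset.sum_filter]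
  split_ifs with h
  · subst h
    rw [Finset.filter_true_of_mem (fun b hb => hb), Finset.sum_const, card_fib hft hAl,
      nsmul_eq_mul, mul_comm]
  · rw [Finset.sum_eq_zero]
    intro b hb
    obtain ⟨h1, h2⟩ := Finset.mem_filter.1 hb
    exact absurd ((mem_fib.1 h1).symm.trans (mem_fib.1 h2)) h

theorem sum_erase_per_mul_conj [DecidableEq A'] (A B : ZMod p) (hAl : A ∈ lab t) (hBl : B ∈ lab t) :
    ∑ x ∈ Finset.univ.erase (1 : A'), per ψ f A x * conj (per ψ f B x) =
      (if A = B then (p : ℂ) * f else 0) - (f : ℂ) * f := by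
  rw [Finset.sum_erase_eq_sub (Finset.mem_univ _), sum_per_mul_conj hA hψ hft A B hAl,
    per_at_one hA hft hAl, per_at_one hA hft hBl, map_natCast]

/-- Distinct classes have distinct periods. -/
theorem per_injOn {A B : ZMod p} (hAl : A ∈ lab t) (hBl : B ∈ lab t) (c : ℂ) (hc : c ≠ 0)
    (h : ∀ x : A', x ≠ 1 → c * per ψ f A x = c * per ψ f B x) : A = B := by
  classical
  by_contra hne
  have h1 := sum_erase_per_mul_conj hA hψ hft A A hAl hAl
  rw [Finset.sum_congr rfl fun x hx => by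
    rw [mul_left_cancel₀ hc (h x (Finset.ne_of_mem_erase hx))]] at h1
  have h2 : ∑ x ∈ Finset.univ.erase (1 : A'), per ψ f B x * conj (per ψ f B x) -
      ∑ x ∈ Finset.univ.erase (1 : A'), per ψ f A x * conj (per ψ f B x) = 0 := by
    rw [← Finset.sum_sub_distrib]
    exact Finset.sum_eq_zero fun x hx => by
      rw [mul_left_cancel₀ hc (h x (Finset.ne_of_mem_erase hx)), sub_self]
  rw [sum_erase_per_mul_conj hA hψ hft B B hBl hBl, sum_erase_per_mul_conj hA hψ hft A B hAl hBl,
    if_pos rfl, if_neg hne] at h2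
  have h3 : (p : ℂ) * f = 0 := by linear_combination h2
  rcases mul_eq_zero.1 h3 with h4 | h4
  · exact hp.out.ne_zero (Nat.cast_eq_zero.1 h4)
  · exact (f_pos hft).ne' (Nat.cast_eq_zero.1 h4)

/-- The product of the first period with another one. -/
theorem per_one_mul (B : ZMod p) (hBl : B ∈ lab t) {x : A'} :
    per ψ f (1 : ZMod p) x * per ψ f B x = (if (-1) ^ f * B = 1 then (f : ℂ) else 0) +
      ∑ C ∈ lab (p := p) t, (cyc f ((-1) ^ f * B) C : ℂ) * per ψ f C x := by
  classical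
  have h1 : per ψ f (1 : ZMod p) x * per ψ f B x =
      ∑ r ∈ fib f B, ∑ b ∈ fib f ((1 : ZMod p)), ev ψ (b * (1 + r)) x := by
    simp only [per, Finset.sum_mul_sum]
    rw [Finset.sum_comm (t := fib f (1 : ZMod p)) (s := fib f B)]
    refine Finset.sum_congr rfl fun b hb => ?_
    have hb0 := fib_ne_zero hft (one_mem_lab hft) hb
    have hs := sum_fib_mul hft (fun c => ev ψ (b + c) x) (A := B) hb0
    rw [mem_fib.1 hb, mul_one] at hs
    simp only [← ev_add hA ψ]
    rw [← hs]
    exact Finset.sum_congr rfl fun r _ => by rw [mul_add, mul_one, mul_comm r b]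
  rw [h1, ← Finset.sum_filter_add_sum_filter_not (fib f B) (fun r => 1 + r = 0)]
  congr 1
  · rw [Finset.sum_congr rfl (g := fun _ => (f : ℂ)) fun r hr => by
      simp only [(Finset.mem_filter.1 hr).2, mul_zero, ev_zero, Finset.sum_const,
        card_fib hft (one_mem_lab hft), nsmul_eq_mul, mul_one],
      Finset.sum_const, nsmul_eq_mul]
    split_ifs with h
    · rw [show (fib f B).filter (fun r => 1 + r = 0) = {-1} from Finset.ext fun r => by
        simp only [Finset.mem_filter, Finset.mem_singleton, mem_fib]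
        refine ⟨fun h' => eq_neg_of_add_eq_zero_right h'.2, fun h' => ⟨?_, by rw [h']; ring⟩⟩
        rw [h']
        have h2 : ((-1 : ZMod p) ^ f) * (-1) ^ f = 1 := by rw [← mul_pow]; norm_num
        calc (-1 : ZMod p) ^ f = (-1) ^ f * ((-1) ^ f * B) := by rw [h, mul_one]
          _ = B := by rw [← mul_assoc, h2, one_mul]]
      simp
    · rw [Finset.card_eq_zero.2 (Finset.filter_eq_empty_iff.2 fun r hr h' => h ?_), Nat.cast_zero,
        zero_mul]
      rw [← mem_fib.1 hr, eq_neg_of_add_eq_zero_right h', ← mul_pow]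
      norm_num
  · rw [← Finset.sum_fiberwise_of_maps_to (g := fun r : ZMod p => (1 + r) ^ f) (t := lab t)
      fun r hr => pow_f_mem_lab hft (Finset.mem_filter.1 hr).2]
    refine Finset.sum_congr rfl fun C hC => ?_
    rw [← card_add B C]
    rw [Finset.sum_congr rfl (g := fun _ => per ψ f C x) fun r hr => by
      obtain ⟨hr1, hr2⟩ := Finset.mem_filter.1 hr
      rw [sum_fib_mul hft (fun c => ev ψ c x) (Finset.mem_filter.1 hr1).2, hr2, one_mul, per],
      Finset.sum_const, nsmul_eq_mul]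
    congr 2
    congr 1
    ext r
    simp only [Finset.mem_filter]
    refine ⟨fun h => ⟨h.1.1, h.2⟩, fun h => ⟨⟨h.1, fun h' => ?_⟩, h.2⟩⟩
    have h2 := h.2
    rw [h', zero_pow (f_pos hft).ne'] at h2
    exact lab_ne_zero hft hC h2.symm

theorem per_one_mul_conj (B : ZMod p) (hBl : B ∈ lab t) {x : A'} :
    per ψ f (1 : ZMod p) x * conj (per ψ f B x) = (if B = 1 then (f : ℂ) else 0) +
      ∑ C ∈ lab (p := p) t, (cyc f B C : ℂ) * per ψ f C x := by
  have h2 : ((-1 : ZMod p) ^ f) * (-1) ^ f = 1 := by rw [← mul_pow]; norm_num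
  rw [conj_per hA hft, per_one_mul hA hψ hft _ (mul_mem_lab hft (sgn_mem_lab hft) hBl)]
  simp only [← mul_assoc, h2, one_mul]

omit hψ in
theorem per_sq_apply (A : ZMod p) (hp2 : (2 : ZMod p) ≠ 0) (x : A') :
    per ψ f A (x * x) = per ψ f (A * 2 ^ f) x := by
  rw [per, per, ← sum_fib_mul hft (fun b => ev ψ b x) hp2]
  refine Finset.sum_congr rfl fun b _ => ?_
  rw [ev_mul_apply, ← ev_add hA ψ, mul_two]

/-- Linear characters are powers of `ψ`. -/
theorem exists_ev (ξ : A' →* ℂˣ) : ∃ b : ZMod p, ∀ x, (ξ x : ℂ) = ev ψ b x := by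
  obtain ⟨u, hu⟩ : ∃ x : A', x ≠ 1 := by
    by_contra! hall
    haveI : Subsingleton A' := ⟨fun x y => (hall x).trans (hall y).symm⟩
    exact hp.out.ne_one (hA.symm.trans Nat.card_unique)
  have hprim : IsPrimitiveRoot (ψ u : ℂ) p := by
    have h := IsPrimitiveRoot.orderOf (ψ u : ℂ)
    rwa [orderOf_eq_prime (pow_p_lin hA ψ u) (lin_ne_one hA hψ hu)] at h
  haveI : NeZero p := ⟨hp.out.ne_zero⟩
  obtain ⟨i, -, hi⟩ := hprim.eq_pow_of_pow_eq_one (pow_p_lin hA ξ u)
  refine ⟨(i : ZMod p), fun x => ?_⟩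
  obtain ⟨j, rfl⟩ := zpowers_top hA hu x
  rw [ev_natCast hA, map_zpow, map_zpow, Units.val_zpow_eq_zpow_val, Units.val_zpow_eq_zpow_val,
    ← hi, ← zpow_natCast ((ψ u : ℂ)) i, ← zpow_mul, mul_comm, zpow_mul, zpow_natCast]

/-- An automorphism multiplies exponents. -/
theorem exists_mult (α : MulAut A') :
    ∃ k : ZMod p, k ≠ 0 ∧ ∀ b x, ev ψ b (α x) = ev ψ (b * k) x := by
  obtain ⟨k, hk⟩ := exists_ev hA hψ hft (ψ.comp α.toMonoidHom)
  have hk' : ∀ x, (ψ (α x) : ℂ) = (ψ x : ℂ) ^ k.val := hk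
  refine ⟨k, fun h0 => ?_, fun b x => ?_⟩
  · obtain ⟨u, hu⟩ : ∃ x : A', x ≠ 1 := by
      by_contra! hall
      haveI : Subsingleton A' := ⟨fun x y => (hall x).trans (hall y).symm⟩
      exact hp.out.ne_one (hA.symm.trans Nat.card_unique)
    refine lin_ne_one hA hψ ((map_ne_one_iff _ α.injective).2 hu) ?_
    rw [hk' u, h0, ZMod.val_zero, pow_zero]
  · rw [ev, ev, hk', ← pow_mul]
    exact lin_pow_congr hA ψ x (by simp [mul_comm])

variable {T : Subgroup (MulAut A')} [Fintype T] (hT : Nat.card T = f)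
include hT

theorem exists_mult_mem (a : T) :
    ∃ k ∈ fib f (1 : ZMod p), ∀ b x, ev ψ b ((a : MulAut A') x) = ev ψ (b * k) x := by
  obtain ⟨k, -, hk⟩ := exists_mult hA hψ hft (a : MulAut A')
  refine ⟨k, ?_, hk⟩
  have hpow : ∀ (i : ℕ) (b : ZMod p) (x : A'),
      ev ψ b (((a ^ i : T) : MulAut A') x) = ev ψ (b * k ^ i) x := by
    intro i
    induction i with
    | zero => intro b x; simp
    | succ i ih =>
      intro b x
      rw [pow_succ, Subgroup.coe_mul, MulAut.mul_apply, ih, hk, pow_succ, mul_assoc]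
  obtain ⟨u, hu⟩ : ∃ x : A', x ≠ 1 := by
    by_contra! hall
    haveI : Subsingleton A' := ⟨fun x y => (hall x).trans (hall y).symm⟩
    exact hp.out.ne_one (hA.symm.trans Nat.card_unique)
  have h1 := hpow f 1 u
  rw [show a ^ f = 1 by rw [← hT, pow_card_eq_one'], Subgroup.coe_one, MulAut.one_apply,
    one_mul] at h1
  rw [mem_fib]
  exact (ev_inj hA hψ hu h1).symm

/-- The periods are invariant under `T`. -/
theorem per_invariant (A : ZMod p) (a : T) (x : A') :
    per ψ f A ((a : MulAut A') x) = per ψ f A x := by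
  obtain ⟨k, hk1, hk⟩ := exists_mult_mem hA hψ hft hT a
  simp only [per, hk]
  rw [sum_fib_mul hft (fun b => ev ψ b x) (fib_ne_zero hft (one_mem_lab hft) hk1), mem_fib.1 hk1,
    mul_one]

/-- The sum over `T` is the first period. -/
theorem sum_aut_lin (x : A') :
    ∑ a : T, (ψ ((a : MulAut A') x) : ℂ) = per ψ f (1 : ZMod p) x := by
  classical
  choose k hk1 hk using exists_mult_mem hA hψ hft hT
  have h1 : ∀ a : T, ∀ y, (ψ ((a : MulAut A') y) : ℂ) = ev ψ (k a) y := fun a y => by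
    have h := hk a 1 y
    rw [one_mul] at h
    rw [← h]
    simp [ev, ZMod.val_one]
  have hinj : Function.Injective k := fun a b hab => twist_injective hA hψ (MonoidHom.ext fun y => by
    refine Units.ext ?_
    show (ψ ((a : MulAut A') y) : ℂ) = (ψ ((b : MulAut A') y) : ℂ)
    rw [h1, h1, hab])
  have himg : (Finset.univ : Finset T).image k = fib f (1 : ZMod p) := by
    refine Finset.eq_of_subset_of_card_le (fun b hb => ?_) ?_
    · obtain ⟨a, -, rfl⟩ := Finset.mem_image.1 hb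
      exact hk1 a
    · rw [Finset.card_image_of_injective _ hinj, Finset.card_univ, ← Nat.card_eq_fintype_card, hT,
        card_fib hft (one_mem_lab hft)]
  rw [per, ← himg, Finset.sum_image fun a _ b _ h => hinj h]
  exact Finset.sum_congr rfl fun a _ => h1 a x

/-- The sums over `T` of the linear characters are periods. -/
theorem exists_period (ξ : A' →* ℂˣ) (hξ : ξ ≠ 1) :
    ∃ A ∈ lab (p := p) t, ∀ x, ∑ a : T, (ξ ((a : MulAut A') x) : ℂ) = per ψ f A x := by
  obtain ⟨b, hb⟩ := exists_ev hA hψ hft ξ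
  have hb0 : b ≠ 0 := fun h => hξ (MonoidHom.ext fun x => Units.ext (by
    rw [hb x, h, ev_zero]; simp))
  refine ⟨b ^ f, pow_f_mem_lab hft hb0, fun x => ?_⟩
  rw [sum_aut_lin hA hξ hft hT x, per, per]
  have := sum_fib_mul hft (fun c => ev ψ c x) (A := (1 : ZMod p)) hb0
  rw [one_mul] at this
  rw [← this]
  refine Finset.sum_congr rfl fun c _ => ?_
  rw [ev, ev, hb x, ev, ← pow_mul]
  exact lin_pow_congr hA ψ x (by simp [mul_comm])

theorem exists_lin {A : ZMod p} (hAl : A ∈ lab t) :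
    ∃ ξ : A' →* ℂˣ, ξ ≠ 1 ∧ ∀ x, ∑ a : T, (ξ ((a : MulAut A') x) : ℂ) = per ψ f A x := by
  obtain ⟨b, hb⟩ := fib_nonempty hft hAl
  have hb0 := fib_ne_zero hft hAl hb
  have hξ : ψ ^ b.val ≠ 1 := fun h => by
    obtain ⟨u, hu⟩ : ∃ x : A', x ≠ 1 := by
      by_contra! hall
      haveI : Subsingleton A' := ⟨fun x y => (hall x).trans (hall y).symm⟩
      exact hp.out.ne_one (hA.symm.trans Nat.card_unique)
    refine hb0 (ev_inj hA hψ hu ?_)
    have h1 : (((ψ ^ b.val) u : ℂˣ) : ℂ) = 1 := by rw [h]; simp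
    show ev ψ b u = ev ψ 0 u
    rw [ev_zero, ← h1]
    simp [ev, MonoidHom.pow_apply]
  refine ⟨ψ ^ b.val, hξ, fun x => ?_⟩
  rw [sum_aut_lin hA hξ hft hT x, per, per]
  have := sum_fib_mul hft (fun c => ev ψ c x) (A := (1 : ZMod p)) hb0
  rw [one_mul, mem_fib.1 hb] at this
  rw [← this]
  refine Finset.sum_congr rfl fun c _ => ?_
  rw [ev, ev, MonoidHom.pow_apply, Units.val_pow_eq_pow_val, ← pow_mul]
  exact lin_pow_congr hA ψ x (by simp [mul_comm])

end H15.Degree
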