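import Cfsg.Agent.H15.Degree.Reduce
import Cfsg.Agent.H15.Degree.Per
import Cfsg.Agent.H15.HalfDeg.ClassSum

/-!
Degrees below `p - 1` (helper15): the blocks with their exceptional characters labelled by
classes of exponents, and inner products through the singular elements.
-/

set_option autoImplicit false
set_option linter.style.haveILetI false
set_option linter.unusedSectionVars false

open Cfsg
open scoped ComplexConjugate

namespace H15.Degree

open H85.D1 H15.HalfDeg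

universe u

variable {G : Type u} [Group G] [Fintype G] {p : ℕ} [hp : Fact p.Prime]
  {P : Sylow p G} {u a : G} {H : Subgroup G} [Fintype H]

/-- A block with labelled exceptional characters. -/
structure Fam (D : Setting P u a H) [Fintype (P : Subgroup G)] (f t : ℕ)
    (ψ : (P : Subgroup G) →* ℂˣ) (φ : IrrCharacter H) where
  X : Finset (IrrCharacter G)
  εX : IrrCharacter G → ℤ
  Y : ZMod p → IrrCharacter G
  δ : ℤ
  δ_eq : δ = 1 ∨ δ = -1
  εX_eq : ∀ i ∈ X, εX i = 1 ∨ εX i = -1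
  card_X : X.card = f
  injY : ∀ A ∈ lab (p := p) t, ∀ B ∈ lab (p := p) t, Y A = Y B → A = B
  disj : ∀ A ∈ lab (p := p) t, Y A ∉ X
  mem_supp : ∀ i, i ∈ D.supp φ ↔ i ∈ X ∨ ∃ A ∈ lab (p := p) t, Y A = i
  valX : ∀ i ∈ X, ∀ x : (P : Subgroup G), x ≠ 1 → ∀ h : H,
    (i : G → ℂ) (x * h) = (εX i : ℂ) * (φ : H → ℂ) h
  valY : ∀ A ∈ lab (p := p) t, ∀ x : (P : Subgroup G), x ≠ 1 → ∀ h : H,
    (Y A : G → ℂ) (x * h) = (δ : ℂ) * per ψ f A x * (φ : H → ℂ) h
  regY : ∀ A ∈ lab (p := p) t, ∀ g : G, ¬ p ∣ orderOf g → (Y A : G → ℂ) g = (Y 1 : G → ℂ) g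
  rel : ∀ g : G, ¬ p ∣ orderOf g →
    (δ : ℂ) * (Y 1 : G → ℂ) g = ∑ i ∈ X, (εX i : ℂ) * (i : G → ℂ) g
  no_small : δ = 1 → 2 * f + 1 < p → H12.degree (Y 1 : G → ℂ) ≠ f

namespace Neg

variable {D : Setting P u a H} [Fintype (D.aut (H12.oneIrr H))] {f n : ℕ}
  {χ : IrrCharacter G} {θ : IrrCharacter H} {ψ : (P : Subgroup G) →* ℂˣ}
  (h : Neg D f n χ θ ψ)
include h

theorem central_le : H ≤ Subgroup.center G := h.center_eq.le

/-- The number of exceptional characters. -/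
theorem exists_t : ∃ t, f * t + 1 = p := by
  obtain ⟨t, ht⟩ := h.dvd
  exact ⟨t, by have := hp.out.two_le; omega⟩

variable [Fintype (P : Subgroup G)] {t : ℕ} (hft : f * t + 1 = p)
include hft

theorem val_per (x : (P : Subgroup G)) (hx : x ≠ 1) :
    (χ : G → ℂ) x = -per ψ f (1 : ZMod p) x := by
  rw [h.val x hx, sum_aut_lin D.hP h.psi_ne hft h.card_aut x]

theorem val_mul {M : Ideal AlgInt} [M.IsPrime] (hM : IsPModular p M) (x : (P : Subgroup G))
    (hx : x ≠ 1) (k : H) :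
    (χ : G → ℂ) (x * k) = -per ψ f (1 : ZMod p) x * (θ : H → ℂ) k := by
  rw [central_mul D h.central_le hM h.mem_supp, val_per h hft x hx, mul_comm]

/-- The exceptional characters of every block. -/
theorem exists_fam {M : Ideal AlgInt} [M.IsPrime] (hM : IsPModular p M) (φ : IrrCharacter H) :
    Nonempty (Fam D f t ψ φ) := by
  classical
  haveI : Fintype (D.aut φ) := Fintype.ofFinite _
  obtain ⟨S⟩ := D.exists_shape hM φ
  have hH := h.central_le
  have hsupp : ∀ i ∈ S.X ∪ S.Y, i ∈ D.supp φ := fun i hi => (D.union_eq_supp S).subset hi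
  have haut : ∀ (ξ : (P : Subgroup G) →* ℂˣ) (x : (P : Subgroup G)),
      ∑ α : D.aut φ, (ξ ((α : MulAut (P : Subgroup G)) x) : ℂ) =
        ∑ α : D.aut (H12.oneIrr H), (ξ ((α : MulAut (P : Subgroup G)) x) : ℂ) := fun ξ x =>
    sum_aut_eq D hH φ fun α => (ξ (α x) : ℂ)
  have hchoice : ∀ A : ZMod p, ∃ i : IrrCharacter G, A ∈ lab (p := p) t → i ∈ S.Y ∧
      ∀ x : (P : Subgroup G), x ≠ 1 → D.col φ i x = (S.ε : ℂ) * per ψ f A x := by
    intro A
    by_cases hA : A ∈ lab (p := p) t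
    · obtain ⟨ξ, hξ, hξA⟩ := exists_lin D.hP h.psi_ne hft h.card_aut hA
      obtain ⟨i, hi, hcol⟩ := S.surjY ξ hξ
      exact ⟨i, fun _ => ⟨hi, fun x hx => by rw [hcol x hx, haut, hξA x]⟩⟩
    · exact ⟨χ, fun h' => absurd h' hA⟩
  choose Y hY using hchoice
  have hε0 : (S.ε : ℂ) ≠ 0 := by rcases S.ε_eq with h' | h' <;> rw [h'] <;> norm_num
  have hinj : ∀ A ∈ lab (p := p) t, ∀ B ∈ lab (p := p) t, Y A = Y B → A = B := by
    intro A hA B hB he
    exact per_injOn D.hP h.psi_ne hft hA hB (S.ε : ℂ) hε0 fun x hx => by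
      rw [← (hY A hA).2 x hx, ← (hY B hB).2 x hx, he]
  have hsurj : ∀ i ∈ S.Y, ∃ A ∈ lab (p := p) t, Y A = i := by
    have hsub : (lab (p := p) t).image Y ⊆ S.Y.toFinite.toFinset := fun i hi => by
      obtain ⟨A, hA, rfl⟩ := Finset.mem_image.1 hi
      exact (Set.Finite.mem_toFinset _).2 (hY A hA).1
    have hcard : S.Y.toFinite.toFinset.card = t := by
      have h1 := S.card_Y
      rw [show Nat.card (D.aut φ) = f by rw [aut_eq D hH φ, h.card_aut], Nat.card_coe_set_eq,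
        Set.ncard_eq_toFinset_card S.Y] at h1
      refine Nat.eq_of_mul_eq_mul_right (show 0 < f by have := h.two_le; omega) ?_
      rw [mul_comm t f]
      omega
    have heq := Finset.eq_of_subset_of_card_le hsub (by
      rw [hcard, Finset.card_image_of_injOn fun A hA B hB he => hinj A hA B hB he, card_lab hft])
    intro i hi
    obtain ⟨A, hA, hAi⟩ := Finset.mem_image.1 (heq.symm ▸ (Set.Finite.mem_toFinset _).2 hi :
      i ∈ (lab (p := p) t).image Y)
    exact ⟨A, hA, hAi⟩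
  have h1l := one_mem_lab (p := p) hft
  refine ⟨{
    X := S.X.toFinite.toFinset
    εX := S.εX
    Y := Y
    δ := S.ε
    δ_eq := S.ε_eq
    εX_eq := fun i hi => S.εX_eq i ((Set.Finite.mem_toFinset _).1 hi)
    card_X := by rw [← Set.ncard_eq_toFinset_card, ← Nat.card_coe_set_eq, S.card_X, aut_eq D hH φ,
      h.card_aut]
    injY := hinj
    disj := fun A hA hAX => Set.disjoint_left.1 S.disj ((Set.Finite.mem_toFinset _).1 hAX) (hY A hA).1
    mem_supp := fun i => ?_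
    valX := fun i hi x hx k => ?_
    valY := fun A hA x hx k => ?_
    regY := fun A hA g hg => congrFun (S.regY _ (hY A hA).1 _ (hY 1 h1l).1) ⟨g, hg⟩
    rel := fun g hg => ?_
    no_small := fun hδ hfp hdeg => ?_ }⟩
  · rw [← D.union_eq_supp S, Set.mem_union, Set.Finite.mem_toFinset]
    exact or_congr_right ⟨hsurj i, fun ⟨A, hA, hAi⟩ => hAi ▸ (hY A hA).1⟩
  · rw [Set.Finite.mem_toFinset] at hi
    rw [apply_mul D hH hM (hsupp i (Or.inl hi)) x.2 (fun h' => hx (Subtype.ext h')) k,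
      S.colX i hi x hx]
  · rw [apply_mul D hH hM (hsupp _ (Or.inr (hY A hA).1)) x.2 (fun h' => hx (Subtype.ext h')) k,
      (hY A hA).2 x hx]
  · have h1 := S.rel (Y 1) (hY 1 h1l).1 ⟨g, hg⟩
    rw [finsum_mem_eq_finite_toFinset_sum _ S.X.toFinite] at h1
    exact h1
  · have hd : H12.degree (φ : H → ℂ) = 1 := by
      have h1 := lin_one D hH φ
      rw [H12.irr_apply_one] at h1
      exact_mod_cast h1
    exact D.false_of_colY hM h.perfect S (hY 1 h1l).1 hδ (h.card_aut.symm ▸ h.two_le)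
      (by rw [hdeg]; exact hfp) (by rw [hd, mul_one, h.card_aut]; exact hdeg)

end Neg

section Singular

variable (D : Setting P u a H) [Fintype (D.aut (H12.oneIrr H))] [Fintype (P : Subgroup G)]
  [DecidableEq (P : Subgroup G)] (hH : H ≤ Subgroup.center G)
include hH

/-- Complex sums over the singular elements. -/
theorem sum_singular_complex {F : G → ℂ} (hF : ∀ g t : G, F (t * g * t⁻¹) = F g)
    (hFH : ∀ x ∈ (P : Subgroup G), x ≠ 1 → ∀ h : H, F (x * h) = F x) :
    ((Nat.card (D.aut (H12.oneIrr H)) * p : ℕ) : ℂ) *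
        ∑ g ∈ Finset.univ.filter (fun g : G => p ∣ orderOf g), F g =
      (Nat.card G : ℂ) * ∑ x ∈ Finset.univ.erase (1 : (P : Subgroup G)), F x := by
  have hre := HalfDeg.sum_singular D hH (F := fun g => (F g).re)
    (fun g t => by rw [hF]) fun x hx hx1 k => by rw [hFH x hx hx1 k]
  have him := HalfDeg.sum_singular D hH (F := fun g => (F g).im)
    (fun g t => by rw [hF]) fun x hx hx1 k => by rw [hFH x hx hx1 k]
  apply Complex.ext
  · simpa [Complex.mul_re, Complex.re_sum] using hre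
  · simpa [Complex.mul_im, Complex.im_sum] using him

/-- Inner products with class functions vanishing on the regular elements. -/
theorem classInner_singular {F W : G → ℂ} (hF : IsClassFunction G F) (hW : IsClassFunction G W)
    (hW0 : ∀ g : G, ¬ p ∣ orderOf g → W g = 0)
    (hFW : ∀ x ∈ (P : Subgroup G), x ≠ 1 → ∀ h : H, F (x * h) * conj (W (x * h)) = F x * conj (W x)) :
    ((Nat.card (D.aut (H12.oneIrr H)) * p : ℕ) : ℂ) * classInner F W =
      ∑ x ∈ Finset.univ.erase (1 : (P : Subgroup G)), F x * conj (W x) := by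
  have h1 := sum_singular_complex D hH (F := fun g => F g * conj (W g))
    (fun g t => by rw [hF g t, hW g t]) hFW
  rw [H12.classInner_def, ← Finset.sum_filter_add_sum_filter_not Finset.univ
    (fun g : G => p ∣ orderOf g), Finset.sum_eq_zero (s := Finset.univ.filter fun g : G =>
      ¬ p ∣ orderOf g) (fun g hg => by rw [hW0 g (Finset.mem_filter.1 hg).2, map_zero, mul_zero]),
    add_zero]
  have hc := H12.card_ne_zero' (G := G)
  field_simp
  linear_combination h1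

end Singular

namespace Fam

variable {D : Setting P u a H} [Fintype (D.aut (H12.oneIrr H))] [Fintype (P : Subgroup G)]
  {f n t : ℕ} {χ : IrrCharacter G} {θ φ : IrrCharacter H} {ψ : (P : Subgroup G) →* ℂˣ}
  (h : Neg D f n χ θ ψ) (hft : f * t + 1 = p) (Φ : Fam D f t ψ φ)
include h hft

theorem valX' {i : IrrCharacter G} (hi : i ∈ Φ.X) (x : (P : Subgroup G)) (hx : x ≠ 1) :
    (i : G → ℂ) x = (Φ.εX i : ℂ) := by
  have h1 := Φ.valX i hi x hx 1
  rwa [OneMemClass.coe_one, mul_one, lin_one D h.central_le φ, mul_one] at h1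

theorem valY' {A : ZMod p} (hA : A ∈ lab t) (x : (P : Subgroup G)) (hx : x ≠ 1) :
    (Φ.Y A : G → ℂ) x = (Φ.δ : ℂ) * per ψ f A x := by
  have h1 := Φ.valY A hA x hx 1
  rwa [OneMemClass.coe_one, mul_one, lin_one D h.central_le φ, mul_one] at h1

theorem degree_X {i : IrrCharacter G} (hi : i ∈ Φ.X) :
    ∃ s : ℕ, (∑ x : (P : Subgroup G), (i : G → ℂ) x) = (p : ℂ) * s ∧
      (H12.degree (i : G → ℂ) : ℤ) + ((p : ℤ) - 1) * Φ.εX i = (p : ℤ) * s := by
  classical
  obtain ⟨s, hs⟩ := exists_sum_res (H12.isCharacter_irr i) (P : Subgroup G)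
  rw [D.hP] at hs
  refine ⟨s, hs, ?_⟩
  rw [← Finset.add_sum_erase _ _ (Finset.mem_univ (1 : (P : Subgroup G))), OneMemClass.coe_one,
    H12.irr_apply_one, Finset.sum_congr rfl fun x hx => valX' h hft Φ hi x (Finset.ne_of_mem_erase hx),
    Finset.sum_const, Finset.card_erase_of_mem (Finset.mem_univ _), Finset.card_univ,
    ← Nat.card_eq_fintype_card, D.hP, nsmul_eq_mul, Nat.cast_sub hp.out.one_le, Nat.cast_one] at hs
  exact_mod_cast hs

theorem degree_Y {A : ZMod p} (hA : A ∈ lab t) :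
    ∃ s : ℕ, (∑ x : (P : Subgroup G), (Φ.Y A : G → ℂ) x) = (p : ℂ) * s ∧
      (H12.degree (Φ.Y A : G → ℂ) : ℤ) - Φ.δ * f = (p : ℤ) * s := by
  classical
  obtain ⟨s, hs⟩ := exists_sum_res (H12.isCharacter_irr (Φ.Y A)) (P : Subgroup G)
  rw [D.hP] at hs
  refine ⟨s, hs, ?_⟩
  rw [← Finset.add_sum_erase _ _ (Finset.mem_univ (1 : (P : Subgroup G))), OneMemClass.coe_one,
    H12.irr_apply_one, Finset.sum_congr rfl fun x hx => valY' h hft Φ hA x (Finset.ne_of_mem_erase hx),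
    ← Finset.mul_sum, sum_erase_per D.hP h.psi_ne hft hA] at hs
  have : (((H12.degree (Φ.Y A : G → ℂ) : ℤ) - Φ.δ * f : ℤ) : ℂ) = (((p : ℤ) * s : ℤ) : ℂ) := by
    push_cast
    linear_combination hs
  exact_mod_cast this

theorem degree_Y_eq {A : ZMod p} (hA : A ∈ lab t) :
    H12.degree (Φ.Y A : G → ℂ) = H12.degree (Φ.Y 1 : G → ℂ) := by
  have h1 := Φ.regY A hA 1 (by simp [hp.out.ne_one])
  rw [H12.irr_apply_one, H12.irr_apply_one] at h1
  exact_mod_cast h1

theorem degree_rel : Φ.δ * (H12.degree (Φ.Y 1 : G → ℂ) : ℤ) =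
    ∑ i ∈ Φ.X, Φ.εX i * (H12.degree (i : G → ℂ) : ℤ) := by
  have h1 := Φ.rel 1 (by simp [hp.out.ne_one])
  simp only [H12.irr_apply_one] at h1
  exact_mod_cast h1

/-- The exceptional characters have invariants under `P` when `t ≥ 3`. -/
theorem Y_fixed (ht : 2 * f + 1 < p) {A : ZMod p} (hA : A ∈ lab t) :
    ∃ s : ℕ, 1 ≤ s ∧ (∑ x : (P : Subgroup G), (Φ.Y A : G → ℂ) x) = (p : ℂ) * s := by
  obtain ⟨s, hs, hdeg⟩ := degree_Y h hft Φ hA
  refine ⟨s, Nat.one_le_iff_ne_zero.2 fun h0 => ?_, hs⟩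
  rw [h0, Nat.cast_zero, mul_zero, sub_eq_zero] at hdeg
  rcases Φ.δ_eq with hδ | hδ <;> rw [hδ] at hdeg
  · refine Φ.no_small hδ ht ?_
    rw [← degree_Y_eq h hft Φ hA]
    omega
  · have := H12.irr_degree_pos (Φ.Y A)
    omega

/-- The inner products with the exceptional characters. -/
theorem inner_Y {F : G → ℂ} (hF : IsClassFunction G F) (c₀ : ℂ) (Mc : ZMod p → ℂ)
    (hFv : ∀ x : (P : Subgroup G), x ≠ 1 → ∀ k : H, F (x * k) =
      (c₀ + ∑ C ∈ lab (p := p) t, Mc C * per ψ f C x) * (φ : H → ℂ) k) :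
    ∃ z : ℂ, ∀ A ∈ lab (p := p) t,
      (Φ.δ : ℂ) * classInner F (Φ.Y A : G → ℂ) = Mc A + z := by
  classical
  have h1l := one_mem_lab (p := p) hft
  refine ⟨(Φ.δ : ℂ) * classInner F (Φ.Y 1 : G → ℂ) - Mc 1, fun A hA => ?_⟩
  set W : G → ℂ := fun g => (Φ.Y A : G → ℂ) g - (Φ.Y 1 : G → ℂ) g with hW
  have hH := h.central_le
  have hφ : ∀ k : H, (φ : H → ℂ) k * conj ((φ : H → ℂ) k) = 1 := fun k => by
    rw [Complex.mul_conj, Complex.normSq_eq_norm_sq, norm_lin D hH φ k, one_pow, Complex.ofReal_one]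
  have hsing := classInner_singular D hH (F := F) (W := W) hF
    (fun g s => by simp only [hW]; rw [H12.irr_isClassFunction _ g s, H12.irr_isClassFunction _ g s])
    (fun g hg => by simp only [hW]; rw [Φ.regY A hA g hg, sub_self])
    fun x hx hx1 k => by
      have hx' : (⟨x, hx⟩ : (P : Subgroup G)) ≠ 1 := fun h' => hx1 (congrArg Subtype.val h')
      have e1 := hFv ⟨x, hx⟩ hx' k
      have e2 := hFv ⟨x, hx⟩ hx' 1
      rw [OneMemClass.coe_one, mul_one, lin_one D hH φ, mul_one] at e2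
      simp only [hW]
      rw [show F (x * k) = _ from e1, show F x = _ from e2,
        show (Φ.Y A : G → ℂ) (x * k) = _ from Φ.valY A hA ⟨x, hx⟩ hx' k,
        show (Φ.Y 1 : G → ℂ) (x * k) = _ from Φ.valY 1 h1l ⟨x, hx⟩ hx' k,
        show (Φ.Y A : G → ℂ) x = _ from valY' h hft Φ hA ⟨x, hx⟩ hx',
        show (Φ.Y 1 : G → ℂ) x = _ from valY' h hft Φ h1l ⟨x, hx⟩ hx', ← sub_mul, map_mul]
      have := hφ k
      linear_combination ((c₀ + ∑ C ∈ lab (p := p) t, Mc C * per ψ f C ⟨x, hx⟩) *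
        conj ((Φ.δ : ℂ) * per ψ f A ⟨x, hx⟩ - (Φ.δ : ℂ) * per ψ f (1 : ZMod p) ⟨x, hx⟩)) * this
  have hrhs : ∑ x ∈ Finset.univ.erase (1 : (P : Subgroup G)), F x * conj (W x) =
      (Φ.δ : ℂ) * ((p : ℂ) * f * (Mc A - Mc 1)) := by
    have hO := fun C (hC : C ∈ lab (p := p) t) (B : ZMod p) (hB : B ∈ lab (p := p) t) =>
      sum_erase_per_mul_conj D.hP h.psi_ne hft C B hC hB
    have hS : ∀ B ∈ lab (p := p) t, ∑ x ∈ Finset.univ.erase (1 : (P : Subgroup G)),
        (c₀ + ∑ C ∈ lab (p := p) t, Mc C * per ψ f C x) * conj (per ψ f B x) =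
          -c₀ * f + (p : ℂ) * f * Mc B - (f : ℂ) * f * ∑ C ∈ lab (p := p) t, Mc C := by
      intro B hB
      simp only [add_mul, Finset.sum_add_distrib, Finset.sum_mul, mul_assoc]
      rw [← Finset.mul_sum, Finset.sum_comm (t := lab (p := p) t)]
      simp only [← Finset.mul_sum]
      rw [← map_sum, sum_erase_per D.hP h.psi_ne hft hB, map_neg, map_natCast,
        Finset.sum_congr rfl fun C hC => by rw [hO C hC B hB, mul_sub, mul_ite, mul_zero],
        Finset.sum_sub_distrib, Finset.sum_ite_eq', if_pos hB, ← Finset.sum_mul]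
      ring
    have e : ∀ x ∈ Finset.univ.erase (1 : (P : Subgroup G)), F x * conj (W x) =
        (Φ.δ : ℂ) * ((c₀ + ∑ C ∈ lab (p := p) t, Mc C * per ψ f C x) * conj (per ψ f A x)) -
        (Φ.δ : ℂ) * ((c₀ + ∑ C ∈ lab (p := p) t, Mc C * per ψ f C x) * conj (per ψ f (1 : ZMod p) x)) := by
      intro x hx
      have hx1 := Finset.ne_of_mem_erase hx
      have e2 := hFv x hx1 1
      rw [OneMemClass.coe_one, mul_one, lin_one D hH φ, mul_one] at e2
      simp only [hW]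
      rw [e2, valY' h hft Φ hA x hx1, valY' h hft Φ h1l x hx1, map_sub, map_mul, map_mul, map_intCast]
      ring
    rw [Finset.sum_congr rfl e, Finset.sum_sub_distrib, ← Finset.mul_sum, ← Finset.mul_sum, hS A hA,
      hS 1 h1l]
    ring
  rw [hrhs, h.card_aut] at hsing
  have hsub : classInner F W = classInner F (Φ.Y A : G → ℂ) - classInner F (Φ.Y 1 : G → ℂ) := by
    simp only [hW, H12.classInner_def, map_sub, mul_sub, Finset.sum_sub_distrib]
  rw [hsub] at hsing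
  push_cast at hsing
  have hne : (f : ℂ) * p ≠ 0 :=
    mul_ne_zero (Nat.cast_ne_zero.2 (f_pos hft).ne') (Nat.cast_ne_zero.2 hp.out.ne_zero)
  have h2 : classInner F (Φ.Y A : G → ℂ) - classInner F (Φ.Y 1 : G → ℂ) =
      (Φ.δ : ℂ) * (Mc A - Mc 1) := mul_left_cancel₀ hne (by linear_combination hsing)
  have hδ2 : (Φ.δ : ℂ) * (Φ.δ : ℂ) = 1 := by rcases Φ.δ_eq with h' | h' <;> rw [h'] <;> norm_num
  linear_combination (Φ.δ : ℂ) * h2 + (Mc A - Mc 1) * hδ2

/-- The multiplicities of the exceptional characters in a character. -/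
theorem exists_mult {F : G → ℂ} (hF : IsCharacter G F) (c₀ : ℂ) (Mc : ZMod p → ℤ)
    (hFv : ∀ x : (P : Subgroup G), x ≠ 1 → ∀ k : H, F (x * k) =
      (c₀ + ∑ C ∈ lab (p := p) t, (Mc C : ℂ) * per ψ f C x) * (φ : H → ℂ) k) :
    ∃ (k : ZMod p → ℕ) (z : ℤ),
      (∀ A, classInner F (Φ.Y A : G → ℂ) = (k A : ℂ)) ∧
      ∀ A ∈ lab (p := p) t, Φ.δ * (k A : ℤ) = Mc A + z := by
  choose k hk using fun A => H12.IsCharacter.classInner_nat hF (H12.isCharacter_irr (Φ.Y A))
  obtain ⟨z, hz⟩ := inner_Y h hft Φ (H12.IsCharacter.isClassFunction hF) c₀ (fun C => (Mc C : ℂ)) hFv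
  refine ⟨k, Φ.δ * (k 1 : ℤ) - Mc 1, hk, fun A hA => ?_⟩
  have h1 := hz A hA
  have h2 := hz 1 (one_mem_lab hft)
  rw [hk] at h1 h2
  have : ((Φ.δ * (k A : ℤ) : ℤ) : ℂ) = ((Mc A + (Φ.δ * (k 1 : ℤ) - Mc 1) : ℤ) : ℂ) := by
    push_cast
    linear_combination h1 - h2
  exact_mod_cast this

end Fam

end H15.Degree
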