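import Cfsg.Agent.H15.Degree.Products
import Cfsg.Agent.H18.FixedExtension

/-!
Degrees below `p - 1` (helper15): with two classes of elements of order `p`, the normal subgroups
not containing them are central.
-/

set_option autoImplicit false
set_option linter.style.haveILetI false
set_option linter.unusedSectionVars false

open Cfsg
open scoped ComplexConjugate Pointwise

namespace H15.Degree

open H85.D1 H15.HalfDeg

universe u

variable {G : Type u} [Group G] [Fintype G] {p : ℕ} [hp : Fact p.Prime]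
  {P : Sylow p G} {u a : G} {H : Subgroup G} [Fintype H] [Fintype (P : Subgroup G)]
  {D : Setting P u a H} [Fintype (D.aut (H12.oneIrr H))] {f n : ℕ}
  {χ : IrrCharacter G} {θ : IrrCharacter H} {ψ : (P : Subgroup G) →* ℂˣ}

include D in
theorem regular_of_normal (K : Subgroup G) [K.Normal] (hu : u ∉ K) {k : G} (hk : k ∈ K) :
    ¬ p ∣ orderOf k := by
  intro hd
  obtain ⟨m, hm⟩ := hd
  have hord : orderOf (k ^ m) = p := by
    have hm0 : m ≠ 0 := fun h0 => by rw [h0, mul_zero] at hm; exact (orderOf_pos k).ne' hm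
    rw [orderOf_pow_of_dvd hm0 ⟨p, by rw [hm, mul_comm]⟩, hm,
      Nat.mul_div_cancel _ (Nat.pos_of_ne_zero hm0)]
  obtain ⟨z, hz, hconj⟩ := H20.FreeSylow.exists_isConj_mem (P := P) (y := k ^ m)
    ⟨1, by rw [pow_one, hord]⟩
  obtain ⟨t, ht⟩ := isConj_iff.1 hconj
  have hzK : z ∈ K := ht ▸ (inferInstance : K.Normal).conj_mem _ (pow_mem hk m) t
  have hz1 : z ≠ 1 := fun h1 => by
    rw [h1, conj_eq_one_iff] at ht
    rw [ht, orderOf_one] at hord
    exact hp.out.ne_one hord.symm
  have h2 : u ∈ Subgroup.zpowers z := by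
    rw [H20.PrimeSylow.zpowers_eq D.hP hz hz1]
    exact D.u_mem
  exact hu ((Subgroup.zpowers_le.2 hzK) h2)

variable (h : Neg D f n χ θ ψ) (hft : f * 2 + 1 = p)
include h hft

variable {M : Ideal AlgInt} [M.IsPrime] (hM : IsPModular p M)
include hM

/-- The absolute values on a coset of a normal subgroup of regular elements. -/
theorem norm_coset (K : Subgroup G) [K.Normal] [Fintype K] (hu : u ∉ K) (x : (P : Subgroup G))
    (hx : x ≠ 1) (j : K) : ‖(χ : G → ℂ) (x * j)‖ = ‖(χ : G → ℂ) x‖ := by
  classical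
  have hxG : (x : G) ≠ 1 := fun h' => hx (Subtype.ext h')
  let C : Subgroup K := H.subgroupOf K
  let Ψ : (K ⧸ C) × C → K := fun z =>
    ⟨(x : G)⁻¹ * ((z.1.out : K) : G) * x * ((z.1.out : K) : G)⁻¹ * ((z.2 : K) : G),
      mul_mem (mul_mem (by
        have := (inferInstance : K.Normal).conj_mem _ (z.1.out : K).2 (x : G)⁻¹
        rwa [inv_inv] at this) (inv_mem (z.1.out : K).2)) (z.2 : K).2⟩
  have hinj : Function.Injective Ψ := by
    rintro ⟨q, c⟩ ⟨q', c'⟩ he
    have h1 : (x : G)⁻¹ * ((q.out : K) : G) * x * ((q.out : K) : G)⁻¹ * ((c : K) : G) =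
        (x : G)⁻¹ * ((q'.out : K) : G) * x * ((q'.out : K) : G)⁻¹ * ((c' : K) : G) :=
      congrArg Subtype.val he
    set k := ((q.out : K) : G)
    set k' := ((q'.out : K) : G)
    have hc : ((c : K) : G) ∈ H := c.2
    have hc' : ((c' : K) : G) ∈ H := c'.2
    have hconj : ∀ (w : G) (d : G), d ∈ H → H20.pPart p (w * x * w⁻¹ * d) = w * x * w⁻¹ := by
      intro w d hd
      have hcd := Subgroup.mem_center_iff.1 (h.central_le hd)
      rw [show w * (x : G) * w⁻¹ * d = w * ((x : G) * d) * w⁻¹ by
        rw [mul_assoc (w * (x : G)), hcd w⁻¹]; group, H20.pPart_conj, D.pPart_mul x.2 hd]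
    have h2 : k * x * k⁻¹ * ((c : K) : G) = k' * x * k'⁻¹ * ((c' : K) : G) := by
      have := congrArg ((x : G) * ·) h1
      simpa [mul_assoc] using this
    have h3 : k * x * k⁻¹ = k' * x * k'⁻¹ := by
      rw [← hconj k _ hc, h2, hconj k' _ hc']
    rw [h3, mul_right_inj] at h2
    have hcc : c = c' := Subtype.ext (Subtype.ext h2)
    have hcomm : Commute (k⁻¹ * k') (x : G) := by
      show k⁻¹ * k' * x = x * (k⁻¹ * k')
      calc k⁻¹ * k' * x = k⁻¹ * (k' * x * k'⁻¹) * k' := by group
        _ = k⁻¹ * (k * x * k⁻¹) * k' := by rw [h3]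
        _ = x * (k⁻¹ * k') := by group
    obtain ⟨y, hy, d, hd, hyd⟩ := D.exists_mul (D.centralizer_eq x.2 hxG hcomm)
    have hy1 : y = 1 := by
      by_contra hy1
      have := D.dvd_orderOf_mul hy hy1 hd
      rw [← hyd] at this
      exact regular_of_normal (D := D) K hu (mul_mem (inv_mem (q.out : K).2) (q'.out : K).2) this
    have hqq : q = q' := by
      rw [← QuotientGroup.out_eq' q, ← QuotientGroup.out_eq' q']
      refine QuotientGroup.eq.2 ?_
      show ((q.out⁻¹ * q'.out : K) : G) ∈ H
      rw [Subgroup.coe_mul, Subgroup.coe_inv, hyd, hy1, one_mul]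
      exact hd
    rw [hqq, hcc]
  have hbij := (Nat.bijective_iff_injective_and_card Ψ).2 ⟨hinj, by
    rw [Nat.card_prod]; exact (Subgroup.card_eq_card_quotient_mul_card_subgroup C).symm⟩
  obtain ⟨⟨q, c⟩, hz⟩ := hbij.2 j
  have h1 : (x : G) * j = ((q.out : K) : G) * x * ((q.out : K) : G)⁻¹ * ((c : K) : G) := by
    rw [← hz]
    show (x : G) * ((x : G)⁻¹ * _ * x * _ * _) = _
    group
  rw [h1, show ((c : K) : G) = ((⟨((c : K) : G), c.2⟩ : H) : G) from rfl,
    central_mul D h.central_le hM h.mem_supp, norm_mul, norm_lin D h.central_le, one_mul,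
    H12.irr_isClassFunction χ (x : G) _]

/-- A normal subgroup not containing the elements of order `p` is central. -/
theorem normal_le (hgen : Subgroup.closure {g : G | g ^ p = 1} = ⊤) (K : Subgroup G) [K.Normal]
    (hu : u ∉ K) : K ≤ H := by
  classical
  haveI : Fintype K := Fintype.ofFinite _
  have hn : n = f + 1 := by have := h.add_eq; omega
  have hfpos := h.two_le
  obtain ⟨η, hη⟩ := H13.exists_constituent K (H12.isCharacter_irr χ) fun h0 =>
    H12.irr_apply_one_ne_zero χ (congrFun h0 1)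
  set R : K → ℂ := fun k : K => (χ : G → ℂ) k with hR
  have hRc : IsCharacter K R := H12.IsCharacter.res (H12.isCharacter_irr χ) K
  -- the elements of order `p` fix the constituent
  have hfix : ∀ z : G, z ^ p = 1 → z ∈ H13.inertia K (η : K → ℂ) := by
    intro z hz
    rw [H13.mem_inertia]
    by_contra hne
    obtain ⟨m, hm⟩ := H12.IsCharacter.exists_mult hRc
    have hz1 : z ≠ 1 := fun h1 => hne (by rw [h1]; exact H13.twist_one K _)
    have hord : orderOf z = p := orderOf_eq_prime hz hz1
    let orb : Fin p → IrrCharacter K := fun i => H13.twistIrr K (z ^ (i : ℕ)) η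
    have hper : ∀ i : ℕ, H13.twist K (z ^ i) (η : K → ℂ) = (η : K → ℂ) → p ∣ i := by
      intro i hi
      by_contra hpi
      refine hne ?_
      have hmem : z ^ i ∈ H13.inertia K (η : K → ℂ) := hi
      have hcop : Nat.Coprime i (orderOf z) := by
        rw [hord]; exact ((hp.out.coprime_iff_not_dvd).2 hpi).symm
      obtain ⟨l, hl⟩ := exists_pow_eq_self_of_coprime hcop
      exact hl ▸ pow_mem hmem l
    have hinj : Function.Injective orb := by
      intro i j hij
      have e : H13.twist K (z ^ (i : ℕ)) (η : K → ℂ) = H13.twist K (z ^ (j : ℕ)) (η : K → ℂ) :=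
        congrArg Subtype.val hij
      apply Fin.ext
      rcases le_total (i : ℕ) (j : ℕ) with hle | hle
      · have hd := hper ((j : ℕ) - i) (by
          have := congrArg (H13.twist K (z ^ (i : ℕ))⁻¹) e
          rw [H13.twist_twist, H13.twist_twist, mul_inv_cancel, H13.twist_one, ← pow_sub z hle]
            at this
          exact this.symm)
        have := Nat.eq_zero_of_dvd_of_lt hd (by omega)
        omega
      · have hd := hper ((i : ℕ) - j) (by
          have := congrArg (H13.twist K (z ^ (j : ℕ))⁻¹) e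
          rw [H13.twist_twist, H13.twist_twist, mul_inv_cancel, H13.twist_one, ← pow_sub z hle]
            at this
          exact this)
        have := Nat.eq_zero_of_dvd_of_lt hd (by omega)
        omega
    have hmorb : ∀ i, 1 ≤ m (orb i) := fun i => by
      refine Nat.one_le_iff_ne_zero.2 fun h0 => hη ?_
      have h2 : classInner R ((orb i : IrrCharacter K) : K → ℂ) = (m (orb i) : ℂ) := by
        rw [hm, H12.classInner_sum_smul_irr]
      rw [h0, Nat.cast_zero] at h2
      rw [← H13.classInner_res_twist K (H12.irr_isClassFunction χ) (η : K → ℂ) (z ^ (i : ℕ))]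
      exact h2
    have hdeg : n = ∑ i : IrrCharacter K, m i * H12.degree (i : K → ℂ) := by
      have h2 := congrFun hm 1
      simp only [Finset.sum_apply, Pi.smul_apply, smul_eq_mul, H12.irr_apply_one, hR,
        OneMemClass.coe_one, h.degree_eq] at h2
      exact_mod_cast h2
    have hp' : p ≤ n := by
      rw [hdeg]
      refine le_trans ?_ (Finset.sum_le_sum_of_subset (Finset.subset_univ (Finset.univ.image orb)))
      rw [Finset.sum_image fun i _ j _ he => hinj he]
      refine le_trans (le_of_eq ?_) (Finset.sum_le_sum (f := fun _ : Fin p => 1) fun i _ =>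
        Nat.mul_pos (hmorb i) (H12.irr_degree_pos _))
      simp
    omega
  have hinv : ∀ g, H13.twist K g (η : K → ℂ) = (η : K → ℂ) := fun g => by
    have : (⊤ : Subgroup G) ≤ H13.inertia K (η : K → ℂ) :=
      hgen ▸ (Subgroup.closure_le _).2 hfix
    exact this (Subgroup.mem_top g)
  have hres := H18.res_eq_smul_of_invariant K η.2 hinv χ hη
  obtain ⟨e, he⟩ := H12.IsCharacter.classInner_nat hRc (H12.isCharacter_irr η)
  rw [he] at hres
  have hned : n = e * H12.degree (η : K → ℂ) := by
    have h2 := congrFun hres 1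
    simp only [Pi.smul_apply, smul_eq_mul, H12.irr_apply_one, OneMemClass.coe_one, h.degree_eq] at h2
    exact_mod_cast h2
  have hRR : classInner R R = ((e * e : ℕ) : ℂ) := by
    have h2 : R = (e : ℂ) • (η : K → ℂ) := hres
    conv_lhs => rw [h2]
    have := H12.classInner_irr_self η
    rw [H12.classInner_def] at this ⊢
    simp only [Pi.smul_apply, smul_eq_mul, map_mul, Complex.conj_natCast]
    rw [Finset.sum_congr rfl (g := fun k : K => ((e : ℂ) * e) * ((η : K → ℂ) k * conj ((η : K → ℂ) k)))
      fun k _ => by ring, ← Finset.mul_sum, mul_left_comm, this]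
    push_cast
    ring
  -- the norm over the product with `P`
  set L : Subgroup G := (P : Subgroup G) ⊔ K with hL
  haveI : Fintype L := Fintype.ofFinite _
  let m : ↥(P : Subgroup G) × K → L := fun z => ⟨(z.1 : G) * z.2,
    mul_mem (Subgroup.mem_sup_left z.1.2) (Subgroup.mem_sup_right z.2.2)⟩
  have hm : Function.Bijective m := by
    refine ⟨?_, fun y => ?_⟩
    · rintro ⟨x, k⟩ ⟨x', k'⟩ he'
      have h2 : (x : G) * k = x' * k' := congrArg Subtype.val he'
      have hd : (x' : G)⁻¹ * x ∈ K := by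
        have h3 : (x' : G)⁻¹ * x = (k' : G) * (k : G)⁻¹ := by
          rw [eq_mul_inv_iff_mul_eq, mul_assoc, h2, inv_mul_cancel_left]
        rw [h3]; exact mul_mem k'.2 (inv_mem k.2)
      have hx : x = x' := by
        refine (inv_mul_eq_one.1 (?_ : x'⁻¹ * x = 1)).symm
        by_contra hne
        have h4 := regular_of_normal (D := D) K hu hd
        refine h4 ?_
        rw [show (x' : G)⁻¹ * (x : G) = ((x'⁻¹ * x : (P : Subgroup G)) : G) from rfl,
          D.orderOf_eq (x'⁻¹ * x).2 fun h' => hne (Subtype.ext h')]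
      subst hx
      exact Prod.ext rfl (Subtype.ext (mul_left_cancel h2))
    · have hy : (y : G) ∈ ((P : Subgroup G) : Set G) * (K : Set G) := by
        rw [← Subgroup.mul_normal]; exact y.2
      obtain ⟨x, hx, k, hk, hxk⟩ := hy
      exact ⟨(⟨x, hx⟩, ⟨k, hk⟩), Subtype.ext hxk⟩
  obtain ⟨q, hq⟩ := H12.IsCharacter.classInner_nat (H12.IsCharacter.res (H12.isCharacter_irr χ) L)
    (H12.IsCharacter.res (H12.isCharacter_irr χ) L)
  have hnorm := H12.sum_mul_conj_eq_card_mul (fun y : L => (χ : G → ℂ) y) (fun y : L => (χ : G → ℂ) y)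
  rw [hq, ← Fintype.sum_bijective m hm (fun z => (χ : G → ℂ) (m z : G) * conj ((χ : G → ℂ) (m z : G)))
    _ fun z => rfl, Fintype.sum_prod_type, ← Nat.card_congr (Equiv.ofBijective m hm), Nat.card_prod,
    D.hP, ← Finset.add_sum_erase _ _ (Finset.mem_univ (1 : (P : Subgroup G)))] at hnorm
  have hK1 : ∑ k : K, (χ : G → ℂ) (m (1, k) : G) * conj ((χ : G → ℂ) (m (1, k) : G)) =
      (Nat.card K : ℂ) * ((e * e : ℕ) : ℂ) := by
    rw [← hRR, ← H12.sum_mul_conj_eq_card_mul R R]
    exact Finset.sum_congr rfl fun k _ => by simp [m, hR]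
  have hKx : ∀ x : (P : Subgroup G), x ≠ 1 →
      ∑ k : K, (χ : G → ℂ) (m (x, k) : G) * conj ((χ : G → ℂ) (m (x, k) : G)) =
      (Nat.card K : ℂ) * (per ψ f (1 : ZMod p) x * conj (per ψ f (1 : ZMod p) x)) := by
    intro x hx
    rw [Finset.sum_congr rfl (g := fun _ => per ψ f (1 : ZMod p) x * conj (per ψ f (1 : ZMod p) x))
      fun k _ => ?_, Finset.sum_const, Finset.card_univ, ← Nat.card_eq_fintype_card, nsmul_eq_mul]
    show (χ : G → ℂ) ((x : G) * k) * _ = _
    have h2 := norm_coset h hft hM K hu x hx k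
    rw [h.val_per hft x hx, norm_neg] at h2
    rw [Complex.mul_conj, Complex.mul_conj, Complex.normSq_eq_norm_sq, Complex.normSq_eq_norm_sq, h2]
  rw [hK1, Finset.sum_congr rfl fun x hx => hKx x (Finset.ne_of_mem_erase hx), ← Finset.mul_sum,
    sum_erase_per_mul_conj D.hP h.psi_ne hft 1 1 (one_mem_lab hft) (one_mem_lab hft), if_pos rfl]
    at hnorm
  have heq : (p : ℤ) * q = (e : ℤ) * e + ((p : ℤ) * f - (f : ℤ) * f) := by
    have hK0 : (Nat.card K : ℂ) ≠ 0 := Nat.cast_ne_zero.2 Nat.card_pos.ne'
    have : (((p : ℤ) * q : ℤ) : ℂ) = (((e : ℤ) * e + ((p : ℤ) * f - (f : ℤ) * f) : ℤ) : ℂ) := by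
      push_cast at hnorm ⊢
      refine mul_left_cancel₀ hK0 ?_
      linear_combination -hnorm
    exact_mod_cast this
  -- `2 e ≡ ± 1`, so the constituent is linear
  have hdiv : (p : ℤ) ∣ (2 * (e : ℤ) - 1) * (2 * e + 1) :=
    ⟨4 * q - 4 * f + 2 * f - 1, by
      have hpZ : (p : ℤ) = 2 * f + 1 := by rw [← hft]; push_cast; ring
      rw [hpZ] at heq ⊢
      linear_combination -4 * heq⟩
  have hle : e ≤ n := by
    rw [hned]; exact Nat.le_mul_of_pos_right _ (H12.irr_degree_pos η)
  have he0 : 0 < e := Nat.pos_of_ne_zero fun h0 => by rw [h0, Nat.zero_mul] at hned; omega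
  have hef : e = f ∨ e = n := by
    rcases (Nat.prime_iff_prime_int.1 hp.out).dvd_or_dvd hdiv with hd | hd
    · obtain ⟨c, hc⟩ := hd
      rcases le_or_gt c 0 with hc0 | hc0
      · have := mul_nonpos_of_nonneg_of_nonpos (show (0 : ℤ) ≤ p by omega) hc0
        omega
      · rcases eq_or_lt_of_le (show (1 : ℤ) ≤ c by omega) with hc1 | hc1
        · rw [← hc1] at hc
          right
          omega
        · have := mul_le_mul_of_nonneg_left (show (2 : ℤ) ≤ c by omega) (show (0 : ℤ) ≤ p by omega)
          omega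
    · obtain ⟨c, hc⟩ := hd
      rcases le_or_gt c 0 with hc0 | hc0
      · have := mul_nonpos_of_nonneg_of_nonpos (show (0 : ℤ) ≤ p by omega) hc0
        omega
      · rcases eq_or_lt_of_le (show (1 : ℤ) ≤ c by omega) with hc1 | hc1
        · rw [← hc1] at hc
          left
          omega
        · have := mul_le_mul_of_nonneg_left (show (2 : ℤ) ≤ c by omega) (show (0 : ℤ) ≤ p by omega)
          omega
  have hd1 : H12.degree (η : K → ℂ) = 1 := by
    rcases hef with he' | he' <;> rw [he'] at hned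
    · have hpos := H12.irr_degree_pos η
      rcases Nat.lt_or_ge (H12.degree (η : K → ℂ)) 2 with h2 | h2
      · omega
      · have := Nat.mul_le_mul_left f h2
        omega
    · exact Nat.eq_of_mul_eq_mul_left (show 0 < n by omega) (by rw [mul_one]; exact hned.symm)
  obtain ⟨l, hl⟩ := H12.exists_monoidHom_of_apply_one_eq_one (H12.isCharacter_irr η)
    (by rw [H12.irr_apply_one, hd1, Nat.cast_one])
  intro k hk
  rw [h.center_eq]
  refine mem_center_of_norm χ h.faithful ?_
  have h2 := congrFun hres ⟨k, hk⟩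
  simp only [Pi.smul_apply, smul_eq_mul] at h2
  rw [h2, norm_mul, Complex.norm_natCast, ← congrFun hl, H12.norm_eq_one_of_pow_eq_one
    (n := Nat.card K) Nat.card_pos.ne' (by rw [← Units.val_pow_eq_pow_val, ← map_pow,
      pow_card_eq_one', map_one, Units.val_one]), mul_one, h.degree_eq, hned, hd1, mul_one]

end H15.Degree
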