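import Cfsg.Agent.H15.Degree.Series
import Cfsg.Agent.H15.Degree.Per

/-!
Degrees below `p - 1` (helper15): the conditions on the cyclotomic numbers coming from the
products of exceptional characters leave only few possibilities for `f`.
-/

set_option autoImplicit false
set_option linter.unusedSectionVars false

namespace H15.Degree

open Finset

variable {p : ℕ} [hp : Fact p.Prime]

/-- A row of cyclotomic numbers realised by multiplicities of total less than `t`. -/
def Row (f t : ℕ) (δ : ℤ) (A : ZMod p) : Prop :=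
  ∃ (k : ZMod p → ℕ) (z : ℤ), (∀ C ∈ lab (p := p) t, δ * (k C : ℤ) = (cyc f A C : ℤ) + z) ∧
    ∑ C ∈ lab (p := p) t, k C < t

variable {f t : ℕ} (hft : f * t + 1 = p)
include hft

theorem row_total {δ : ℤ} {A : ZMod p} (hA : A ∈ lab t) {k : ZMod p → ℕ} {z : ℤ}
    (hk : ∀ C ∈ lab (p := p) t, δ * (k C : ℤ) = (cyc f A C : ℤ) + z) :
    δ * ((∑ C ∈ lab (p := p) t, k C : ℕ) : ℤ) = (f : ℤ) - (if A = 1 then 1 else 0) + t * z := by
  have h1 := sum_cyc hft hA
  push_cast
  rw [Finset.mul_sum, Finset.sum_congr rfl hk, Finset.sum_add_distrib, Finset.sum_const,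
    card_lab hft, nsmul_eq_mul, ← Nat.cast_sum]
  have h2 : ((∑ C ∈ lab (p := p) t, cyc f A C : ℕ) : ℤ) + (if A = 1 then 1 else 0) = (f : ℤ) := by
    split_ifs at h1 ⊢ <;> exact_mod_cast h1
  linear_combination h2

theorem total_unique {δ : ℤ} (hδ : δ = 1 ∨ δ = -1) {r : ℕ} {a z : ℤ} (hr : r < t)
    (h : δ * (r : ℤ) = a + t * z) : (r : ℤ) = (δ * a) % t := by
  have h1 : (r : ℤ) = δ * a + t * (δ * z) := by
    rcases hδ with rfl | rfl <;> linarith
  have h2 : (δ * a) % (t : ℤ) = (r : ℤ) % t := by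
    rw [h1, Int.add_mul_emod_self_left]
  rw [h2, Int.emod_eq_of_lt (by positivity) (by exact_mod_cast hr)]

theorem total_eq {δ : ℤ} (hδ : δ = 1 ∨ δ = -1) {A : ZMod p} (hA : A ∈ lab t) (hrow : Row f t δ A)
    {r : ℕ} (hr : r < t) {j : ℤ}
    (hj : δ * (r : ℤ) = (f : ℤ) - (if A = 1 then 1 else 0) + t * j) :
    ∃ (k : ZMod p → ℕ) (z : ℤ), (∀ C ∈ lab (p := p) t, δ * (k C : ℤ) = (cyc f A C : ℤ) + z) ∧
      ∑ C ∈ lab (p := p) t, k C = r ∧ z = j := by
  obtain ⟨k, z, hk, hlt⟩ := hrow
  have h1 := total_unique hft hδ hlt (row_total hft hA hk)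
  rw [← total_unique hft hδ hr hj, Nat.cast_inj] at h1
  refine ⟨k, z, hk, h1, ?_⟩
  have h2 := row_total hft hA hk
  rw [h1] at h2
  have h3 : (t : ℤ) * z = (t : ℤ) * j := by linarith
  exact mul_left_cancel₀ (by have := t_pos hft; omega) h3

/-- Vanishing of the coefficient polynomials off `1`. -/
theorem gPol_root {δ : ℤ} (hδ : δ = 1 ∨ δ = -1)
    (hrow : ∀ A ∈ lab (p := p) t, A ≠ 1 → Row f t δ A) {r : ℕ} {j : ℤ}
    (hj : δ * (r : ℤ) = (f : ℤ) + t * j) {K : ℕ} (hr : r < K) (hK : K ≤ t) :
    ∀ A ∈ lab (p := p) t, A ≠ 1 →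
      (gPol f δ K).eval A = if K = t then (δ : ZMod p) * (j : ZMod p) else 0 := by
  intro A hA hA1
  obtain ⟨k, z, hk, hsum, rfl⟩ := total_eq hft hδ hA (hrow A hA hA1) (r := r) (j := j) (by omega)
    (by rw [if_neg hA1, sub_zero]; exact hj)
  exact gPol_eval hft hδ hA hk (hsum ▸ hr) hK

/-- A small total forces the sign `1` and `f ≤ r`. -/
theorem small_total {δ : ℤ} (hδ : δ = 1 ∨ δ = -1)
    (hrow : ∀ A ∈ lab (p := p) t, A ≠ 1 → Row f t δ A) {r : ℕ} {j : ℤ}
    (hj : δ * (r : ℤ) = (f : ℤ) + t * j) (hr : r + 3 ≤ t ∨ (Odd f ∧ r + 2 ≤ t)) :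
    δ = 1 ∧ f ≤ r := by
  by_contra hcon
  have hKt : r + 1 ≤ t := by omega
  have hne := binC_ne_zero hft hδ (k := r + 1) hKt
    fun h => Nat.succ_le_iff.2 (not_le.1 fun hle => hcon ⟨h, hle⟩)
  have hroot := gPol_root hft hδ hrow hj (K := r + 1) (Nat.lt_succ_self r) hKt
  simp only [show r + 1 ≠ t by omega, if_false] at hroot
  obtain ⟨hd, htop, hlow⟩ := gPol_facts (p := p) (f := f) δ (r + 1)
  rcases Nat.lt_or_ge (r + 2) t with h | h
  · have h0 := poly_lab_zero hft (by omega) hroot
    rw [h0, Polynomial.coeff_zero] at hlow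
    exact hne hlow.symm
  · have hodd : Odd f := by
      rcases hr with h' | h'
      · omega
      · exact h'.1
    obtain ⟨h0, -⟩ := poly_lab_geom hft (by omega) (by omega) hroot
    rw [show t - 1 = r + 1 by omega, htop, hlow] at h0
    have ht2 : Even t := by
      have hp2 : Even (f * t) := by
        have h2 : p ≠ 2 := by
          have := Nat.le_mul_of_pos_left t (f_pos hft); omega
        obtain ⟨m, hm⟩ := hp.out.odd_of_ne_two h2
        exact ⟨m, by omega⟩
      exact (Nat.even_mul.1 hp2).resolve_left (Nat.not_even_iff_odd.2 hodd)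
    have hr1 : Odd (r + 1) := by
      obtain ⟨m, hm⟩ := ht2
      exact ⟨m - 1, by omega⟩
    rw [hodd.neg_one_pow, hr1.neg_one_pow, neg_one_mul] at h0
    have h2 : (2 : ZMod p) * binC p f δ (r + 1) = 0 := by linear_combination h0
    refine hne ((mul_eq_zero.1 h2).resolve_left fun h2' => ?_)
    have : ((2 : ℕ) : ZMod p) = 0 := by exact_mod_cast h2'
    rw [ZMod.natCast_eq_zero_iff] at this
    have := Nat.le_of_dvd two_pos this
    have := Nat.le_mul_of_pos_left t (f_pos hft)
    omega

omit hft in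
theorem neg_one_ne_one (hp2 : 2 < p) : (-1 : ZMod p) ≠ 1 := fun h => by
  have h2 : ((2 : ℕ) : ZMod p) = 0 := by
    push_cast
    linear_combination -h
  rw [ZMod.natCast_eq_zero_iff] at h2
  have := Nat.le_of_dvd two_pos h2
  omega

theorem two_lt (ht : 2 ≤ t) : 2 < p := by
  have := Nat.mul_le_mul (f_pos hft) ht
  omega

omit hft in
theorem two_ne_zero' (hp2 : 2 < p) : (2 : ZMod p) ≠ 0 := fun h => by
  have h2 : ((2 : ℕ) : ZMod p) = 0 := by exact_mod_cast h
  rw [ZMod.natCast_eq_zero_iff] at h2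
  have := Nat.le_of_dvd two_pos h2
  omega

/-- The row of `-1` for odd `f`: only one odd entry. -/
theorem cyc_neg_one_parity (hodd : Odd f) (ht : 2 ≤ t) {C : ZMod p} (hC : C ∈ lab t) :
    Even (cyc f (-1 : ZMod p) C + if C = 2 ^ f then 1 else 0) := by
  classical
  have hne := neg_one_ne_one (p := p) (two_lt hft ht)
  set S := (fib f (-1 : ZMod p)).filter fun s => (1 - s) ^ f = C with hS
  have hm1 : (-1 : ZMod p) ∈ fib f (-1 : ZMod p) := mem_fib.2 hodd.neg_one_pow
  have hinv : ∀ s ∈ S, s⁻¹ ∈ S := fun s hs => by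
    simp only [hS, Finset.mem_filter, mem_fib] at hs ⊢
    have hs0 : s ≠ 0 := fun h => by
      rw [h, zero_pow (f_pos hft).ne'] at hs
      exact one_ne_zero (neg_eq_zero.1 hs.1.symm)
    refine ⟨by rw [inv_pow, hs.1, inv_neg, inv_one], ?_⟩
    rw [show (1 : ZMod p) - s⁻¹ = (-1) * (1 - s) * s⁻¹ by field_simp; ring, mul_pow, mul_pow, hs.2,
      inv_pow, hs.1, hodd.neg_one_pow, inv_neg, inv_one]
    ring
  have hfix : (S.filter fun s => s⁻¹ = s).card = if C = 2 ^ f then 1 else 0 := by
    have hsub : S.filter (fun s => s⁻¹ = s) ⊆ {-1} := fun s hs => by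
      simp only [hS, Finset.mem_filter, mem_fib] at hs
      have hs0 : s ≠ 0 := fun h => by
        rw [h, zero_pow (f_pos hft).ne'] at hs
        exact one_ne_zero (neg_eq_zero.1 hs.1.1.symm)
      have h1 : s * s = 1 := by
        nth_rewrite 2 [← hs.2]
        exact mul_inv_cancel₀ hs0
      rcases mul_self_eq_one_iff.1 h1 with h2 | h2
      · rw [h2, one_pow] at hs; exact absurd hs.1.1.symm hne
      · exact Finset.mem_singleton.2 h2
    split_ifs with h
    · rw [show S.filter (fun s => s⁻¹ = s) = {-1} from hsub.antisymm fun s hs => by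
        rw [Finset.mem_singleton.1 hs]
        simp only [hS, Finset.mem_filter]
        exact ⟨⟨hm1, by rw [h, sub_neg_eq_add, one_add_one_eq_two]⟩, by rw [inv_neg, inv_one]⟩,
        Finset.card_singleton]
    · rw [Finset.card_eq_zero, Finset.filter_eq_empty_iff]
      intro s hs hs'
      have h2 := Finset.mem_singleton.1 (hsub (Finset.mem_filter.2 ⟨hs, hs'⟩))
      rw [h2] at hs
      simp only [hS, Finset.mem_filter] at hs
      exact h (by rw [← hs.2, sub_neg_eq_add, one_add_one_eq_two])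
  have hmove : Even (S.filter fun s => ¬ s⁻¹ = s).card := by
    have h0 : ((S.filter fun s => ¬ s⁻¹ = s).card : ZMod 2) = 0 := by
      rw [Finset.card_eq_sum_ones, Nat.cast_sum]
      refine Finset.sum_involution (fun s _ => s⁻¹) (fun s _ => by decide) (fun s hs _ => ?_)
        (fun s hs => ?_) (fun s _ => inv_inv s)
      · exact (Finset.mem_filter.1 hs).2
      · obtain ⟨h1, h2⟩ := Finset.mem_filter.1 hs
        exact Finset.mem_filter.2 ⟨hinv s h1, fun h => h2 (by rw [inv_inv] at h; exact h.symm)⟩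
    exact even_iff_two_dvd.2 ((ZMod.natCast_eq_zero_iff _ _).1 h0)
  have hcyc : cyc f (-1 : ZMod p) C = S.card := rfl
  rw [hcyc, ← Finset.card_filter_add_card_filter_not (s := S) (fun s => s⁻¹ = s), hfix]
  obtain ⟨m, hm⟩ := hmove
  split_ifs
  · exact ⟨m + 1, by omega⟩
  · exact ⟨m, by omega⟩

/-- A flat first row with odd `f` is incompatible with the sign `-1`. -/
theorem false_of_flat (hodd : Odd f) (hf : 3 ≤ f) (ht : 3 ≤ t) {c : ℕ} (hc : f = c * t + 1)
    (hflat : ∀ C ∈ lab (p := p) t, cyc f (1 : ZMod p) C = c)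
    (hbound : ∀ A ∈ lab (p := p) t, A ≠ 1 → ∀ C ∈ lab (p := p) t, cyc f A C ≤ c + 1)
    (hsq : ∀ A ∈ lab (p := p) t, A ≠ 1 →
      (p : ℤ) * f * ∑ C ∈ lab (p := p) t, (cyc f A C : ℤ) ^ 2 =
        (f : ℤ) ^ 4 + ((p : ℤ) - 1) * ((f : ℤ) - c) ^ 2) : False := by
  classical
  have hpZ : (p : ℤ) = f * t + 1 := by exact_mod_cast hft.symm
  have hfZ : (f : ℤ) = c * t + 1 := by exact_mod_cast hc
  have hval : ∀ A ∈ lab (p := p) t, A ≠ 1 → ∀ C ∈ lab (p := p) t, C ≠ 1 →
      cyc f A C = 0 ∨ cyc f A C = c + 1 := by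
    intro A hA hA1 C hC hC1
    have hsum : ∑ C ∈ lab (p := p) t, (cyc f A C : ℤ) = f := by
      have := sum_cyc hft hA
      rw [if_neg hA1, add_zero] at this
      exact_mod_cast this
    have hA0 : cyc f A (1 : ZMod p) = c := by rw [cyc_comm hft]; exact hflat A hA
    have h1 := hsq A hA hA1
    have h2 : ∑ C ∈ lab (p := p) t, (cyc f A C : ℤ) ^ 2 = (c : ℤ) ^ 2 * t + c * t + 1 := by
      refine mul_left_cancel₀ (show (p : ℤ) * f ≠ 0 by
        have := hp.out.ne_zero
        exact mul_ne_zero (by omega) (by omega)) (h1.trans ?_)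
      rw [hpZ, hfZ]
      ring
    set g : ZMod p → ℤ := fun C => (cyc f A C : ℤ) * ((c : ℤ) + 1 - cyc f A C) with hg
    have hg0 : ∀ C ∈ (lab (p := p) t).erase 1, 0 ≤ g C := fun C hC => by
      have h := hbound A hA hA1 C (Finset.mem_of_mem_erase hC)
      exact mul_nonneg (by positivity) (by omega)
    have hsum0 : ∑ C ∈ (lab (p := p) t).erase 1, g C = 0 := by
      have h3 := Finset.add_sum_erase (lab (p := p) t) g (one_mem_lab hft)
      have h4 : ∑ C ∈ lab (p := p) t, g C = ((c : ℤ) + 1) * f - ((c : ℤ) ^ 2 * t + c * t + 1) := by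
        rw [← h2, ← hsum, Finset.mul_sum, ← Finset.sum_sub_distrib]
        exact Finset.sum_congr rfl fun C _ => by simp only [hg]; ring
      simp only [hg, hA0] at h3 h4 ⊢
      rw [h4, hfZ] at h3
      linarith
    have h5 := (Finset.sum_eq_zero_iff_of_nonneg hg0).1 hsum0 C (Finset.mem_erase.2 ⟨hC1, hC⟩)
    rcases mul_eq_zero.1 h5 with h6 | h6
    · exact Or.inl (by exact_mod_cast h6)
    · exact Or.inr (by omega)
  -- a label other than `1` and `-1`
  obtain ⟨B, hB, hB1, hB2⟩ : ∃ B ∈ lab (p := p) t, B ≠ 1 ∧ B ≠ (-1) ^ f := by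
    by_contra! hall
    have hsub : lab (p := p) t ⊆ {1, (-1) ^ f} := fun x hx => by
      rcases eq_or_ne x 1 with h | h
      · simp [h]
      · simp [hall x hx h]
    have := (Finset.card_le_card hsub).trans (Finset.card_le_two)
    rw [card_lab hft] at this
    omega
  have hBl := lab_ne_zero hft hB
  have h1 : cyc f B⁻¹ ((-1) ^ f * B⁻¹) = c := by
    have := cyc_inv hft hB (1 : ZMod p)
    rw [mul_one] at this
    rw [← this, cyc_comm hft]
    exact hflat B hB
  have hne : (-1 : ZMod p) ^ f * B⁻¹ ≠ 1 := fun h => hB2 (by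
    rw [hodd.neg_one_pow, neg_one_mul] at h
    have h' : B⁻¹ = (-1 : ZMod p) := by linear_combination -h
    rw [hodd.neg_one_pow, ← inv_inv B, h', inv_neg, inv_one])
  rcases hval B⁻¹ (inv_mem_lab hft hB) (inv_ne_one.2 hB1) _
    (mul_mem_lab hft (sgn_mem_lab hft) (inv_mem_lab hft hB)) hne with h2 | h2
  · rw [h1] at h2
    rw [h2] at hc
    omega
  · omega

/-- Odd `f`. -/
theorem odd_case (ht : 3 ≤ t) (hodd : Odd f) (hf : 3 ≤ f) {δ δ' : ℤ} (hδ : δ = 1 ∨ δ = -1)
    (hδ' : δ' = 1 ∨ δ' = -1) (hrow : ∀ A ∈ lab (p := p) t, Row f t δ A)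
    (hrow' : ∀ A ∈ lab (p := p) t, A ≠ 1 → Row f t δ' A)
    (hflat : ∀ c : ℕ, (∀ C ∈ lab (p := p) t, cyc f (1 : ZMod p) C = c) →
      ∀ A ∈ lab (p := p) t, A ≠ 1 →
        (p : ℤ) * f * ∑ C ∈ lab (p := p) t, (cyc f A C : ℤ) ^ 2 =
          (f : ℤ) ^ 4 + ((p : ℤ) - 1) * ((f : ℤ) - c) ^ 2)
    (hwedge : ∃ (kL kS : ZMod p → ℕ) (zL zS : ℤ),
      (∀ C ∈ lab (p := p) t, 2 * δ' * (kL C : ℤ) =
        (cyc f (-1 : ZMod p) C : ℤ) + (if C = 2 ^ f then 1 else 0) + zL) ∧
      (∀ C ∈ lab (p := p) t, 2 * δ' * (kS C : ℤ) =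
        (cyc f (-1 : ZMod p) C : ℤ) - (if C = 2 ^ f then 1 else 0) + zS) ∧
      2 * ∑ C ∈ lab (p := p) t, kL C + 2 ≤ t ∧ 2 * ∑ C ∈ lab (p := p) t, kS C ≤ t) :
    δ = 1 ∧ f + 3 ≤ t := by
  classical
  have hrow1 : ∀ A ∈ lab (p := p) t, A ≠ 1 → Row f t δ A := fun A hA _ => hrow A hA
  have hp2 := two_lt hft (by omega : 2 ≤ t)
  have hne := neg_one_ne_one (p := p) hp2
  have hsl : (-1 : ZMod p) ∈ lab t := by
    have := sgn_mem_lab (p := p) hft
    rwa [hodd.neg_one_pow] at this
  have hte : Even t := by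
    obtain ⟨m, hm⟩ := hp.out.odd_of_ne_two (show p ≠ 2 by omega)
    exact (Nat.even_mul.1 (⟨m, by omega⟩ : Even (f * t))).resolve_left
      (Nat.not_even_iff_odd.2 hodd)
  obtain ⟨k, z, hk, hlt⟩ := hrow (-1) hsl
  set r := ∑ C ∈ lab (p := p) t, k C with hr
  have hj := row_total hft hsl hk
  rw [if_neg hne, sub_zero] at hj
  by_cases hsmall : r + 2 ≤ t
  · obtain ⟨hδ1, hfr⟩ := small_total hft hδ hrow1 hj (Or.inr ⟨hodd, hsmall⟩)
    refine ⟨hδ1, ?_⟩
    obtain ⟨m, hm⟩ := hte
    obtain ⟨l, hl⟩ := hodd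
    omega
  have hrt : (r : ℤ) = (t : ℤ) - 1 := by omega
  exfalso
  rcases hδ with rfl | rfl
  · -- the second block
    obtain ⟨k', z', hk', hlt'⟩ := hrow' (-1) hsl hne
    have hj' := row_total hft hsl hk'
    rw [if_neg hne, sub_zero] at hj'
    rw [hrt, one_mul] at hj
    rcases hδ' with rfl | rfl
    · -- exterior and symmetric squares
      obtain ⟨kL, kS, zL, zS, hL, hS, hLle, hSle⟩ := hwedge
      have hpar : ∀ C ∈ lab (p := p) t,
          ∃ m : ℤ, (cyc f (-1 : ZMod p) C : ℤ) + (if C = 2 ^ f then 1 else 0) = 2 * m := by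
        intro C hC
        obtain ⟨m, hm⟩ := cyc_neg_one_parity hft hodd (by omega) hC
        refine ⟨m, ?_⟩
        split_ifs at hm ⊢ <;> omega
      obtain ⟨m₁, hm₁⟩ := hpar _ (one_mem_lab hft)
      have hzL : ∃ w : ℤ, zL = 2 * w := ⟨(kL 1 : ℤ) - m₁, by
        have := hL 1 (one_mem_lab hft)
        omega⟩
      have hzS : ∃ w : ℤ, zS = 2 * w := by
        refine ⟨(kS 1 : ℤ) - m₁ + (if (1 : ZMod p) = 2 ^ f then 1 else 0), ?_⟩
        have := hS 1 (one_mem_lab hft)
        split_ifs at this hm₁ ⊢ <;> omega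
      obtain ⟨wL, rfl⟩ := hzL
      obtain ⟨wS, rfl⟩ := hzS
      have hsum := sum_cyc hft hsl
      rw [if_neg hne, add_zero] at hsum
      have h2f : (2 : ZMod p) ^ f ∈ lab t := pow_f_mem_lab hft (two_ne_zero' hp2)
      have hsumZ : ∑ C ∈ lab (p := p) t, (cyc f (-1 : ZMod p) C : ℤ) = f := by exact_mod_cast hsum
      have heZ : ∑ C ∈ lab (p := p) t, (if C = (2 : ZMod p) ^ f then (1 : ℤ) else 0) = 1 := by
        rw [Finset.sum_ite_eq' _ _ _, if_pos h2f]
      have hTL : 2 * ((∑ C ∈ lab (p := p) t, kL C : ℕ) : ℤ) = (f : ℤ) + 1 + t * (2 * wL) := by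
        push_cast
        rw [Finset.mul_sum, Finset.sum_congr rfl (g := fun C => (cyc f (-1 : ZMod p) C : ℤ) +
            (if C = (2 : ZMod p) ^ f then 1 else 0) + 2 * wL) fun C hC => by
          have := hL C hC; rw [mul_one] at this; exact this,
          Finset.sum_add_distrib, Finset.sum_add_distrib, hsumZ, heZ, Finset.sum_const,
          card_lab hft, nsmul_eq_mul]
      have hTS : 2 * ((∑ C ∈ lab (p := p) t, kS C : ℕ) : ℤ) = (f : ℤ) - 1 + t * (2 * wS) := by
        push_cast
        rw [Finset.mul_sum, Finset.sum_congr rfl (g := fun C => (cyc f (-1 : ZMod p) C : ℤ) -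
            (if C = (2 : ZMod p) ^ f then 1 else 0) + 2 * wS) fun C hC => by
          have := hS C hC; rw [mul_one] at this; exact this,
          Finset.sum_add_distrib, Finset.sum_sub_distrib, hsumZ, heZ, Finset.sum_const,
          card_lab hft, nsmul_eq_mul]
      set L := ∑ C ∈ lab (p := p) t, kL C
      set Sm := ∑ C ∈ lab (p := p) t, kS C
      -- `2 L` and `2 S` have the forms `t x` and `t y - 2`
      have hL' : 2 * (L : ℤ) = t * (1 - z + 2 * wL) := by linear_combination hTL - hj
      have hS' : 2 * (Sm : ℤ) + 2 = t * (1 - z + 2 * wS) := by linear_combination hTS - hj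
      have htZ : (3 : ℤ) ≤ t := by exact_mod_cast ht
      have hxL : 1 - z + 2 * wL = 0 := by
        have hlo : (0 : ℤ) ≤ (t : ℤ) * (1 - z + 2 * wL) := by rw [← hL']; positivity
        have hhi : (t : ℤ) * (1 - z + 2 * wL) < t * 1 := by rw [← hL']; omega
        have := nonneg_of_mul_nonneg_right hlo (by omega)
        have := lt_of_mul_lt_mul_left hhi (by omega)
        omega
      have hxS : 1 ≤ 1 - z + 2 * wS := by
        have hlo : (t : ℤ) * 0 < t * (1 - z + 2 * wS) := by rw [← hS', mul_zero]; positivity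
        have := lt_of_mul_lt_mul_left hlo (by omega)
        omega
      have hxS2 : 2 ≤ 1 - z + 2 * wS := by omega
      have := mul_le_mul_of_nonneg_left hxS2 (show (0 : ℤ) ≤ t by omega)
      omega
    · -- the sign `-1` in the second block
      have h1 : (-1 : ℤ) * ((1 : ℕ) : ℤ) = (f : ℤ) + t * (z - 1) := by
        push_cast
        linear_combination hj
      obtain ⟨h, -⟩ := small_total hft (Or.inr rfl) hrow' h1 (Or.inl (by
        obtain ⟨m, hm⟩ := hte; omega))
      omega
  · -- sign `-1`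
    rw [hrt] at hj
    have hfc : (f : ℤ) - 1 = t * (-z - 1) := by linear_combination -hj
    have hnn : (0 : ℤ) ≤ -z - 1 := by
      have h0 : (0 : ℤ) ≤ t * (-z - 1) := by rw [← hfc]; omega
      exact nonneg_of_mul_nonneg_right h0 (by omega)
    obtain ⟨c, hc⟩ := Int.eq_ofNat_of_zero_le hnn
    have hfc' : f = c * t + 1 := by
      have : (f : ℤ) = c * t + 1 := by rw [← hc]; linear_combination hfc
      exact_mod_cast this
    have hfcZ : (f : ℤ) = c * t + 1 := by exact_mod_cast hfc'
    obtain ⟨k₁, z₁, hk₁, hs₁, hz₁⟩ := total_eq hft (Or.inr rfl) (one_mem_lab hft)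
      (hrow 1 (one_mem_lab hft)) (r := 0) (j := -(c : ℤ)) (by omega) (by
        rw [if_pos rfl, hfcZ]; ring)
    have hflat' : ∀ C ∈ lab (p := p) t, cyc f (1 : ZMod p) C = c := fun C hC => by
      have h0 := Finset.sum_eq_zero_iff.1 hs₁ C hC
      have := hk₁ C hC
      rw [h0, hz₁] at this
      omega
    refine false_of_flat hft hodd hf ht hfc' hflat' (fun A hA hA1 C hC => ?_) (hflat c hflat')
    obtain ⟨kA, zA, hkA, -, hzA⟩ := total_eq hft (Or.inr rfl) hA (hrow A hA)
      (r := t - 1) (j := -(c : ℤ) - 1) (by omega) (by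
        rw [if_neg hA1, Nat.cast_sub (by omega : 1 ≤ t), hfcZ]; push_cast; ring)
    have := hkA C hC
    rw [hzA] at this
    omega

/-- The sign `-1` in the second block forces `f ≤ 2` once `f < t`. -/
theorem second_case {δ' : ℤ} (hδ' : δ' = -1) (hf : 3 ≤ f) (hlt : f + 3 ≤ t)
    (hrow' : ∀ A ∈ lab (p := p) t, A ≠ 1 → Row f t δ' A) : False := by
  obtain ⟨h, -⟩ := small_total hft (Or.inr hδ') hrow' (r := t - f) (j := -1) (by
    rw [hδ', Nat.cast_sub (by omega : f ≤ t)]; ring) (Or.inl (by omega))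
  omega

/-- Even `f`. -/
theorem even_case (ht : 3 ≤ t) (heven : Even f) (hf : 4 ≤ f) {δ : ℤ} (hδ : δ = 1 ∨ δ = -1)
    (hrow : ∀ A ∈ lab (p := p) t, Row f t δ A)
    (hwedge : ∃ (s : ℤ) (z : ℤ), (s = 1 ∨ s = -1) ∧ ∀ C ∈ lab (p := p) t,
      (cyc f (1 : ZMod p) C : ℤ) + s * (if C = 2 ^ f then 1 else 0) = z) : False := by
  classical
  have hrow1 : ∀ A ∈ lab (p := p) t, A ≠ 1 → Row f t δ A := fun A hA _ => hrow A hA
  obtain ⟨s, z₁, hs, hz₁⟩ := hwedge
  have hp2 := two_lt hft (by omega : 2 ≤ t)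
  have h2f : (2 : ZMod p) ^ f ∈ lab t := pow_f_mem_lab hft (two_ne_zero' hp2)
  have hsum : ∑ C ∈ lab (p := p) t, (cyc f (1 : ZMod p) C : ℤ) = (f : ℤ) - 1 := by
    have := sum_cyc hft (one_mem_lab (p := p) hft)
    rw [if_pos rfl] at this
    have h' : ((∑ C ∈ lab (p := p) t, cyc f (1 : ZMod p) C : ℕ) : ℤ) + 1 = f := by
      exact_mod_cast this
    push_cast at h'
    linarith
  have htz : (f : ℤ) - 1 + s = t * z₁ := by
    rw [← hsum]
    have h := Finset.sum_congr (rfl : lab (p := p) t = lab t) hz₁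
    rw [Finset.sum_add_distrib, ← Finset.mul_sum, Finset.sum_ite_eq', if_pos h2f, mul_one,
      Finset.sum_const, card_lab hft, nsmul_eq_mul] at h
    exact h
  have hc : ∀ j, j ≤ t → (δ = 1 → j ≤ f) → binC p f δ j ≠ 0 := fun j => binC_ne_zero hft hδ
  rcases hs with rfl | rfl
  · -- `t` divides `f`
    have hj : δ * ((0 : ℕ) : ℤ) = (f : ℤ) + t * (-z₁) := by
      push_cast; linear_combination -htz
    obtain ⟨-, h⟩ := small_total hft hδ hrow1 hj (Or.inl (by omega))
    omega
  · -- `t` divides `f - 2`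
    rcases hδ with rfl | rfl
    · have hj : (1 : ℤ) * ((2 : ℕ) : ℤ) = (f : ℤ) + t * (-z₁) := by
        push_cast; linear_combination -htz
      rcases Nat.lt_or_ge 4 t with h4 | h4
      · obtain ⟨-, h⟩ := small_total hft (Or.inl rfl) hrow1 hj (Or.inl (by omega))
        omega
      -- the root at `1`
      have hall : ∀ A ∈ lab (p := p) t,
          (gPol f 1 3).eval A = if 3 = t then ((1 : ℤ) : ZMod p) * ((-z₁ : ℤ) : ZMod p) else 0 := by
        intro A hA
        rcases eq_or_ne A 1 with rfl | hA1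
        · obtain ⟨k, z, hk, hs', rfl⟩ := total_eq hft (Or.inl rfl) (one_mem_lab hft)
            (hrow 1 (one_mem_lab hft)) (r := 1) (j := -z₁) (by omega) (by
              rw [if_pos rfl]; push_cast; linear_combination -htz)
          exact gPol_eval hft (Or.inl rfl) (one_mem_lab hft) hk (by omega) (by omega)
        · exact gPol_root hft (Or.inl rfl) hrow1 hj (by omega) (by omega) A hA hA1
      obtain ⟨hd, htop, hlow⟩ := gPol_facts (p := p) (f := f) 1 3
      have h3 := hc 3 (by omega) (fun _ => by omega)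
      rcases Nat.lt_or_ge 3 t with h | h
      · simp only [show 3 ≠ t by omega, if_false] at hall
        have h0 : gPol (p := p) f 1 3 = 0 :=
          Polynomial.eq_zero_of_natDegree_lt_card_of_eval_eq_zero' _ (lab (p := p) t) hall
            (by rw [card_lab hft]; omega)
        rw [h0, Polynomial.coeff_zero] at hlow
        exact h3 hlow.symm
      · have ht3 : t = 3 := by omega
        have hp13 : 13 ≤ p := by
          rw [ht3] at hft; omega
        subst ht3
        simp only [if_true] at hall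
        have hcst := poly_lab_const hft hd hall
        rw [hlow, htop, heven.neg_one_pow, one_pow, one_mul] at hcst
        have e1 := binC_succ hft 1 0 (by omega)
        have e2 := binC_succ hft 1 1 (by omega)
        have e3 := binC_succ hft 1 2 (by omega)
        rw [show binC p f 1 0 = 1 by simp [binC, ser_zero]] at e1
        simp only [Int.cast_one, Int.cast_neg, one_mul] at e1 e2 e3 hcst
        push_cast at e1 e2 e3
        have hft3 : (f : ZMod p) * 3 = -1 := by
          exact_mod_cast cast_f_mul_t hft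
        have hz : (f : ZMod p) - 2 = 3 * (z₁ : ZMod p) := by
          have : ((f : ℤ) - 1 + -1 : ℤ) = 3 * z₁ := by rw [htz]; norm_num
          have := congrArg (fun x : ℤ => (x : ZMod p)) this
          push_cast at this
          linear_combination this
        have e12 : 2 * binC p f 1 2 = -((1 - (f : ZMod p)) * f) := by
          linear_combination e2 + (1 - (f : ZMod p)) * e1
        have e123 : 6 * binC p f 1 3 = -((2 - (f : ZMod p)) * (1 - f) * f) := by
          linear_combination 2 * e3 + (2 - (f : ZMod p)) * e12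
        have key : ((f : ZMod p) - 2) * ((f : ZMod p) * f - f - 1) = 0 := by
          linear_combination e123 - 3 * hcst - hz
        rcases mul_eq_zero.1 key with h5 | h5
        · have : ((f : ℕ) : ZMod p) = ((2 : ℕ) : ZMod p) := by push_cast; linear_combination h5
          rw [ZMod.natCast_eq_natCast_iff', Nat.mod_eq_of_lt (f_lt hft),
            Nat.mod_eq_of_lt hp2] at this
          omega
        · have : ((5 : ℕ) : ZMod p) = 0 := by
            push_cast
            linear_combination (-9) * h5 + (3 * (f : ZMod p) - 4) * hft3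
          rw [ZMod.natCast_eq_zero_iff] at this
          have := Nat.le_of_dvd (by norm_num) this
          omega
    · -- sign `-1`
      have hj : (-1 : ℤ) * ((t - 2 : ℕ) : ℤ) = (f : ℤ) + t * (-z₁ - 1) := by
        rw [Nat.cast_sub (by omega : 2 ≤ t)]; push_cast; linear_combination -htz
      set g0 : ZMod p := 2 ^ f with hg0
      have hpow : ∀ i, 0 < i → i < t → (ePol f i).eval (1 : ZMod p) = g0 ^ i := by
        intro i hi0 hit
        rw [ePol_eval hft (one_mem_lab hft) hi0.ne']
        have hft' : t * f + 1 = p := by rw [mul_comm]; exact hft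
        have h2 := sum_fib_pow hft' (one_mem_lab hft') i
        rw [show fib t (1 : ZMod p) = lab t from rfl,
          if_neg (fun h => absurd (Nat.le_of_dvd hi0 h) (by omega))] at h2
        rw [Finset.sum_congr rfl (g := fun C => (z₁ : ZMod p) * C ^ i +
            (if C = g0 then C ^ i else 0)) fun C hC => by
          have h := congrArg (fun x : ℤ => (x : ZMod p)) (hz₁ C hC)
          push_cast at h
          split_ifs at h ⊢ with he <;> linear_combination C ^ i * h,
          Finset.sum_add_distrib, ← Finset.mul_sum, h2, mul_zero, zero_add, Finset.sum_ite_eq',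
          if_pos h2f]
      have hg1 : ∀ j, j < t → (gPol f (-1) j).eval (1 : ZMod p) = g0 ^ j := by
        intro j
        induction j using Nat.strongRecOn with
        | ind j ih =>
          intro hjt
          rcases j with _ | j
          · simp [gPol, ser_zero]
          rw [gPol, ser_succ, ← gPol, Polynomial.eval_mul, Polynomial.eval_neg, Polynomial.eval_C,
            Polynomial.eval_finsetSum, Finset.sum_congr rfl (g := fun _ => -(g0 ^ (j + 1)))
              fun i hi => by
                have := Finset.mem_range.1 hi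
                rw [Polynomial.eval_mul, Polynomial.eval_mul, Polynomial.eval_C,
                  hpow (i + 1) (Nat.succ_pos i) (by omega), ih (j - i) (by omega) (by omega),
                  Int.cast_neg, Int.cast_one, neg_one_mul, neg_mul, ← pow_add,
                  show i + 1 + (j - i) = j + 1 by omega],
            Finset.sum_const, Finset.card_range, nsmul_eq_mul, neg_mul, mul_neg, mul_neg, neg_neg,
            ← mul_assoc, cast_inv_mul (Nat.succ_pos j) (by have := t_lt hft; omega), one_mul]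
      have hg0f : g0 = 2 * (f : ZMod p) := by
        have h := (hpow 1 one_pos (by omega)).symm
        rw [pow_one] at h
        rw [h, ePol, Polynomial.eval_finsetSum]
        simp [Finset.sum_range_succ, heven.neg_one_pow]
        ring
      have hroot := gPol_root hft (Or.inr rfl) hrow1 hj (K := t - 1) (by omega) (by omega)
      simp only [show t - 1 ≠ t by omega, if_false] at hroot
      obtain ⟨hd, htop, -⟩ := gPol_facts (p := p) (f := f) (-1) (t - 1)
      obtain ⟨-, hev⟩ := poly_lab_geom hft (by omega) (by omega) hroot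
      rw [hg1 (t - 1) (by omega), htop, heven.neg_one_pow, one_pow, one_mul] at hev
      set b := binC p f (-1) (t - 1) with hb
      have hgt : g0 ^ (t - 1) * g0 = 1 := by
        rw [← pow_succ, show t - 1 + 1 = t by omega]; exact mem_lab.1 h2f
      rw [hev, hg0f] at hgt
      have hftm := cast_f_mul_t hft
      have hbhalf : 2 * b = -1 := by linear_combination (-1 : ZMod p) * hgt + 2 * b * hftm
      have hroott : ∀ A ∈ lab (p := p) t,
          (gPol f (-1) t).eval A = ((-1 : ℤ) : ZMod p) * ((-z₁ - 1 : ℤ) : ZMod p) := by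
        intro A hA
        rcases eq_or_ne A 1 with rfl | hA1
        · obtain ⟨k, z, hk, hs', rfl⟩ := total_eq hft (Or.inr rfl) (one_mem_lab hft)
            (hrow 1 (one_mem_lab hft)) (r := t - 1) (j := -z₁ - 1) (by omega) (by
              rw [if_pos rfl, Nat.cast_sub (by omega : 1 ≤ t)]; push_cast
              linear_combination -htz)
          have := gPol_eval hft (Or.inr rfl) (one_mem_lab hft) hk (K := t) (by omega) le_rfl
          rwa [if_pos rfl] at this
        · have := gPol_root hft (Or.inr rfl) hrow1 hj (K := t) (by omega) le_rfl A hA hA1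
          rwa [if_pos rfl] at this
      obtain ⟨hdt, htopt, hlowt⟩ := gPol_facts (p := p) (f := f) (-1) t
      have hcst := poly_lab_const hft (by omega) hroott
      rw [htopt, hlowt, heven.neg_one_pow, one_pow, one_mul] at hcst
      have e := binC_succ hft (-1) (t - 1) (by have := t_lt hft; omega)
      rw [show t - 1 + 1 = t by omega, ← hb, Nat.cast_sub (by omega : 1 ≤ t)] at e
      have hz : (f : ZMod p) - 2 = (t : ZMod p) * (z₁ : ZMod p) := by
        have := congrArg (fun x : ℤ => (x : ZMod p)) htz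
        push_cast at this
        linear_combination this
      push_cast at e hcst
      have key : ((2 * f + 2 * t - 3 : ℕ) : ZMod p) = 0 := by
        rw [Nat.cast_sub (by omega : 3 ≤ 2 * f + 2 * t)]
        push_cast
        linear_combination (-(t : ZMod p)) * hcst + 2 * e + ((t : ZMod p) - 1 + f) * hbhalf + hz
      rw [ZMod.natCast_eq_zero_iff] at key
      have h1 := Nat.le_of_dvd (by omega) key
      obtain ⟨f', rfl⟩ : ∃ f', f = f' + 2 := ⟨f - 2, by omega⟩
      obtain ⟨t', rfl⟩ : ∃ t', t = t' + 2 := ⟨t - 2, by omega⟩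
      rw [show (f' + 2) * (t' + 2) + 1 = f' * t' + (2 * f' + 2 * t' + 5) by ring] at hft
      have := Nat.mul_pos (show 0 < f' by omega) (show 0 < t' by omega)
      omega

end H15.Degree
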