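import Cfsg.Agent.H15.Degree.Weights
import Cfsg.Agent.H15.Degree.Rows

/-!
Degrees below `p - 1` (helper15): the block of the small character, and rows of cyclotomic
numbers from its products with the other exceptional characters.
-/

set_option autoImplicit false
set_option linter.style.haveILetI false
set_option linter.unusedSectionVars false

open Cfsg
open scoped ComplexConjugate

namespace H15.Degree

open H85.D1 H15.HalfDeg

universe u

variable {G : Type u} [Group G] [Fintype G] {p : ℕ} [hp : Fact p.Prime]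
  {P : Sylow p G} {u a : G} {H : Subgroup G} [Fintype H] [Fintype (P : Subgroup G)]
  {D : Setting P u a H} [Fintype (D.aut (H12.oneIrr H))] {f n t : ℕ}
  {χ : IrrCharacter G} {θ : IrrCharacter H} {ψ : (P : Subgroup G) →* ℂˣ}
  (h : Neg D f n χ θ ψ) (hft : f * t + 1 = p) (ht : 3 ≤ t)

include h hft ht

theorem two_f_lt : 2 * f + 1 < p := by
  have := Nat.mul_le_mul_left f ht
  have := h.two_le
  omega

theorem mul_t_bounds : n + f = f * t + 1 ∧ f * 3 ≤ f * t ∧ 2 ≤ f :=
  ⟨by rw [hft]; exact h.add_eq, Nat.mul_le_mul_left f ht, h.two_le⟩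

/-- Characters of degree `n` are exceptional, with sign `-1`. -/
theorem Fam.eq_Y_of_degree {φ : IrrCharacter H} (Φ : Fam D f t ψ φ) {i : IrrCharacter G}
    (hi : i ∈ D.supp φ) (hdeg : H12.degree (i : G → ℂ) = n) :
    Φ.δ = -1 ∧ ∃ A ∈ lab (p := p) t, Φ.Y A = i := by
  obtain ⟨hn, h3, hf2⟩ := mul_t_bounds h hft ht
  rcases (Φ.mem_supp i).1 hi with hX | ⟨A, hA, hAi⟩
  · exfalso
    obtain ⟨s, -, hs⟩ := Fam.degree_X h hft Φ hX
    rw [hdeg] at hs
    rcases Φ.εX_eq i hX with he | he <;> rw [he] at hs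
    · have h1 : (p : ℤ) ∣ (n : ℤ) - 1 := ⟨(s : ℤ) - 1, by linear_combination hs⟩
      have := Int.eq_zero_of_abs_lt_dvd h1 (abs_lt.2 ⟨by omega, by omega⟩)
      omega
    · have h1 : (p : ℤ) ∣ (n : ℤ) + 1 := ⟨(s : ℤ) + 1, by linear_combination hs⟩
      have := Int.eq_zero_of_abs_lt_dvd h1 (abs_lt.2 ⟨by omega, by omega⟩)
      omega
  · refine ⟨?_, A, hA, hAi⟩
    obtain ⟨s, -, hs⟩ := Fam.degree_Y h hft Φ hA
    rw [hAi, hdeg] at hs
    rcases Φ.δ_eq with hδ | hδ
    · rw [hδ] at hs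
      have h1 : (p : ℤ) ∣ (n : ℤ) - f := ⟨s, by linear_combination hs⟩
      have := Int.eq_zero_of_abs_lt_dvd h1 (abs_lt.2 ⟨by omega, by omega⟩)
      omega
    · exact hδ

/-- The trivial character is not exceptional. -/
theorem Fam.one_ne_Y (Φ : Fam D f t ψ (H12.oneIrr H)) {A : ZMod p} (hA : A ∈ lab t) :
    Φ.Y A ≠ H12.oneIrr G := fun he => by
  obtain ⟨hn, h3, hf2⟩ := mul_t_bounds h hft ht
  obtain ⟨s, -, hs⟩ := Fam.degree_Y h hft Φ hA
  have hd : H12.degree (H12.oneIrr G : G → ℂ) = 1 := by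
    have h1 := H12.irr_apply_one (H12.oneIrr G)
    rw [H12.oneIrr_apply] at h1
    exact_mod_cast h1.symm
  rw [he, hd] at hs
  rcases Φ.δ_eq with hδ | hδ <;> rw [hδ] at hs
  · have h0 : (0 : ℤ) ≤ (p : ℤ) * s := by positivity
    push_cast at hs
    omega
  · push_cast at hs
    rcases Nat.eq_zero_or_pos s with rfl | h1
    · rw [Nat.cast_zero, mul_zero] at hs; omega
    · have : (p : ℤ) * 1 ≤ p * s := mul_le_mul_of_nonneg_left (by exact_mod_cast h1) (by omega)
      omega

variable {M : Ideal AlgInt} [M.IsPrime] (hM : IsPModular p M)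
include hM

/-- The block of `χ`. -/
theorem exists_theta : ∃ Θ : Fam D f t ψ θ, Θ.δ = -1 ∧ Θ.Y 1 = χ := by
  classical
  obtain ⟨Θ⟩ := h.exists_fam hft hM θ
  obtain ⟨hδ, A, hA, hAχ⟩ := Fam.eq_Y_of_degree h hft ht Θ h.mem_supp h.degree_eq
  refine ⟨Θ, hδ, ?_⟩
  have hA1 : A = 1 := per_injOn D.hP h.psi_ne hft hA (one_mem_lab hft) (-1) (by norm_num)
    fun x hx => by
      have h1 := Fam.valY' h hft Θ hA x hx
      rw [hAχ, h.val_per hft x hx, hδ] at h1
      push_cast at h1
      linear_combination -h1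
  rw [← hA1]
  exact hAχ

omit ht

/-- Values of products with `χ` on the translates of `P`. -/
theorem central_val {i : IrrCharacter G} {φ : IrrCharacter H} (hi : i ∈ D.supp φ)
    (g : G) (k : H) : (χ : G → ℂ) (g * k) * (i : G → ℂ) (g * k) =
      (χ : G → ℂ) g * (i : G → ℂ) g * ((θ : H → ℂ) k * (φ : H → ℂ) k) := by
  rw [central_mul D h.central_le hM h.mem_supp, central_mul D h.central_le hM hi]
  ring

omit hM in
theorem theta_mul_conj (k : H) : (θ : H → ℂ) k * conj ((θ : H → ℂ) k) = 1 := by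
  rw [Complex.mul_conj, Complex.normSq_eq_norm_sq, norm_lin D h.central_le θ k, one_pow,
    Complex.ofReal_one]

omit hM in
/-- The square of the label. -/
theorem exists_sq_irr : ∃ φ : IrrCharacter H, ∀ k : H, (φ : H → ℂ) k = (θ : H → ℂ) k ^ 2 := by
  obtain ⟨lH, hlH⟩ := H12.exists_monoidHom_of_apply_one_eq_one (H12.isCharacter_irr θ)
    (lin_one D h.central_le θ)
  refine ⟨⟨fun k => ((lH * lH) k : ℂ), H12.isIrrCharacter_monoidHom _⟩, fun k => ?_⟩
  show ((lH * lH) k : ℂ) = _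
  rw [MonoidHom.mul_apply, Units.val_mul, pow_two, ← congrFun hlH k]

include ht

/-- The rows of the principal block. -/
theorem rows_one : ∃ δ : ℤ, (δ = 1 ∨ δ = -1) ∧ ∀ A ∈ lab (p := p) t, Row f t δ A := by
  classical
  haveI : Fintype ↥(Subgroup.normalizer ((P : Subgroup G) : Set G)) := Fintype.ofFinite _
  obtain ⟨Θ, hΘδ, hΘ1⟩ := exists_theta h hft ht hM
  obtain ⟨Φ⟩ := h.exists_fam hft hM (H12.oneIrr H)
  obtain ⟨μ, hμC, hμY⟩ := Fam.exists_common h hft Φ (two_f_lt h hft ht) 1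
    (fun x k => by rw [MonoidHom.one_apply, Units.val_one]; rfl)
  obtain ⟨l, hl, -⟩ := h.exists_lam hft hM
  obtain ⟨hn, h3, hf2⟩ := mul_t_bounds h hft ht
  refine ⟨Φ.δ, Φ.δ_eq, fun A hA => ?_⟩
  set F : G → ℂ := fun g => (χ : G → ℂ) g * conj ((Θ.Y A : G → ℂ) g) with hFdef
  have hsupp : Θ.Y A ∈ D.supp θ := (Θ.mem_supp _).2 (Or.inr ⟨A, hA, rfl⟩)
  have hFch : IsCharacter G F :=
    H12.IsCharacter.mul (H12.isCharacter_irr χ) (H12.IsCharacter.star (H12.isCharacter_irr _))
  have hFk : ∀ (g : G) (k : H), F (g * k) = F g := fun g k => by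
    simp only [hFdef]
    rw [central_mul D h.central_le hM h.mem_supp, central_mul D h.central_le hM hsupp, map_mul]
    linear_combination (χ : G → ℂ) g * conj ((Θ.Y A : G → ℂ) g) * theta_mul_conj h hft k
  have hFx : ∀ x : (P : Subgroup G), x ≠ 1 →
      F x = per ψ f (1 : ZMod p) x * conj (per ψ f A x) := fun x hx => by
    simp only [hFdef]
    rw [h.val_per hft x hx, Fam.valY' h hft Θ hA x hx, hΘδ, map_mul, map_intCast]
    push_cast
    ring
  obtain ⟨k, z, hk, hkz⟩ := Fam.exists_mult h hft Φ hFch (if A = 1 then (f : ℂ) else 0)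
    (fun C => (cyc f A C : ℤ)) fun x hx k => by
      rw [hFk, hFx x hx, per_one_mul_conj D.hP h.psi_ne hft A hA]
      simp [H12.oneIrr_apply]
  refine ⟨k, z, hkz, ?_⟩
  have hYdeg : H12.degree (Θ.Y A : G → ℂ) = n := by
    rw [Fam.degree_Y_eq h hft Θ hA, hΘ1, h.degree_eq]
  -- the weight
  have hout : ∀ g ∈ Finset.univ.filter (fun g : ↥(Subgroup.normalizer ((P : Subgroup G) : Set G)) =>
      (g : G) ∉ Subgroup.centralizer ((P : Subgroup G) : Set G)), F g * conj (μ g : ℂ) =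
        ((1 : ↥(Subgroup.normalizer ((P : Subgroup G) : Set G)) →* ℂˣ) g : ℂ) * conj (μ g : ℂ) := by
    intro g hg
    have hgC := (Finset.mem_filter.1 hg).2
    simp only [hFdef]
    rw [Θ.regY A hA g (regular_of_notMem D g hgC), hΘ1, hl g hgC, MonoidHom.one_apply,
      Units.val_one, Complex.mul_conj, Complex.normSq_eq_norm_sq,
      Complex.norm_eq_one_of_pow_eq_one (by rw [← Units.val_pow_eq_pow_val, ← map_pow,
        pow_card_eq_one', map_one, Units.val_one])
      (Nat.card_pos (α := ↥(Subgroup.normalizer ((P : Subgroup G) : Set G)))).ne',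
      one_pow, Complex.ofReal_one]
  have hw := wt_formula D h.card_aut F μ fun x k => by
    rw [hFk, hμC _ (mem_CP_mul D x k), MonoidHom.one_apply, Units.val_one, map_one, mul_one]
  rw [Finset.sum_congr rfl hout, sum_outside D h.card_aut 1 μ fun g hg => (hμC g hg).symm,
    ← Finset.add_sum_erase _ _ (Finset.mem_univ (1 : (P : Subgroup G))),
    Finset.sum_congr rfl fun x hx => hFx x (Finset.ne_of_mem_erase hx),
    sum_erase_per_mul_conj D.hP h.psi_ne hft 1 A (one_mem_lab hft) hA] at hw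
  have hF1 : F ((1 : (P : Subgroup G)) : G) = (n : ℂ) * n := by
    simp only [hFdef, OneMemClass.coe_one, H12.irr_apply_one, h.degree_eq, hYdeg, map_natCast]
  rw [hF1] at hw
  obtain ⟨W, hW⟩ := wt_nat (P := P) hFch μ
  rw [hW] at hw
  have hnC : (n : ℂ) = (f : ℂ) * t + 1 - f := by
    rw [eq_sub_iff_add_eq]; exact_mod_cast hn
  have hpC : (p : ℂ) = (f : ℂ) * t + 1 := by exact_mod_cast hft.symm
  have hH0 : (Nat.card H : ℂ) ≠ 0 := Nat.cast_ne_zero.2 Nat.card_pos.ne'
  have hf0 : (f : ℂ) ≠ 0 := Nat.cast_ne_zero.2 (by omega)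
  have hp0 : (p : ℂ) ≠ 0 := Nat.cast_ne_zero.2 hp.out.ne_zero
  have hWeq : W + 2 = t + (if (1 : ZMod p) = A then 1 else 0) +
      (if (1 : ↥(Subgroup.normalizer ((P : Subgroup G) : Set G)) →* ℂˣ) = μ then 1 else 0) := by
    have e : ((W + 2 : ℕ) : ℂ) = ((t + (if (1 : ZMod p) = A then 1 else 0) +
        (if (1 : ↥(Subgroup.normalizer ((P : Subgroup G) : Set G)) →* ℂˣ) = μ then 1 else 0) : ℕ) : ℂ) := by
      push_cast at hw ⊢
      rw [hnC, hpC] at hw
      refine mul_left_cancel₀ (mul_ne_zero (mul_ne_zero hf0 (hpC ▸ hp0)) hH0) ?_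
      split_ifs at hw ⊢ <;> linear_combination hw
    exact_mod_cast e
  -- the constituents
  set T := (lab (p := p) t).image Φ.Y with hT
  choose k' hk' using fun i : IrrCharacter G =>
    H12.IsCharacter.classInner_nat hFch (H12.isCharacter_irr i)
  have hkk : ∀ B, k' (Φ.Y B) = k B := fun B => by
    have := (hk' (Φ.Y B)).symm.trans (hk B)
    exact_mod_cast this
  have hTY : ∀ i ∈ T, ∃ w : ℕ, 1 ≤ w ∧ wt (P := P) (i : G → ℂ) μ = (w : ℂ) := fun i hi => by
    obtain ⟨B, hB, rfl⟩ := Finset.mem_image.1 hi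
    exact hμY B hB
  have hsum : ∑ i ∈ T, k' i = ∑ C ∈ lab (p := p) t, k C := by
    rw [hT, Finset.sum_image (fun B hB C hC e => Φ.injY B hB C hC e)]
    exact Finset.sum_congr rfl fun B _ => hkk B
  by_cases hA1 : A = 1
  · subst hA1
    by_cases hμ1 : (1 : ↥(Subgroup.normalizer ((P : Subgroup G) : Set G)) →* ℂˣ) = μ
    · rw [if_pos rfl, if_pos hμ1] at hWeq
      have hone : H12.oneIrr G ∉ T := fun hm => by
        obtain ⟨B, hB, he⟩ := Finset.mem_image.1 hm
        exact Fam.one_ne_Y h hft ht Φ hB he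
      have hk1 : k' (H12.oneIrr G) = 1 := by
        have h1 := hk' (H12.oneIrr G)
        have h2 : classInner F (H12.oneIrr G : G → ℂ) = 1 := by
          rw [← H12.classInner_irr_self χ]
          simp only [H12.classInner_def, hFdef, hΘ1, H12.oneIrr_apply, map_one, mul_one]
        rw [h2] at h1
        exact_mod_cast h1.symm
      have hle := wt_le hFch μ (insert (H12.oneIrr G) T) k' (fun i _ => hk' i) (fun i hi => by
        rcases Finset.mem_insert.1 hi with rfl | hi
        · refine ⟨1, le_rfl, ?_⟩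
          rw [← hμ1, wt, Nat.cast_one]
          exact H12.classInner_irr_self (H12.oneIrr _)
        · exact hTY i hi) hW
      rw [Finset.sum_insert hone, hsum, hk1] at hle
      omega
    · rw [if_pos rfl, if_neg hμ1] at hWeq
      have hle := wt_le hFch μ T k' (fun i _ => hk' i) hTY hW
      rw [hsum] at hle
      omega
  · rw [if_neg (Ne.symm hA1)] at hWeq
    have hle := wt_le hFch μ T k' (fun i _ => hk' i) hTY hW
    rw [hsum] at hle
    split_ifs at hWeq <;> omega

/-- The rows of the block of the square. -/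
theorem rows_sq {φ : IrrCharacter H} (hφ : ∀ k : H, (φ : H → ℂ) k = (θ : H → ℂ) k ^ 2)
    (Φ : Fam D f t ψ φ) : ∀ A ∈ lab (p := p) t, A ≠ 1 → Row f t Φ.δ A := by
  classical
  haveI : Fintype ↥(Subgroup.normalizer ((P : Subgroup G) : Set G)) := Fintype.ofFinite _
  obtain ⟨Θ, hΘδ, hΘ1⟩ := exists_theta h hft ht hM
  obtain ⟨l, hl, hlC⟩ := h.exists_lam hft hM
  obtain ⟨μ, hμC, hμY⟩ := Fam.exists_common h hft Φ (two_f_lt h hft ht) (l * l)
    (fun x k => by rw [MonoidHom.mul_apply, Units.val_mul, hlC, hφ, pow_two])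
  obtain ⟨hn, h3, hf2⟩ := mul_t_bounds h hft ht
  intro A hA hA1
  set B : ZMod p := (-1) ^ f * A with hBdef
  have hB : B ∈ lab t := mul_mem_lab hft (sgn_mem_lab hft) hA
  have hσB : (-1) ^ f * B = A := by
    rw [hBdef, ← mul_assoc, ← mul_pow]; norm_num
  set F : G → ℂ := fun g => (χ : G → ℂ) g * (Θ.Y B : G → ℂ) g with hFdef
  have hsupp : Θ.Y B ∈ D.supp θ := (Θ.mem_supp _).2 (Or.inr ⟨B, hB, rfl⟩)
  have hFch : IsCharacter G F :=
    H12.IsCharacter.mul (H12.isCharacter_irr χ) (H12.isCharacter_irr _)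
  have hFk : ∀ (g : G) (k : H), F (g * k) = F g * (φ : H → ℂ) k := fun g k => by
    simp only [hFdef]
    rw [central_val h hft hM hsupp g k, hφ, pow_two]
  have hFx : ∀ x : (P : Subgroup G), x ≠ 1 →
      F x = per ψ f (1 : ZMod p) x * per ψ f B x := fun x hx => by
    simp only [hFdef]
    rw [h.val_per hft x hx, Fam.valY' h hft Θ hB x hx, hΘδ]
    push_cast
    ring
  obtain ⟨k, z, hk, hkz⟩ := Fam.exists_mult h hft Φ hFch 0
    (fun C => (cyc f A C : ℤ)) fun x hx k => by
      rw [hFk, hFx x hx, per_one_mul D.hP h.psi_ne hft B hB, hσB, if_neg hA1]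
      push_cast
      ring
  refine ⟨k, z, hkz, ?_⟩
  have hYdeg : H12.degree (Θ.Y B : G → ℂ) = n := by
    rw [Fam.degree_Y_eq h hft Θ hB, hΘ1, h.degree_eq]
  have hout : ∀ g ∈ Finset.univ.filter (fun g : ↥(Subgroup.normalizer ((P : Subgroup G) : Set G)) =>
      (g : G) ∉ Subgroup.centralizer ((P : Subgroup G) : Set G)), F g * conj (μ g : ℂ) =
        ((l * l) g : ℂ) * conj (μ g : ℂ) := by
    intro g hg
    have hgC := (Finset.mem_filter.1 hg).2
    simp only [hFdef]
    rw [Θ.regY B hB g (regular_of_notMem D g hgC), hΘ1, hl g hgC, MonoidHom.mul_apply,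
      Units.val_mul]
  have hw := wt_formula D h.card_aut F μ fun x k => by
    rw [hFk, hμC _ (mem_CP_mul D x k), MonoidHom.mul_apply, Units.val_mul, hlC, hφ, map_mul]
    linear_combination F x * ((θ : H → ℂ) k * conj ((θ : H → ℂ) k) + 1) * theta_mul_conj h hft k
  have hconjB : ∀ x : (P : Subgroup G), per ψ f B x = conj (per ψ f A x) := fun x => by
    rw [hBdef, conj_per D.hP hft]
  rw [Finset.sum_congr rfl hout, sum_outside D h.card_aut (l * l) μ fun g hg => (hμC g hg).symm,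
    ← Finset.add_sum_erase _ _ (Finset.mem_univ (1 : (P : Subgroup G))),
    Finset.sum_congr rfl (g := fun x => per ψ f (1 : ZMod p) x * conj (per ψ f A x)) fun x hx => by
      rw [hFx x (Finset.ne_of_mem_erase hx), hconjB],
    sum_erase_per_mul_conj D.hP h.psi_ne hft 1 A (one_mem_lab hft) hA, if_neg (Ne.symm hA1)] at hw
  have hF1 : F ((1 : (P : Subgroup G)) : G) = (n : ℂ) * n := by
    simp only [hFdef, OneMemClass.coe_one, H12.irr_apply_one, h.degree_eq, hYdeg]
  rw [hF1] at hw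
  obtain ⟨W, hW⟩ := wt_nat (P := P) hFch μ
  rw [hW] at hw
  have hnC : (n : ℂ) = (f : ℂ) * t + 1 - f := by
    rw [eq_sub_iff_add_eq]; exact_mod_cast hn
  have hpC : (p : ℂ) = (f : ℂ) * t + 1 := by exact_mod_cast hft.symm
  have hH0 : (Nat.card H : ℂ) ≠ 0 := Nat.cast_ne_zero.2 Nat.card_pos.ne'
  have hf0 : (f : ℂ) ≠ 0 := Nat.cast_ne_zero.2 (by omega)
  have hp0 : (p : ℂ) ≠ 0 := Nat.cast_ne_zero.2 hp.out.ne_zero
  have hWeq : W + 2 = t + (if l * l = μ then 1 else 0) := by
    have e : ((W + 2 : ℕ) : ℂ) = ((t + (if l * l = μ then 1 else 0) : ℕ) : ℂ) := by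
      push_cast at hw ⊢
      rw [hnC, hpC] at hw
      refine mul_left_cancel₀ (mul_ne_zero (mul_ne_zero hf0 (hpC ▸ hp0)) hH0) ?_
      split_ifs at hw ⊢ <;> linear_combination hw
    exact_mod_cast e
  choose k' hk' using fun i : IrrCharacter G =>
    H12.IsCharacter.classInner_nat hFch (H12.isCharacter_irr i)
  have hle := wt_le hFch μ ((lab (p := p) t).image Φ.Y) k' (fun i _ => hk' i) (fun i hi => by
    obtain ⟨C, hC, rfl⟩ := Finset.mem_image.1 hi
    exact hμY C hC) hW
  rw [Finset.sum_image (fun B hB C hC e => Φ.injY B hB C hC e),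
    Finset.sum_congr rfl (g := fun C => k C) fun C _ => by
      have := (hk' (Φ.Y C)).symm.trans (hk C)
      exact_mod_cast this] at hle
  split_ifs at hWeq <;> omega

end H15.Degree
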