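import Cfsg.Agent.H15.Degree.BigColY
import Cfsg.Agent.H15.PSubTwo.Reduce
import Cfsg.Agent.H15.HalfDeg.Frame

/-!
Degrees below `p - 1` (helper15): the reduction. A faithful irreducible character of degree
`n < p - 1` is exceptional; with sign `-1` one has `n + f = p` for the inertial index `f`, with
sign `1` and a perfect group `2 n + 1 = p`.
-/

set_option autoImplicit false
set_option linter.style.haveILetI false
set_option linter.unusedSectionVars false

open Cfsg
open scoped ComplexConjugate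

namespace H15.Degree

open H85.D1 H15.HalfDeg

universe u

variable {G : Type u} [Group G] [Fintype G] {p : ℕ} [hp : Fact p.Prime]
  {P : Sylow p G} {u a : G} {H : Subgroup G} [Fintype H]

/-- A faithful irreducible character of degree `n = p - f` after the reduction. -/
structure Neg (D : Setting P u a H) [Fintype (D.aut (H12.oneIrr H))] (f n : ℕ)
    (χ : IrrCharacter G) (θ : IrrCharacter H) (ψ : (P : Subgroup G) →* ℂˣ) : Prop where
  two_le : 2 ≤ f
  le_half : 2 * f + 1 ≤ p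
  dvd : f ∣ p - 1
  add_eq : n + f = p
  center_eq : H = Subgroup.center G
  perfect : ∀ l : G →* ℂˣ, l = 1
  not_normal : ¬ (P : Subgroup G).Normal
  card_aut : Nat.card (D.aut (H12.oneIrr H)) = f
  mem_supp : χ ∈ D.supp θ
  degree_eq : H12.degree (χ : G → ℂ) = n
  faithful : ∀ g : G, (χ : G → ℂ) g = (χ : G → ℂ) 1 → g = 1
  psi_ne : ψ ≠ 1
  val : ∀ x : (P : Subgroup G), x ≠ 1 → (χ : G → ℂ) x =
    -∑ α : D.aut (H12.oneIrr H), (ψ ((α : MulAut (P : Subgroup G)) x) : ℂ)

variable (D : Setting P u a H)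

theorem aut_facts [Fintype (D.aut (H12.oneIrr H))] {M : Ideal AlgInt} [M.IsPrime]
    (hM : IsPModular p M) (hf : Nat.card (D.aut (H12.oneIrr H)) + 1 ≠ p) :
    2 * Nat.card (D.aut (H12.oneIrr H)) + 1 ≤ p ∧ Nat.card (D.aut (H12.oneIrr H)) ∣ p - 1 := by
  classical
  haveI : Fintype (P : Subgroup G) := Fintype.ofFinite _
  obtain ⟨S₀⟩ := D.exists_shape hM (H12.oneIrr H)
  have h := S₀.card_Y
  set f := Nat.card (D.aut (H12.oneIrr H))
  have hp' := hp.out.two_le
  refine ⟨?_, ⟨Nat.card S₀.Y, by rw [mul_comm]; omega⟩⟩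
  rcases Nat.lt_or_ge (Nat.card S₀.Y) 2 with h2 | h2
  · interval_cases h3 : Nat.card S₀.Y
    · omega
    · omega
  · have := Nat.mul_le_mul_right f h2
    omega

/-- The column of a small faithful character. -/
theorem exists_colY [Fintype (D.aut (H12.oneIrr H))] {M : Ideal AlgInt} [M.IsPrime]
    (hM : IsPModular p M) (hnn : ¬ (P : Subgroup G).Normal) (χ : IrrCharacter G)
    (hn : H12.degree (χ : G → ℂ) + 2 ≤ p)
    (hfaith : ∀ g : G, (χ : G → ℂ) g = (χ : G → ℂ) 1 → g = 1) :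
    2 ≤ Nat.card (D.aut (H12.oneIrr H)) ∧ 2 * Nat.card (D.aut (H12.oneIrr H)) + 1 ≤ p ∧
    Nat.card (D.aut (H12.oneIrr H)) ∣ p - 1 ∧
    ∃ θ, χ ∈ D.supp θ ∧ ∀ [Fintype (P : Subgroup G)] [Fintype (D.aut θ)]
      (S : Shape p (D.aut θ) (fun (χ : IrrCharacter G) (x : (P : Subgroup G)) => D.col θ χ x)
        (fun (χ : IrrCharacter G) (g : {g : G // ¬ p ∣ orderOf g}) => (χ : G → ℂ) g)),
      χ ∈ S.Y ∧
      (S.ε = 1 → H12.degree (χ : G → ℂ) =
        Nat.card (D.aut (H12.oneIrr H)) * H12.degree (θ : H → ℂ)) ∧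
      (S.ε = -1 → H12.degree (χ : G → ℂ) + Nat.card (D.aut (H12.oneIrr H)) = p ∧
        H12.degree (θ : H → ℂ) = 1) := by
  classical
  haveI : Fintype (P : Subgroup G) := Fintype.ofFinite _
  obtain ⟨x₀, hx₀, hne⟩ : ∃ x ∈ (P : Subgroup G),
      ‖(χ : G → ℂ) x‖ ≠ (H12.degree (χ : G → ℂ) : ℝ) := by
    by_contra! hall
    refine hnn ⟨fun x hx g => ?_⟩
    rw [Subgroup.mem_center_iff.1 (mem_center_of_norm χ hfaith (hall x hx)) g, mul_inv_cancel_right]
    exact hx
  set f := Nat.card (D.aut (H12.oneIrr H)) with hfdef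
  set n := H12.degree (χ : G → ℂ) with hndef
  have hf1 : f ≠ 1 := fun hf => hne (PSubTwo.norm_eq_of_trivial_aut D hM hf χ (by omega) hx₀)
  have hfp : f + 1 ≠ p := fun hf => hne (D.norm_eq_of_transitive hf χ (by omega) hx₀)
  obtain ⟨hf', hfdvd⟩ := aut_facts D hM hfp
  have hf2 : 2 ≤ f := by
    have h0 : 0 < f := hfdef ▸ Nat.card_pos
    omega
  obtain ⟨θ, hθ⟩ := D.exists_mem_supp_of_lt hM (χ := χ) (by omega)
  haveI : Fintype (D.orbit θ) := Fintype.ofFinite _
  refine ⟨hf2, hf', hfdvd, θ, hθ, ?_⟩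
  intro _ _ S
  rcases (D.union_eq_supp S).symm.subset hθ with h | h
  · exact absurd (PSubTwo.norm_eq_of_colX D hM hθ (S.εX_eq χ h) (S.colX χ h) (by omega) hx₀) hne
  refine ⟨h, ?_⟩
  obtain ⟨ψ, hψ, hcol⟩ := S.colY χ h
  obtain ⟨g, hg⟩ := D.exists_terms hM θ
  have hI : Fintype.card (D.orbit θ × D.aut θ) = f := by
    rw [Fintype.card_prod, ← Nat.card_eq_fintype_card, ← Nat.card_eq_fintype_card, D.card_orbit_mul]
  obtain ⟨m, hm, hmle⟩ := PSubTwo.mult_facts D.hP
    (H12.IsCharacter.res (H12.isCharacter_irr χ) (P : Subgroup G))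
    (by rw [OneMemClass.coe_one, H12.irr_apply_one]) (fun i => twist ψ (g i))
    (fun i h' => hψ (twist_eq_one_iff.1 h')) (S.ε * (H12.degree (θ : H → ℂ) : ℤ))
    (fun y hy => (hg χ hθ ψ S.ε hcol y hy).trans (by push_cast; rfl))
  rw [hI, ← hndef] at hm hmle
  set d := H12.degree (θ : H → ℂ)
  have hd : 0 < d := H12.irr_degree_pos θ
  constructor <;> intro hε <;> rw [hε] at hm
  · have hm0 : m = 0 := by
      by_contra h0
      have h1 := Nat.le_mul_of_pos_right p (Nat.pos_of_ne_zero h0)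
      have h2 : (p : ℤ) ≤ (p : ℤ) * m := by exact_mod_cast h1
      have h3 : (0 : ℤ) ≤ (d : ℤ) * f := by positivity
      rw [one_mul] at hm
      omega
    rw [hm0, Nat.cast_zero, mul_zero, one_mul, sub_eq_zero] at hm
    rw [mul_comm]
    exact_mod_cast hm
  · have h0 : 0 < d * f := Nat.mul_pos hd (by omega)
    have hm' : n + d * f = p * m := by
      zify
      linear_combination hm
    rcases Nat.lt_or_ge m 2 with h1 | h1
    · interval_cases m
      · omega
      · have h2 : d * f ≤ 1 * f := by omega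
        have hd1 : d = 1 := le_antisymm (Nat.le_of_mul_le_mul_right h2 (by omega)) hd
        rw [hd1, one_mul] at hm'
        exact ⟨by omega, hd1⟩
    · have := Nat.mul_le_mul_left (p - f) h1
      omega

/-- The data for the sign `-1`. -/
theorem exists_data [Fintype (D.aut (H12.oneIrr H))] {M : Ideal AlgInt} [M.IsPrime]
    (hM : IsPModular p M) (hnn : ¬ (P : Subgroup G).Normal) {χ : IrrCharacter G}
    (hfaith : ∀ g : G, (χ : G → ℂ) g = (χ : G → ℂ) 1 → g = 1)
    (hn : H12.degree (χ : G → ℂ) + Nat.card (D.aut (H12.oneIrr H)) = p)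
    {θ : IrrCharacter H} (hθ : χ ∈ D.supp θ) (hd1 : H12.degree (θ : H → ℂ) = 1)
    [Fintype (P : Subgroup G)] [Fintype (D.aut θ)]
    (S : Shape p (D.aut θ) (fun (χ : IrrCharacter G) (x : (P : Subgroup G)) => D.col θ χ x)
      (fun (χ : IrrCharacter G) (g : {g : G // ¬ p ∣ orderOf g}) => (χ : G → ℂ) g))
    (hχY : χ ∈ S.Y) (hε : S.ε = -1) :
    H = Subgroup.center G ∧ ∃ ψ : (P : Subgroup G) →* ℂˣ, ψ ≠ 1 ∧
      ∀ x : (P : Subgroup G), x ≠ 1 → (χ : G → ℂ) x =
        -∑ α : D.aut (H12.oneIrr H), (ψ ((α : MulAut (P : Subgroup G)) x) : ℂ) := by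
  classical
  set f := Nat.card (D.aut (H12.oneIrr H)) with hfdef
  set n := H12.degree (χ : G → ℂ) with hndef
  obtain ⟨ψ, hψ, hcol⟩ := S.colY χ hχY
  haveI : Fintype (D.orbit θ) := Fintype.ofFinite _
  have hOe : Nat.card (D.orbit θ) * Nat.card (D.aut θ) = f := D.card_orbit_mul θ
  choose d₀ hd₀ using fun φ : IrrCharacter H => D.exists_col_one φ χ
  have htot : ∑ φ : IrrCharacter H, d₀ φ * H12.degree (φ : H → ℂ) = n := by
    have h1 := D.apply_eq_sum_col χ (one_mem (P : Subgroup G)) (1 : H)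
    simp only [OneMemClass.coe_one, one_mul, H12.irr_apply_one, hd₀] at h1
    rw [← hndef] at h1
    exact_mod_cast h1.symm
  obtain ⟨k, hk⟩ := D.exists_sum_col θ χ
  rw [← Finset.add_sum_erase _ _ (Finset.mem_univ (1 : (P : Subgroup G))),
    OneMemClass.coe_one, hd₀,
    Finset.sum_congr rfl fun x hx => hcol x (Finset.ne_of_mem_erase hx), ← Finset.mul_sum,
    Finset.sum_comm, Finset.sum_congr rfl fun (α : D.aut θ) _ => show
      ∑ x ∈ Finset.univ.erase (1 : (P : Subgroup G)),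
        (ψ ((α : MulAut (P : Subgroup G)) x) : ℂ) = -1 from
      sum_erase_one_lin (ψ := twist ψ ⟨α, D.aut_le θ α.2⟩) (mt twist_eq_one_iff.1 hψ),
    Finset.sum_const, Finset.card_univ, ← Nat.card_eq_fintype_card, hε, nsmul_eq_mul] at hk
  push_cast at hk
  have hk' : d₀ θ + Nat.card (D.aut θ) = p * k := by
    have : ((d₀ θ + Nat.card (D.aut θ) : ℕ) : ℂ) = ((p * k : ℕ) : ℂ) := by
      push_cast
      linear_combination hk
    exact_mod_cast this
  have hsingle : d₀ θ * H12.degree (θ : H → ℂ) ≤ n := htot ▸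
    Finset.single_le_sum (f := fun φ : IrrCharacter H => d₀ φ * H12.degree (φ : H → ℂ))
      (fun i _ => Nat.zero_le _) (Finset.mem_univ θ)
  rw [hd1, mul_one] at hsingle
  have he0 : 0 < Nat.card (D.aut θ) := Nat.card_pos
  have hk1 : p ≤ p * k := Nat.le_mul_of_pos_right p (Nat.pos_of_ne_zero fun h0 => by
    rw [h0, mul_zero] at hk'; omega)
  have he2' : Nat.card (D.aut θ) ≤ f := hOe ▸ Nat.le_mul_of_pos_left _
    (Nat.card_pos_iff.2 ⟨⟨⟨θ, D.mem_orbit_self θ⟩⟩, inferInstance⟩)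
  have he2 : Nat.card (D.aut θ) = f := by omega
  have hd₀n : d₀ θ = n := by omega
  have hrest : ∀ φ, φ ≠ θ → d₀ φ = 0 := fun φ hφ => by
    rw [← Finset.add_sum_erase _ _ (Finset.mem_univ θ), hd1, mul_one, hd₀n] at htot
    have h1 := Finset.sum_eq_zero_iff.1 (by omega :
      ∑ φ ∈ Finset.univ.erase θ, d₀ φ * H12.degree (φ : H → ℂ) = 0) φ
      (Finset.mem_erase.2 ⟨hφ, Finset.mem_univ _⟩)
    exact (Nat.mul_eq_zero.1 h1).resolve_right (H12.irr_degree_pos φ).ne'
  have hscal : ∀ h : H, (χ : G → ℂ) h = (n : ℂ) * (θ : H → ℂ) h := fun h => by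
    have h1 := D.apply_eq_sum_col χ (one_mem (P : Subgroup G)) h
    rw [one_mul] at h1
    rw [h1, Finset.sum_eq_single θ (fun φ _ hφ => by rw [hd₀, hrest φ hφ]; simp) (by simp),
      hd₀, hd₀n]
  obtain ⟨l, hl⟩ := H12.exists_monoidHom_of_apply_one_eq_one (H12.isCharacter_irr θ)
    (show (θ : H → ℂ) 1 = 1 by rw [H12.irr_apply_one, hd1, Nat.cast_one])
  have hcent : H = Subgroup.center G := by
    have hle : H ≤ Subgroup.center G := fun y hy => by
      refine mem_center_of_norm χ hfaith ?_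
      rw [show y = ((⟨y, hy⟩ : H) : G) from rfl, hscal, norm_mul, Complex.norm_natCast,
        ← congrFun hl, H12.norm_eq_one_of_pow_eq_one (n := orderOf (⟨y, hy⟩ : H))
        (orderOf_pos _).ne' (by rw [← Units.val_pow_eq_pow_val, ← map_pow, pow_orderOf_eq_one,
          map_one, Units.val_one]), mul_one, hndef]
    refine le_antisymm hle fun z hz => ?_
    obtain ⟨x, hx, y, hy, rfl⟩ :=
      D.exists_mul (fun w _ => (Subgroup.mem_center_iff.1 hz w : w * z = z * w))
    rcases eq_or_ne x 1 with hx1 | hx1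
    · rw [hx1, one_mul]; exact hy
    refine absurd ⟨fun w hw g => ?_⟩ hnn
    have hxc : x ∈ Subgroup.center G := by
      have := mul_mem hz (inv_mem (hle hy))
      rwa [mul_inv_cancel_right] at this
    have hw' : w ∈ Subgroup.center G := by
      have h1 : w ∈ Subgroup.zpowers x := by rw [H20.PrimeSylow.zpowers_eq D.hP hx hx1]; exact hw
      exact (Subgroup.zpowers_le.2 hxc) h1
    rw [Subgroup.mem_center_iff.1 hw' g, mul_inv_cancel_right]
    exact hw
  refine ⟨hcent, ψ, hψ, fun x hx => ?_⟩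
  rw [apply_eq_col D hcent.le hM hθ x.2 (fun h' => hx (Subtype.ext h')), hcol x hx, hε,
    sum_aut_eq D hcent.le θ (fun α => (ψ (α x) : ℂ))]
  simp

/-- Linear characters are trivial in a group generated by its elements of order `p` in which
some element of `P` is fused with another one. -/
theorem lin_trivial [Fintype (D.aut (H12.oneIrr H))]
    (hgen : Subgroup.closure {g : G | g ^ p = 1} = ⊤)
    (hf : 2 ≤ Nat.card (D.aut (H12.oneIrr H))) (l : G →* ℂˣ) : l = 1 := by
  haveI : Fintype (P : Subgroup G) := Fintype.ofFinite _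
  haveI : Nontrivial (D.aut (H12.oneIrr H)) := Finite.one_lt_card_iff_nontrivial.1 (by omega)
  obtain ⟨α, hα⟩ := exists_ne (1 : D.aut (H12.oneIrr H))
  set lP := l.comp (P : Subgroup G).subtype with hlP
  have hinv : ∀ y t : G, l (t * y * t⁻¹) = l y := fun y t => by
    rw [map_mul, map_mul, map_inv, mul_comm (l t), mul_inv_cancel_right]
  have hlP1 : lP = 1 := by
    by_contra hne
    refine hα (twist_injective D.hP hne (MonoidHom.ext fun y => ?_))
    obtain ⟨t, -, ht⟩ := D.mem_aut_iff.1 α.2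
    show l (((α : MulAut (P : Subgroup G)) y : (P : Subgroup G)) : G) = l (y : G)
    rw [ht, hinv]
  refine MonoidHom.eq_of_eqOn_dense hgen fun y hy => ?_
  obtain ⟨k, -, hk⟩ := (Nat.dvd_prime_pow hp.out).1
    ((pow_one p).symm ▸ orderOf_dvd_of_pow_eq_one hy : orderOf y ∣ p ^ 1)
  obtain ⟨z, hz, hconj⟩ := H20.FreeSylow.exists_isConj_mem (P := P) (y := y) ⟨k, hk⟩
  obtain ⟨t, ht⟩ := isConj_iff.1 hconj
  have h1 : l z = 1 := DFunLike.congr_fun hlP1 ⟨z, hz⟩
  rw [← ht, hinv] at h1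
  exact h1

/-- The reduction for a perfect group. -/
theorem reduce [Fintype (D.aut (H12.oneIrr H))] {M : Ideal AlgInt} [M.IsPrime]
    (hM : IsPModular p M) (hgen : Subgroup.closure {g : G | g ^ p = 1} = ⊤)
    (hnn : ¬ (P : Subgroup G).Normal) (χ : IrrCharacter G)
    (hn : H12.degree (χ : G → ℂ) + 2 ≤ p)
    (hfaith : ∀ g : G, (χ : G → ℂ) g = (χ : G → ℂ) 1 → g = 1) :
    2 * H12.degree (χ : G → ℂ) + 1 = p ∨
      ∃ θ ψ, Neg D (Nat.card (D.aut (H12.oneIrr H))) (H12.degree (χ : G → ℂ)) χ θ ψ := by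
  classical
  haveI : Fintype (P : Subgroup G) := Fintype.ofFinite _
  obtain ⟨hf2, hf', hfd, θ, hθ, hS⟩ := exists_colY D hM hnn χ hn hfaith
  haveI : Fintype (D.aut θ) := Fintype.ofFinite _
  obtain ⟨S⟩ := D.exists_shape hM θ
  obtain ⟨hY, hpos, hneg⟩ := hS S
  set f := Nat.card (D.aut (H12.oneIrr H)) with hfdef
  rcases S.ε_eq with hε | hε
  · left
    have hdeg := hpos hε
    have hperf := lin_trivial D hgen hf2
    obtain ⟨c, hc⟩ := hfd
    have hdc : H12.degree (θ : H → ℂ) + 1 ≤ c := by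
      by_contra hlt
      have := Nat.mul_le_mul_left f (by omega : c ≤ H12.degree (θ : H → ℂ))
      omega
    have hbd : H12.degree (χ : G → ℂ) + f + 1 ≤ p := by
      have := Nat.mul_le_mul_left f hdc
      rw [Nat.mul_add, mul_one, ← hdeg] at this
      omega
    haveI : Fintype (D.orbit θ) := Fintype.ofFinite _
    have hdO : H12.degree (θ : H → ℂ) * Nat.card (D.orbit θ) = 1 := by
      by_contra hc'
      have := Nat.mul_pos (H12.irr_degree_pos θ) (Nat.card_pos_iff.2
        ⟨⟨⟨θ, D.mem_orbit_self θ⟩⟩, inferInstance⟩ : 0 < Nat.card (D.orbit θ))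
      exact D.false_of_colY_big hM hperf S hY hε hf2 hf' hbd hdeg (by omega)
    rw [Nat.eq_one_of_mul_eq_one_right hdO, mul_one] at hdeg
    by_contra hne
    exact D.false_of_colY hM hperf S hY hε hf2 (by omega) (by
      rw [Nat.eq_one_of_mul_eq_one_right hdO, mul_one]; exact hdeg)
  · right
    obtain ⟨hadd, hd1⟩ := hneg hε
    obtain ⟨hcent, ψ, hψ, hval⟩ := exists_data D hM hnn hfaith hadd hθ hd1 S hY hε
    exact ⟨θ, ψ, hf2, hf', hfd, hadd, hcent, lin_trivial D hgen hf2, hnn, rfl, hθ, rfl, hfaith, hψ,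
      hval⟩

/-- The classes of elements of order `p`. -/
theorem card_classes : Nat.card {c : ConjClasses G // ∃ g : G, ConjClasses.mk g = c ∧ orderOf g = p}
    * Nat.card (D.aut (H12.oneIrr H)) = p - 1 := by
  classical
  haveI : Fintype (P : Subgroup G) := Fintype.ofFinite _
  haveI : Fintype (D.aut (H12.oneIrr H)) := Fintype.ofFinite _
  set E := Finset.univ.erase (1 : (P : Subgroup G)) with hE
  set f := Nat.card (D.aut (H12.oneIrr H)) with hf
  let cl : ↥(P : Subgroup G) → ConjClasses G := fun x => ConjClasses.mk (x : G)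
  have hEc : E.card = p - 1 := by
    rw [hE, Finset.card_erase_of_mem (Finset.mem_univ _), Finset.card_univ,
      ← Nat.card_eq_fintype_card, D.hP]
  have hfib : ∀ c ∈ E.image cl, (E.filter fun x => cl x = c).card = f := by
    intro c hc
    obtain ⟨x₀, hx₀, rfl⟩ := Finset.mem_image.1 hc
    have hx₀1 := Finset.ne_of_mem_erase hx₀
    have himg : E.filter (fun x => cl x = cl x₀) =
        Finset.univ.image fun α : D.aut (H12.oneIrr H) => (α : MulAut (P : Subgroup G)) x₀ := by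
      ext x
      constructor
      · intro hx
        obtain ⟨hxE, hxc⟩ := Finset.mem_filter.1 hx
        obtain ⟨t, ht⟩ := isConj_iff.1 (ConjClasses.mk_eq_mk_iff_isConj.1 hxc.symm)
        have htN := D.mem_normalizer x₀.2 (fun h => hx₀1 (Subtype.ext h)) x.2 ht
        refine Finset.mem_image.2 ⟨⟨(P : Subgroup G).normalizerMonoidHom ⟨t, htN⟩,
          D.mem_aut_iff.2 ⟨t, by rw [D.stab_one]; exact htN, fun y => rfl⟩⟩, Finset.mem_univ _, ?_⟩
        exact Subtype.ext ht
      · intro hx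
        obtain ⟨α, -, rfl⟩ := Finset.mem_image.1 hx
        obtain ⟨t, -, ht⟩ := D.mem_aut_iff.1 α.2
        refine Finset.mem_filter.2 ⟨Finset.mem_erase.2
          ⟨fun h => hx₀1 ((map_eq_one_iff _ (MulEquiv.injective _)).1 h), Finset.mem_univ _⟩, ?_⟩
        refine (ConjClasses.mk_eq_mk_iff_isConj.2 (isConj_iff.2 ⟨t, ?_⟩)).symm
        exact (ht x₀).symm
    rw [himg, Finset.card_image_of_injective, Finset.card_univ, ← Nat.card_eq_fintype_card]
    intro α β hab
    refine Subtype.ext (MulEquiv.ext fun y => ?_)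
    obtain ⟨i, rfl⟩ := zpowers_top D.hP hx₀1 y
    rw [map_zpow, map_zpow]
    exact congrArg (· ^ i) hab
  have htot : E.card = (E.image cl).card * f := by
    rw [Finset.card_eq_sum_card_image cl E, Finset.sum_congr rfl hfib, Finset.sum_const,
      smul_eq_mul]
  rw [← hEc, htot]
  congr 1
  rw [Nat.card_eq_fintype_card, Fintype.card_subtype]
  congr 1
  ext c
  rw [Finset.mem_filter, Finset.mem_image]
  constructor
  · rintro ⟨-, g, rfl, hg⟩
    obtain ⟨z, hz, hconj⟩ := H20.FreeSylow.exists_isConj_mem (P := P) (y := g)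
      ⟨1, by rw [pow_one, hg]⟩
    refine ⟨⟨z, hz⟩, Finset.mem_erase.2 ⟨fun h => ?_, Finset.mem_univ _⟩,
      (ConjClasses.mk_eq_mk_iff_isConj.2 hconj).symm⟩
    have hz1 : z = 1 := congrArg Subtype.val h
    rw [hz1] at hconj
    obtain ⟨t, ht⟩ := isConj_iff.1 hconj
    have h2 : orderOf g = orderOf (1 : G) := by rw [← ht, H20.orderOf_conj']
    rw [orderOf_one, hg] at h2
    exact hp.out.ne_one h2
  · rintro ⟨x, hx, rfl⟩
    exact ⟨Finset.mem_univ _, x, rfl,
      D.orderOf_eq x.2 fun h => Finset.ne_of_mem_erase hx (Subtype.ext h)⟩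

end H15.Degree
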