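import Cfsg.Agent.H15.Degree.Cyclo

/-!
Degrees below `p - 1` (helper15): products `∏ (1 - x T)` determined by power sums, and the
polynomials in `A` obtained from the power sums of the cyclotomic numbers.
-/

set_option autoImplicit false
set_option linter.unusedSectionVars false

namespace H15.Degree

open Finset Polynomial

section General

variable {R : Type*} [CommRing R]

/-- The sequence with prescribed logarithmic derivative. -/
def ser (inv P : ℕ → R) : ℕ → R
  | 0 => 1
  | k + 1 => -inv (k + 1) * ∑ i : Fin (k + 1), P ((i : ℕ) + 1) * ser inv P (k - i)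

theorem ser_zero (inv P : ℕ → R) : ser inv P 0 = 1 := by rw [ser]

theorem ser_succ (inv P : ℕ → R) (k : ℕ) : ser inv P (k + 1) =
    -inv (k + 1) * ∑ i ∈ Finset.range (k + 1), P (i + 1) * ser inv P (k - i) := by
  rw [ser, Fin.sum_univ_eq_sum_range (fun i => P (i + 1) * ser inv P (k - i))]

theorem ser_map {S : Type*} [CommRing S] (φ : R →+* S) (inv P : ℕ → R) (k : ℕ) :
    φ (ser inv P k) = ser (fun i => φ (inv i)) (fun i => φ (P i)) k := by
  induction k using Nat.strongRecOn with
  | ind k ih =>
    rcases k with _ | k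
    · simp [ser_zero]
    · simp only [ser_succ, map_mul, map_neg, map_sum]
      congr 1
      exact Finset.sum_congr rfl fun i _ => by rw [ih (k - i) (by omega)]

/-- The product `∏ (1 - x T)`. -/
noncomputable def revProd (s : Multiset R) : R[X] := (s.map fun x => 1 - C x * X).prod

theorem revProd_coeff_zero (s : Multiset R) : (revProd s).coeff 0 = 1 := by
  induction s using Multiset.induction_on with
  | empty => simp [revProd]
  | cons x s ih =>
    rw [revProd, Multiset.map_cons, Multiset.prod_cons, ← revProd, mul_coeff_zero, ih]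
    simp

theorem revProd_cons_coeff (x : R) (s : Multiset R) (k : ℕ) :
    (revProd (x ::ₘ s)).coeff (k + 1) = (revProd s).coeff (k + 1) - x * (revProd s).coeff k := by
  rw [revProd, Multiset.map_cons, Multiset.prod_cons, ← revProd, sub_mul, one_mul, mul_assoc,
    coeff_sub, coeff_C_mul, coeff_X_mul]

theorem revProd_natDegree_le (s : Multiset R) : (revProd s).natDegree ≤ Multiset.card s := by
  induction s using Multiset.induction_on with
  | empty => simp [revProd]
  | cons x s ih =>
    rw [revProd, Multiset.map_cons, Multiset.prod_cons, ← revProd, Multiset.card_cons]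
    refine natDegree_mul_le.trans ?_
    have h1 : (1 - C x * X : R[X]).natDegree ≤ 1 :=
      (natDegree_sub_le _ _).trans (max_le (by simp)
        (natDegree_C_mul_le x X |>.trans natDegree_X_le))
    omega

/-- Newton's identities. -/
theorem revProd_newton (s : Multiset R) (k : ℕ) :
    ((k + 1 : ℕ) : R) * (revProd s).coeff (k + 1) =
      -∑ i ∈ Finset.range (k + 1), (s.map (· ^ (i + 1))).sum * (revProd s).coeff (k - i) := by
  induction s using Multiset.induction_on generalizing k with
  | empty => simp [revProd, coeff_one]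
  | cons x s ih =>
    simp only [Multiset.map_cons, Multiset.sum_cons]
    set c := fun j => (revProd s).coeff j with hc
    set S := fun j => (s.map (· ^ j)).sum with hS
    have hc' : ∀ j, (revProd (x ::ₘ s)).coeff (j + 1) = c (j + 1) - x * c j :=
      revProd_cons_coeff x s
    have h0 : (revProd (x ::ₘ s)).coeff 0 = c 0 := by
      simp only [hc, revProd_coeff_zero]
    have hA : ∑ i ∈ Finset.range (k + 1),
        (x ^ (i + 1) + S (i + 1)) * (revProd (x ::ₘ s)).coeff (k - i) =
        ∑ i ∈ Finset.range (k + 1), S (i + 1) * c (k - i) -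
          x * ∑ i ∈ Finset.range k, S (i + 1) * c (k - 1 - i) + x * c k := by
      rw [Finset.sum_range_succ, Nat.sub_self, h0,
        Finset.sum_congr rfl (g := fun i => S (i + 1) * c (k - i) - x * (S (i + 1) * c (k - 1 - i)) +
          (x ^ (i + 1) * c (k - i) - x ^ (i + 1 + 1) * c (k - (i + 1)))) fun i hi => by
          have hik := Finset.mem_range.1 hi
          obtain ⟨j, hj⟩ : ∃ j, k = i + j + 1 := ⟨k - i - 1, by omega⟩
          rw [show k - i = j + 1 by omega, hc', show k - 1 - i = j by omega,
            show k - (i + 1) = j by omega]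
          ring,
        Finset.sum_range_succ (f := fun i => S (i + 1) * c (k - i)), Nat.sub_self,
        Finset.sum_add_distrib, Finset.sum_sub_distrib, ← Finset.mul_sum,
        Finset.sum_range_sub' (fun i => x ^ (i + 1) * c (k - i)) k]
      simp only [zero_add, pow_one, Nat.sub_zero, Nat.sub_self]
      ring
    simp only [hS] at hA
    rw [hA, hc']
    have h1 := ih k
    rcases k with _ | m
    · simp only [hc, revProd_coeff_zero, Finset.range_zero, Finset.sum_empty] at h1 ⊢
      push_cast at h1 ⊢
      linear_combination h1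
    · have h2 := ih m
      simp only [Nat.add_sub_cancel]
      simp only [hc]
      push_cast at h1 h2 ⊢
      linear_combination h1 - x * h2

/-- A product is the sequence with its power sums. -/
theorem coeff_revProd_eq_ser (s : Multiset R) {inv P : ℕ → R} {K : ℕ}
    (hinv : ∀ i, i < K → inv (i + 1) * ((i + 1 : ℕ) : R) = 1)
    (hP : ∀ i, i < K → (s.map (· ^ (i + 1))).sum = P (i + 1)) :
    (revProd s).coeff K = ser inv P K := by
  induction K using Nat.strongRecOn with
  | ind K ih =>
    rcases K with _ | k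
    · rw [ser_zero, revProd_coeff_zero]
    · have h := congrArg (inv (k + 1) * ·) (revProd_newton s k)
      rw [← mul_assoc, hinv k (by omega), one_mul] at h
      rw [h, ser_succ, mul_neg, neg_mul]
      congr 2
      refine Finset.sum_congr rfl fun i hi => ?_
      have hik := Finset.mem_range.1 hi
      rw [hP i (by omega), ih (k - i) (by omega) (fun j hj => hinv j (by omega))
        fun j hj => hP j (by omega)]

end General

variable {p : ℕ} [hp : Fact p.Prime]

/-- The power sums of the cyclotomic numbers, as a polynomial in the label. -/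
noncomputable def ePol (f : ℕ) (i : ℕ) : (ZMod p)[X] :=
  ∑ j ∈ Finset.range (i + 1),
    C ((f : ZMod p) * (((f * i).choose (f * j) : ℕ) : ZMod p) * ((-1) ^ f) ^ j) * X ^ j

/-- The coefficient polynomials. -/
noncomputable def gPol (f : ℕ) (δ : ℤ) : ℕ → (ZMod p)[X] :=
  ser (fun i => C (i : ZMod p)⁻¹) fun i => C (δ : ZMod p) * ePol f i

/-- The binomial coefficients. -/
noncomputable def binC (p : ℕ) [Fact p.Prime] (f : ℕ) (δ : ℤ) : ℕ → ZMod p :=
  ser (fun i => (i : ZMod p)⁻¹) fun _ => (δ : ZMod p) * f

theorem cast_inv_mul {i : ℕ} (h0 : 0 < i) (h : i < p) :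
    ((i : ZMod p))⁻¹ * (i : ZMod p) = 1 :=
  inv_mul_cancel₀ fun h' => by
    rw [ZMod.natCast_eq_zero_iff] at h'
    exact absurd (Nat.le_of_dvd h0 h') (by omega)

variable {f t : ℕ} (hft : f * t + 1 = p)
include hft

theorem t_lt : t < p := by
  have := Nat.le_mul_of_pos_left t (f_pos hft)
  omega

theorem ePol_eval {A : ZMod p} (hA : A ∈ lab t) {i : ℕ} (hi : i ≠ 0) :
    (ePol f i).eval A = ∑ C ∈ lab (p := p) t, (cyc f A C : ZMod p) * C ^ i := by
  rw [sum_cyc_pow hft hA hi, ePol, eval_finsetSum, Finset.mul_sum]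
  refine Finset.sum_congr rfl fun j _ => ?_
  rw [eval_mul, eval_C, eval_pow, eval_X, mul_pow]
  ring

omit hft in
theorem ePol_degree (i : ℕ) : (ePol (p := p) f i).natDegree ≤ i :=
  natDegree_sum_le_of_forall_le _ _ fun j hj =>
    (natDegree_C_mul_X_pow_le _ _).trans (Nat.lt_succ_iff.1 (Finset.mem_range.1 hj))

omit hft in
theorem ePol_top (i : ℕ) : (ePol (p := p) f i).coeff i = (f : ZMod p) * ((-1) ^ f) ^ i := by
  rw [ePol, finsetSum_coeff, Finset.sum_eq_single i]
  · rw [coeff_C_mul_X_pow, if_pos rfl, Nat.choose_self, Nat.cast_one, mul_one]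
  · intro j _ hji
    rw [coeff_C_mul_X_pow, if_neg (Ne.symm hji)]
  · intro h; simp at h

omit hft in
theorem ePol_low {i : ℕ} (hi : i ≠ 0) : (ePol (p := p) f i).coeff 0 = (f : ZMod p) := by
  rw [ePol, finsetSum_coeff, Finset.sum_eq_single 0]
  · simp
  · intro j _ hji
    rw [coeff_C_mul_X_pow, if_neg (Ne.symm hji)]
  · intro h; simp at h

omit hft in
theorem gPol_facts (δ : ℤ) (k : ℕ) :
    (gPol (p := p) f δ k).natDegree ≤ k ∧
    (gPol (p := p) f δ k).coeff k = ((-1) ^ f) ^ k * binC p f δ k ∧
    (gPol (p := p) f δ k).coeff 0 = binC p f δ k := by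
  induction k using Nat.strongRecOn with
  | ind k ih =>
    rcases k with _ | k
    · simp [gPol, binC, ser_zero]
    rw [gPol, binC, ser_succ, ser_succ, ← gPol, ← binC, ← C_neg]
    refine ⟨?_, ?_, ?_⟩
    · refine (natDegree_C_mul_le _ _).trans (natDegree_sum_le_of_forall_le _ _ fun i hi => ?_)
      have hik := Finset.mem_range.1 hi
      refine natDegree_mul_le.trans ?_
      have h1 := (ih (k - i) (by omega)).1
      have h2 : (C (δ : ZMod p) * ePol (p := p) f (i + 1)).natDegree ≤ i + 1 :=
        (natDegree_C_mul_le _ _).trans (ePol_degree _)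
      omega
    · rw [coeff_C_mul, finsetSum_coeff, ← mul_assoc, mul_comm (((-1 : ZMod p) ^ f) ^ (k + 1)),
        mul_assoc, Finset.mul_sum (a := ((-1 : ZMod p) ^ f) ^ (k + 1))]
      congr 1
      refine Finset.sum_congr rfl fun i hi => ?_
      have hik := Finset.mem_range.1 hi
      obtain ⟨j, hj⟩ : ∃ j, k = i + j := ⟨k - i, by omega⟩
      subst hj
      obtain ⟨h1, h2, -⟩ := ih j (by omega)
      rw [Nat.add_sub_cancel_left, show i + j + 1 = (i + 1) + j by ring,
        coeff_mul_add_eq_of_natDegree_le
          ((natDegree_C_mul_le _ _).trans (ePol_degree _)) h1, coeff_C_mul, ePol_top, h2]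
      ring
    · rw [coeff_C_mul, finsetSum_coeff]
      congr 1
      refine Finset.sum_congr rfl fun i hi => ?_
      rw [mul_coeff_zero, coeff_C_mul, ePol_low (Nat.succ_ne_zero i), (ih (k - i) (by omega)).2.2]

/-- The recursion of the binomial coefficients. -/
theorem binC_succ (δ : ℤ) (k : ℕ) (hk : k + 1 < p) :
    ((k + 1 : ℕ) : ZMod p) * binC p f δ (k + 1) = ((k : ZMod p) - δ * f) * binC p f δ k := by
  have key : ∀ j, j + 1 < p → ((j + 1 : ℕ) : ZMod p) * binC p f δ (j + 1) =
      -((δ : ZMod p) * f) * ∑ i ∈ Finset.range (j + 1), binC p f δ i := by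
    intro j hj
    rw [binC, ser_succ, ← binC, ← mul_assoc, mul_neg, mul_comm ((j + 1 : ℕ) : ZMod p),
      cast_inv_mul (Nat.succ_pos j) hj, neg_one_mul,
      ← Finset.sum_range_reflect (fun i => binC p f δ i) (j + 1), Finset.mul_sum]
    rw [← Finset.sum_neg_distrib]
    refine Finset.sum_congr rfl fun i _ => ?_
    rw [Nat.add_sub_cancel]
    ring
  rcases k with _ | j
  · rw [key 0 hk]
    simp
  · rw [key (j + 1) hk, Finset.sum_range_succ, mul_add, ← key j (by omega)]
    push_cast
    ring

theorem binC_ne_zero {δ : ℤ} (hδ : δ = 1 ∨ δ = -1) {k : ℕ} (hk : k ≤ t)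
    (hkf : δ = 1 → k ≤ f) : binC p f δ k ≠ 0 := by
  induction k with
  | zero => simp [binC, ser_zero]
  | succ k ih =>
    intro h0
    have hkp : k + 1 < p := lt_of_le_of_lt hk (t_lt hft)
    have h1 := binC_succ hft δ k hkp
    rw [h0, mul_zero, eq_comm, mul_eq_zero] at h1
    rcases h1 with h2 | h2
    · rcases hδ with rfl | rfl
      · have := hkf rfl
        rw [Int.cast_one, one_mul, sub_eq_zero, ZMod.natCast_eq_natCast_iff' k f p,
          Nat.mod_eq_of_lt (by omega), Nat.mod_eq_of_lt (f_lt hft)] at h2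
        omega
      · rw [Int.cast_neg, Int.cast_one, neg_one_mul, sub_neg_eq_add, ← Nat.cast_add,
          ZMod.natCast_eq_zero_iff] at h2
        have hf0 := f_pos hft
        have h3 : k + f < p := by
          obtain ⟨f', rfl⟩ : ∃ f', f = f' + 1 := ⟨f - 1, by omega⟩
          obtain ⟨t', rfl⟩ : ∃ t', t = t' + 1 := ⟨t - 1, by have := t_pos hft; omega⟩
          rw [show (f' + 1) * (t' + 1) + 1 = f' * t' + (f' + t' + 2) by ring] at hft
          omega
        exact absurd (Nat.le_of_dvd (by omega) h2) (by omega)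
    · exact ih (by omega) (fun h => by have := hkf h; omega) h2

omit hft in
/-- The multiset with given multiplicities. -/
theorem sum_replicate {ι R M : Type*} [CommSemiring M] (s : Finset ι) (k : ι → ℕ) (v : ι → R)
    (φ : R → M) :
    ((∑ i ∈ s, Multiset.replicate (k i) (v i)).map φ).sum = ∑ i ∈ s, (k i : M) * φ (v i) := by
  classical
  induction s using Finset.induction_on with
  | empty => simp
  | insert i s hi ih =>
    rw [Finset.sum_insert hi, Finset.sum_insert hi, Multiset.map_add, Multiset.sum_add, ih]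
    simp [nsmul_eq_mul]

/-- Roots of the coefficient polynomials. -/
theorem gPol_eval {δ : ℤ} (hδ : δ = 1 ∨ δ = -1) {A : ZMod p} (hA : A ∈ lab t) {k : ZMod p → ℕ}
    {z : ℤ} (hk : ∀ C ∈ lab (p := p) t, δ * (k C : ℤ) = (cyc f A C : ℤ) + z) {K : ℕ}
    (hr : ∑ C ∈ lab (p := p) t, k C < K) (hK : K ≤ t) :
    (gPol f δ K).eval A = if K = t then (δ : ZMod p) * (z : ZMod p) else 0 := by
  classical
  set s : Multiset (ZMod p) := ∑ C ∈ lab (p := p) t, Multiset.replicate (k C) C with hs
  have hcard : Multiset.card s = ∑ C ∈ lab (p := p) t, k C := by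
    simp [hs, Multiset.card_sum]
  have hzero : (revProd s).coeff K = 0 :=
    coeff_eq_zero_of_natDegree_lt (lt_of_le_of_lt (revProd_natDegree_le s) (hcard ▸ hr))
  have hδ2 : (δ : ZMod p) * (δ : ZMod p) = 1 := by rcases hδ with rfl | rfl <;> simp
  set Pm : ℕ → ZMod p := fun i => (δ : ZMod p) * (ePol f i).eval A +
    if i = t then (δ : ZMod p) * z * t else 0 with hPm
  have hps : ∀ i, i < K → (s.map (· ^ (i + 1))).sum = Pm (i + 1) := by
    intro i hi
    rw [hs, sum_replicate _ k (fun C => C) (fun x => x ^ (i + 1))]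
    simp only [hPm, ePol_eval hft hA (Nat.succ_ne_zero i)]
    have hC : ∀ C ∈ lab (p := p) t, (k C : ZMod p) =
        (δ : ZMod p) * (cyc f A C : ZMod p) + (δ : ZMod p) * z := fun C hC => by
      have h1 : ((δ * (k C : ℤ) : ℤ) : ZMod p) = (((cyc f A C : ℤ) + z : ℤ) : ZMod p) := by
        rw [hk C hC]
      push_cast at h1
      calc (k C : ZMod p) = (δ : ZMod p) * ((δ : ZMod p) * (k C : ZMod p)) := by
            rw [← mul_assoc, hδ2, one_mul]
        _ = _ := by rw [h1, mul_add]
    rw [Finset.sum_congr rfl fun C hC' => by rw [hC C hC', add_mul, mul_assoc],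
      Finset.sum_add_distrib, ← Finset.mul_sum, ← Finset.mul_sum]
    congr 1
    have hft' : t * f + 1 = p := by rw [mul_comm]; exact hft
    have h2 := sum_fib_pow hft' (one_mem_lab hft') (i + 1)
    rw [show fib t (1 : ZMod p) = lab t from rfl] at h2
    rw [h2]
    have hiff : t ∣ i + 1 ↔ i + 1 = t := ⟨fun h => by
      have := Nat.le_of_dvd (Nat.succ_pos i) h; omega, fun h => h ▸ dvd_rfl⟩
    simp only [hiff, one_pow, mul_one]
    split_ifs <;> simp
  have hinv : ∀ i, i < K → ((i + 1 : ℕ) : ZMod p)⁻¹ * ((i + 1 : ℕ) : ZMod p) = 1 := fun i hi =>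
    cast_inv_mul (Nat.succ_pos i) (by have := t_lt hft; omega)
  rw [coeff_revProd_eq_ser s (inv := fun i => (i : ZMod p)⁻¹) hinv hps] at hzero
  -- the sequence without the correction
  set P₀ : ℕ → ZMod p := fun i => (δ : ZMod p) * (ePol f i).eval A with hP₀
  have heval : (gPol f δ K).eval A = ser (fun i => (i : ZMod p)⁻¹) P₀ K := by
    rw [← coe_evalRingHom, gPol, ser_map]
    simp [hP₀]
  have hsame : ∀ j, j < t → ser (fun i => (i : ZMod p)⁻¹) Pm j = ser (fun i => (i : ZMod p)⁻¹) P₀ j := by
    intro j
    induction j using Nat.strongRecOn with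
    | ind j ih =>
      intro hj
      rcases j with _ | j
      · rw [ser_zero, ser_zero]
      rw [ser_succ, ser_succ]
      congr 1
      refine Finset.sum_congr rfl fun i hi => ?_
      have := Finset.mem_range.1 hi
      rw [ih (j - i) (by omega) (by omega)]
      simp only [hPm, hP₀, if_neg (show i + 1 ≠ t by omega), add_zero]
  split_ifs with hKt
  · obtain ⟨j, hj⟩ : ∃ j, t = j + 1 := ⟨t - 1, by have := t_pos hft; omega⟩
    rw [heval, hKt, hj]
    rw [hKt, hj] at hzero
    rw [ser_succ] at hzero ⊢
    rw [Finset.sum_range_succ] at hzero ⊢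
    simp only [Nat.sub_self, ser_zero, mul_one] at hzero ⊢
    rw [Finset.sum_congr rfl (g := fun i => P₀ (i + 1) * ser (fun i => (i : ZMod p)⁻¹) P₀ (j - i))
      fun i hi => by
        have := Finset.mem_range.1 hi
        rw [hsame (j - i) (by omega)]
        simp only [hPm, hP₀, if_neg (show i + 1 ≠ t by omega), add_zero]] at hzero
    simp only [hPm, hP₀, ← hj, if_true] at hzero ⊢
    have hinvt : ((t : ZMod p))⁻¹ * (t : ZMod p) = 1 := cast_inv_mul (t_pos hft) (t_lt hft)
    linear_combination hzero + (δ : ZMod p) * z * hinvt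
  · rw [heval, ← hsame K (by omega), hzero]

/-- Polynomials of small degree vanishing on the labels other than `1`. -/
theorem poly_lab_zero {g : (ZMod p)[X]} (hdeg : g.natDegree + 2 ≤ t)
    (hroot : ∀ A ∈ lab (p := p) t, A ≠ 1 → g.eval A = 0) : g = 0 := by
  classical
  refine eq_zero_of_natDegree_lt_card_of_eval_eq_zero' g ((lab (p := p) t).erase 1)
    (fun A hA => hroot A (Finset.mem_of_mem_erase hA) (Finset.ne_of_mem_erase hA)) ?_
  rw [Finset.card_erase_of_mem (one_mem_lab hft), card_lab hft]
  omega

/-- Polynomials of degree `t - 1` vanishing on the labels other than `1`. -/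
theorem poly_lab_geom {g : (ZMod p)[X]} (ht2 : 2 ≤ t) (hdeg : g.natDegree + 1 ≤ t)
    (hroot : ∀ A ∈ lab (p := p) t, A ≠ 1 → g.eval A = 0) :
    g.coeff 0 = g.coeff (t - 1) ∧ g.eval 1 = (t : ZMod p) * g.coeff (t - 1) := by
  classical
  set c := g.coeff (t - 1)
  set q : (ZMod p)[X] := g - C c * ∑ i ∈ Finset.range t, X ^ i with hq
  have hcoeff : ∀ j, (∑ i ∈ Finset.range t, (X : (ZMod p)[X]) ^ i).coeff j =
      if j < t then 1 else 0 := fun j => by
    rw [finsetSum_coeff]
    simp [coeff_X_pow]
  have hq0 : q = 0 := by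
    have ht := t_pos hft
    refine eq_zero_of_natDegree_lt_card_of_eval_eq_zero' q ((lab (p := p) t).erase 1) ?_ ?_
    · intro A hA
      have hA1 := Finset.ne_of_mem_erase hA
      have hAl := mem_lab.1 (Finset.mem_of_mem_erase hA)
      have hgeom : ∑ i ∈ Finset.range t, A ^ i = 0 := by
        have h := geom_sum_mul A t
        rw [hAl, sub_self] at h
        exact (mul_eq_zero.1 h).resolve_right (sub_ne_zero.2 hA1)
      simp [hq, hroot A (Finset.mem_of_mem_erase hA) hA1, eval_finsetSum, hgeom]
    · rw [Finset.card_erase_of_mem (one_mem_lab hft), card_lab hft]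
      by_contra hle
      rw [not_lt] at hle
      have hdq : q.natDegree ≤ t - 1 := by
        refine (natDegree_sub_le _ _).trans (max_le (by omega) ((natDegree_C_mul_le _ _).trans ?_))
        exact natDegree_sum_le_of_forall_le _ _ fun i hi => (natDegree_X_pow_le i).trans (by
          have := Finset.mem_range.1 hi; omega)
      have hlead : q.coeff q.natDegree = 0 := by
        rw [show q.natDegree = t - 1 by omega, hq, coeff_sub, coeff_C_mul, hcoeff, if_pos (by omega),
          mul_one, sub_self]
      have h0 := leadingCoeff_eq_zero.1 hlead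
      rw [h0, natDegree_zero] at hle
      omega
  rw [hq, sub_eq_zero] at hq0
  refine ⟨?_, ?_⟩
  · rw [hq0, coeff_C_mul, hcoeff, if_pos (t_pos hft), mul_one]
  · rw [hq0, eval_mul, eval_C, eval_finsetSum]
    simp [mul_comm]

/-- Polynomials of degree `t` constant on the labels. -/
theorem poly_lab_const {g : (ZMod p)[X]} {v : ZMod p} (hdeg : g.natDegree ≤ t)
    (hroot : ∀ A ∈ lab (p := p) t, g.eval A = v) : g.coeff 0 + g.coeff t = v := by
  classical
  have ht := t_pos hft
  set q : (ZMod p)[X] := g - C (g.coeff t) * (X ^ t - 1) - C v with hq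
  have hq0 : q = 0 := by
    refine eq_zero_of_natDegree_lt_card_of_eval_eq_zero' q (lab (p := p) t) ?_ ?_
    · intro A hA
      simp [hq, hroot A hA, mem_lab.1 hA]
    · rw [card_lab hft]
      by_contra hle
      rw [not_lt] at hle
      have hdq : q.natDegree ≤ t := by
        refine (natDegree_sub_le _ _).trans (max_le ((natDegree_sub_le _ _).trans
          (max_le hdeg ((natDegree_C_mul_le _ _).trans ((natDegree_sub_le _ _).trans
            (max_le (natDegree_X_pow_le t) (by simp)))))) (by simp))
      have hlead : q.coeff q.natDegree = 0 := by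
        rw [le_antisymm hdq hle, hq]
        simp [coeff_one, coeff_C, ht.ne']
      have h0 := leadingCoeff_eq_zero.1 hlead
      rw [h0, natDegree_zero] at hle
      omega
  have h1 := congrArg (fun r : (ZMod p)[X] => r.coeff 0) hq0
  simp [hq, coeff_one, ht.ne, ht.ne'] at h1
  linear_combination h1

end H15.Degree
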