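import Cfsg.Agent.H15.Degree.Two

/-!
Degrees below `p - 1` (helper15): the constituents of the products of two exceptional characters
of degree `n = (p + 1) / 2`.
-/

set_option autoImplicit false
set_option linter.style.haveILetI false
set_option linter.unusedSectionVars false

open Cfsg
open scoped ComplexConjugate

namespace H15.Degree

open H85.D1 H15.HalfDeg

universe u

variable {G : Type u} [Group G] [Fintype G] {p : ℕ} [hp : Fact p.Prime]
  {P : Sylow p G} {u a : G} {H : Subgroup G} [Fintype H] [Fintype (P : Subgroup G)]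
  {D : Setting P u a H} [Fintype (D.aut (H12.oneIrr H))] {f n : ℕ}
  {χ : IrrCharacter G} {θ : IrrCharacter H} {ψ : (P : Subgroup G) →* ℂˣ}

/-- Two products with equal values on the regular elements. -/
structure Prods (D : Setting P u a H) [Fintype (D.aut (H12.oneIrr H))] (f n : ℕ)
    (ψ : (P : Subgroup G) →* ℂˣ) (φ : IrrCharacter H) (F₁ F₂ : G → ℂ) : Prop where
  char₁ : IsCharacter G F₁
  char₂ : IsCharacter G F₂
  reg : ∀ g : G, ¬ p ∣ orderOf g → F₁ g = F₂ g
  cen₁ : ∀ (g : G) (k : H), F₁ (g * k) = F₁ g * (φ : H → ℂ) k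
  cen₂ : ∀ (g : G) (k : H), F₂ (g * k) = F₂ g * (φ : H → ℂ) k
  one₁ : F₁ 1 = (n : ℂ) * n
  one₂ : F₂ 1 = (n : ℂ) * n
  sum₁ : ∑ x : (P : Subgroup G), F₁ x = (p : ℂ) * n
  sum₂ : ∑ x : (P : Subgroup G), F₂ x = (p : ℂ)
  diff : ∀ x : (P : Subgroup G), x ≠ 1 → F₁ x - F₂ x = (f : ℂ) - per ψ f ((-1 : ZMod p) ^ f) x
  triv : classInner F₂ (H12.oneIrr G : G → ℂ) = 0

open Classical in
/-- The indicator of the principal block. -/
noncomputable def iota (φ : IrrCharacter H) : ℕ := if φ = H12.oneIrr H then 1 else 0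

/-- The possible configurations of a block. -/
inductive Kind
  | C
  | D
  | Dbig
  | neg
  | pos

/-- The constituents of the products. -/
structure Split {D : Setting P u a H} [Fintype (D.aut (H12.oneIrr H))] {f : ℕ} (n : ℕ)
    {ψ : (P : Subgroup G) →* ℂˣ} {φ : IrrCharacter H} (Φ : Fam D f 2 ψ φ) (F₁ F₂ : G → ℂ) where
  Xp : Finset (IrrCharacter G)
  Xm : Finset (IrrCharacter G)
  V : Finset (IrrCharacter G)
  W : Finset (IrrCharacter G)
  E : ℕ
  E' : ℕ
  z : ℕ
  union : ∀ i, i ∈ Φ.X ↔ i ∈ Xp ∨ i ∈ Xm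
  disjoint : Disjoint Xp Xm
  eps_p : ∀ i ∈ Xp, Φ.εX i = 1
  eps_m : ∀ i ∈ Xm, Φ.εX i = -1
  sub_V : V ⊆ Xp
  sub_W : W ⊆ Xm
  one_V : H12.oneIrr G ∉ V
  one_mem : φ = H12.oneIrr H → H12.oneIrr G ∈ Xp
  one_not : φ ≠ H12.oneIrr H → H12.oneIrr G ∉ Xp
  deg_V : ∀ i ∈ V, H12.degree (i : G → ℂ) = 4 * f + 3
  deg_p : ∀ i ∈ Xp, i ≠ H12.oneIrr G → i ∉ V → H12.degree (i : G → ℂ) = 2 * n
  deg_W : ∀ i ∈ W, H12.degree (i : G → ℂ) = 4 * f + 1
  deg_m : ∀ i ∈ Xm, i ∉ W → H12.degree (i : G → ℂ) = 2 * f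
  kind : (Φ.δ = -1 ∧ Even f ∧ φ = H12.oneIrr H ∧ H12.degree (Φ.Y 1 : G → ℂ) = n ∧ E = 0 ∧ E' = 1 ∧
      z = 1 ∧ V.card = 0 ∧ W.card = 0 ∧ 2 * Xm.card = f) ∨
    (Φ.δ = -1 ∧ Even f ∧ H12.degree (Φ.Y 1 : G → ℂ) = n ∧ E = 0 ∧ E' = 1 ∧ z = 0 ∧
      V.card = iota φ ∧ W.card = 1 ∧ 2 * Xm.card = f) ∨
    (Φ.δ = -1 ∧ Even f ∧ φ = H12.oneIrr H ∧ H12.degree (Φ.Y 1 : G → ℂ) = 3 * f + 2 ∧ E = 0 ∧
      E' = 1 ∧ z = 0 ∧ V.card = 0 ∧ W.card = 1 ∧ 2 * Xm.card = f) ∨
    (Φ.δ = -1 ∧ Odd f ∧ H12.degree (Φ.Y 1 : G → ℂ) = n ∧ E = 1 ∧ E' = 2 ∧ z = 0 ∧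
      V.card = iota φ ∧ W.card = 0 ∧ 2 * Xm.card = f + 1) ∨
    (Φ.δ = 1 ∧ Odd f ∧ H12.degree (Φ.Y 1 : G → ℂ) = 3 * f + 1 ∧ E = 1 ∧ E' = 0 ∧ z = 0 ∧
      V.card = iota φ ∧ W.card = 0 ∧ 2 * Xm.card + 1 = f)
  expand₁ : z = 0 → ∀ g : G, ¬ p ∣ orderOf g →
    F₁ g = ∑ i ∈ Xp, (i : G → ℂ) g + (E' : ℂ) * (Φ.Y 1 : G → ℂ) g
  expand₂ : z = 0 → ∀ g : G, ¬ p ∣ orderOf g →
    F₂ g = ∑ i ∈ Xm, (i : G → ℂ) g + (E : ℂ) * (Φ.Y 1 : G → ℂ) g
  mult_p : ∀ i ∈ Xp, classInner F₁ (i : G → ℂ) = 1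
  mult_m : ∀ i ∈ Xm, classInner F₂ (i : G → ℂ) = 1
  mult_Y₁ : 1 ≤ E' → ∃ A ∈ lab (p := p) 2, ∃ k : ℕ, 1 ≤ k ∧ classInner F₁ (Φ.Y A : G → ℂ) = (k : ℂ)
  mult_Y₂ : 1 ≤ E → ∃ A ∈ lab (p := p) 2, ∃ k : ℕ, 1 ≤ k ∧ classInner F₂ (Φ.Y A : G → ℂ) = (k : ℂ)
  norm₁ : ∃ Q : ℕ, classInner F₁ F₁ = (Q : ℂ) ∧ Xp.card + E' + z ≤ Q

variable (h : Neg D f n χ θ ψ) (hft : f * 2 + 1 = p)
include h hft

variable {M : Ideal AlgInt} [M.IsPrime] (hM : IsPModular p M)
include hM

/-- A constituent outside the block vanishes on the singular elements or has multiplicity zero. -/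
theorem vanish_of_not_supp {φ : IrrCharacter H} {F : G → ℂ} (hF : ∀ (g : G) (k : H), F (g * k) = F g * (φ : H → ℂ) k)
    {i : IrrCharacter G} (hi : i ∉ D.supp φ) :
    classInner F (i : G → ℂ) = 0 ∨ ∀ (x : (P : Subgroup G)) (k : H), x ≠ 1 → (i : G → ℂ) (x * k) = 0 := by
  classical
  by_cases hsup : ∃ φ', i ∈ D.supp φ'
  · left
    obtain ⟨φ', hφ'⟩ := hsup
    have hne : φ' ≠ φ := fun he => hi (he ▸ hφ')
    have hz : classInner (φ : H → ℂ) (φ' : H → ℂ) = 0 := H12.classInner_irr_ne hne.symm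
    have key : ∀ k : H, classInner F (i : G → ℂ) =
        classInner F (i : G → ℂ) * ((φ : H → ℂ) k * conj ((φ' : H → ℂ) k)) := fun k => by
      rw [H12.classInner_def, mul_assoc, Finset.sum_mul]
      congr 1
      refine (Fintype.sum_equiv (Equiv.mulRight (k : G)) _ _ fun g => ?_).symm
      rw [Equiv.coe_mulRight, hF g k, central_mul D h.central_le hM hφ' g k, map_mul]
      ring
    have h1 := Finset.sum_congr rfl (fun k (_ : k ∈ (Finset.univ : Finset H)) => key k)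
    rw [← Finset.mul_sum, H12.sum_mul_conj_eq_card_mul, hz, mul_zero, mul_zero, Finset.sum_const,
      Finset.card_univ, nsmul_eq_mul] at h1
    rcases mul_eq_zero.1 h1 with h2 | h2
    · exact absurd (Nat.cast_eq_zero.1 h2) Fintype.card_ne_zero
    · exact h2
  · right
    intro x k hx
    rw [D.apply_eq_sum_col i x.2 k]
    refine Finset.sum_eq_zero fun φ' _ => ?_
    have h2 : D.col φ' i x = 0 := by
      by_contra h2
      exact hsup ⟨φ', x, hx, h2⟩
    rw [h2, zero_mul]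

variable {φ : IrrCharacter H} (Φ : Fam D f 2 ψ φ) {F₁ F₂ : G → ℂ} (hF : Prods D f n ψ φ F₁ F₂)
include Φ hF

/-- The multiplicities of the single constituents. -/
theorem split_facts : ∃ k₁ k₂ s : IrrCharacter G → ℕ,
    (∀ g, F₁ g = ∑ i : IrrCharacter G, (k₁ i : ℂ) * (i : G → ℂ) g) ∧
    (∀ g, F₂ g = ∑ i : IrrCharacter G, (k₂ i : ℂ) * (i : G → ℂ) g) ∧
    (∀ i ∈ Φ.X, (k₁ i : ℤ) = k₂ i + Φ.εX i ∧
      (H12.degree (i : G → ℂ) : ℤ) + ((p : ℤ) - 1) * Φ.εX i = (p : ℤ) * s i) ∧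
    (∀ A ∈ lab (p := p) 2,
      (k₁ (Φ.Y A) : ℤ) = k₂ (Φ.Y A) - Φ.δ * (if A = (-1) ^ f then 1 else 0) ∧
      (H12.degree (Φ.Y A : G → ℂ) : ℤ) - Φ.δ * f = (p : ℤ) * s (Φ.Y A)) ∧
    (∀ i, i ∉ Φ.X → (∀ A ∈ lab (p := p) 2, Φ.Y A ≠ i) →
      k₁ i = k₂ i ∧ (k₂ i ≠ 0 → H12.degree (i : G → ℂ) = p * s i)) ∧
    ∑ i : IrrCharacter G, k₁ i * s i = n ∧ ∑ i : IrrCharacter G, k₂ i * s i = 1 := by
  classical
  obtain ⟨k₁, hk₁⟩ := H12.IsCharacter.exists_mult hF.char₁
  obtain ⟨k₂, hk₂⟩ := H12.IsCharacter.exists_mult hF.char₂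
  choose s hs using fun i : IrrCharacter G => exists_sum_res (H12.isCharacter_irr i) (P : Subgroup G)
  have hs' : ∀ i : IrrCharacter G, ∑ x : (P : Subgroup G), (i : G → ℂ) x = (p : ℂ) * s i := fun i => by
    rw [hs i, D.hP]
  have e₁ : ∀ g, F₁ g = ∑ i : IrrCharacter G, (k₁ i : ℂ) * (i : G → ℂ) g := fun g => by rw [hk₁]; simp
  have e₂ : ∀ g, F₂ g = ∑ i : IrrCharacter G, (k₂ i : ℂ) * (i : G → ℂ) g := fun g => by rw [hk₂]; simp
  have c₁ : ∀ i : IrrCharacter G, classInner F₁ (i : G → ℂ) = (k₁ i : ℂ) := fun i => by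
    rw [hk₁, H12.classInner_sum_smul_irr]
  have c₂ : ∀ i : IrrCharacter G, classInner F₂ (i : G → ℂ) = (k₂ i : ℂ) := fun i => by
    rw [hk₂, H12.classInner_sum_smul_irr]
  set W : G → ℂ := fun g => F₁ g - F₂ g with hW
  have hWc : IsClassFunction G W := fun g t => by
    simp only [hW]
    rw [(H12.IsCharacter.isClassFunction hF.char₁) g t,
      (H12.IsCharacter.isClassFunction hF.char₂) g t]
  have hsing : ∀ i : IrrCharacter G,
      (∀ (x : (P : Subgroup G)) (k : H), x ≠ 1 →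
        (i : G → ℂ) (x * k) * conj ((φ : H → ℂ) k) = (i : G → ℂ) x) →
      ((f * p : ℕ) : ℂ) * ((k₁ i : ℂ) - k₂ i) = ∑ x ∈ Finset.univ.erase (1 : (P : Subgroup G)),
        (i : G → ℂ) x * conj ((f : ℂ) - per ψ f ((-1 : ZMod p) ^ f) x) := by
    intro i hi
    have h1 := classInner_singular D h.central_le (F := (i : G → ℂ)) (W := W)
      (H12.irr_isClassFunction i) hWc (fun g hg => by simp only [hW]; rw [hF.reg g hg, sub_self])
      fun x hx hx1 k => by
        simp only [hW]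
        rw [hF.cen₁, hF.cen₂, ← sub_mul, map_mul, mul_comm (conj _) (conj _), ← mul_assoc,
          hi ⟨x, hx⟩ k fun h' => hx1 (congrArg Subtype.val h')]
    rw [h.card_aut, ← H12.conj_classInner, show classInner W (i : G → ℂ) = (k₁ i : ℂ) - k₂ i by
      rw [hW, ← c₁, ← c₂]; exact H12.classInner_sub_left F₁ F₂ _, map_sub, map_natCast,
      map_natCast] at h1
    rw [h1]
    exact Finset.sum_congr rfl fun x hx => by
      simp only [hW]; rw [hF.diff x (Finset.ne_of_mem_erase hx)]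
  have hphi : ∀ k : H, (φ : H → ℂ) k * conj ((φ : H → ℂ) k) = 1 := fun k => by
    rw [Complex.mul_conj, Complex.normSq_eq_norm_sq, norm_lin D h.central_le φ k, one_pow,
      Complex.ofReal_one]
  have hfp : ((f * p : ℕ) : ℂ) ≠ 0 := Nat.cast_ne_zero.2
    (Nat.mul_pos (f_pos hft) hp.out.pos).ne'
  have hσ := sgn_mem_lab (p := p) hft
  have hcard : ((Finset.univ.erase (1 : (P : Subgroup G))).card : ℂ) = 2 * f := by
    rw [Finset.card_erase_of_mem (Finset.mem_univ _), Finset.card_univ, ← Nat.card_eq_fintype_card,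
      D.hP, ← hft, Nat.add_sub_cancel]
    push_cast; ring
  refine ⟨k₁, k₂, s, e₁, e₂, fun i hi => ⟨?_, ?_⟩, fun A hA => ⟨?_, ?_⟩, fun i hiX hiY => ?_, ?_, ?_⟩
  · have h1 := hsing i fun x k hx => by
      rw [Φ.valX i hi x hx k, Fam.valX' h hft Φ hi x hx, mul_assoc, hphi, mul_one]
    rw [Finset.sum_congr rfl fun x hx => by
      rw [Fam.valX' h hft Φ hi x (Finset.ne_of_mem_erase hx), map_sub, map_natCast],
      ← Finset.mul_sum, Finset.sum_sub_distrib, Finset.sum_const, nsmul_eq_mul, hcard, ← map_sum,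
      sum_erase_per D.hP h.psi_ne hft hσ, map_neg, map_natCast] at h1
    have : (((k₁ i : ℤ)) : ℂ) = (((k₂ i : ℤ) + Φ.εX i : ℤ) : ℂ) := by
      push_cast
      have hpC : (p : ℂ) = f * 2 + 1 := by exact_mod_cast hft.symm
      push_cast at h1 hfp
      refine mul_left_cancel₀ hfp ?_
      linear_combination h1 - (Φ.εX i : ℂ) * f * hpC
    exact_mod_cast this
  · obtain ⟨s', hs1, hs2⟩ := Fam.degree_X h hft Φ hi
    rw [hs', mul_right_inj' (Nat.cast_ne_zero.2 hp.out.ne_zero)] at hs1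
    rw [show s i = s' from by exact_mod_cast hs1]
    exact hs2
  · have h1 := hsing (Φ.Y A) fun x k hx => by
      rw [Φ.valY A hA x hx k, Fam.valY' h hft Φ hA x hx, mul_assoc, hphi, mul_one]
    rw [Finset.sum_congr rfl (g := fun x => (Φ.δ : ℂ) * ((f : ℂ) * per ψ f A x) -
        (Φ.δ : ℂ) * (per ψ f A x * conj (per ψ f ((-1 : ZMod p) ^ f) x))) fun x hx => by
      rw [Fam.valY' h hft Φ hA x (Finset.ne_of_mem_erase hx), map_sub, map_natCast]; ring,
      Finset.sum_sub_distrib, ← Finset.mul_sum, ← Finset.mul_sum, ← Finset.mul_sum,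
      sum_erase_per D.hP h.psi_ne hft hA,
      sum_erase_per_mul_conj D.hP h.psi_ne hft A _ hA hσ] at h1
    have : (((k₁ (Φ.Y A) : ℤ)) : ℂ) =
        (((k₂ (Φ.Y A) : ℤ) - Φ.δ * (if A = (-1) ^ f then 1 else 0) : ℤ) : ℂ) := by
      push_cast at h1 hfp ⊢
      refine mul_left_cancel₀ hfp ?_
      split_ifs at h1 ⊢ <;> linear_combination h1
    exact_mod_cast this
  · obtain ⟨s', hs1, hs2⟩ := Fam.degree_Y h hft Φ hA
    rw [hs', mul_right_inj' (Nat.cast_ne_zero.2 hp.out.ne_zero)] at hs1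
    rw [show s (Φ.Y A) = s' from by exact_mod_cast hs1]
    exact hs2
  · have hns : i ∉ D.supp φ := fun hm => by
      rcases (Φ.mem_supp i).1 hm with h' | ⟨A, hA, h'⟩
      · exact hiX h'
      · exact hiY A hA h'
    by_cases hv : ∀ (x : (P : Subgroup G)) (k : H), x ≠ 1 → (i : G → ℂ) (x * k) = 0
    · have hv1 : ∀ x : (P : Subgroup G), x ≠ 1 → (i : G → ℂ) x = 0 := fun x hx => by
        have := hv x 1 hx
        rwa [OneMemClass.coe_one, mul_one] at this
      have h1 := hsing i fun x k hx => by rw [hv x k hx, hv1 x hx, zero_mul]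
      rw [Finset.sum_eq_zero fun x hx => by rw [hv1 x (Finset.ne_of_mem_erase hx), zero_mul]] at h1
      refine ⟨by exact_mod_cast sub_eq_zero.1 ((mul_eq_zero.1 h1).resolve_left hfp), fun _ => ?_⟩
      have h2 := hs' i
      rw [← Finset.add_sum_erase _ _ (Finset.mem_univ (1 : (P : Subgroup G))), OneMemClass.coe_one,
        H12.irr_apply_one, Finset.sum_eq_zero fun x hx => hv1 x (Finset.ne_of_mem_erase hx),
        add_zero] at h2
      exact_mod_cast h2
    · have hz : ∀ {F : G → ℂ}, (∀ (g : G) (k : H), F (g * k) = F g * (φ : H → ℂ) k) →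
          classInner F (i : G → ℂ) = 0 := fun {F} hc =>
        (vanish_of_not_supp h hft hM hc hns).resolve_right hv
      have z₁ := hz hF.cen₁
      have z₂ := hz hF.cen₂
      rw [c₁, Nat.cast_eq_zero] at z₁
      rw [c₂, Nat.cast_eq_zero] at z₂
      exact ⟨by rw [z₁, z₂], fun h' => absurd z₂ h'⟩
  · have h1 := hF.sum₁
    simp only [e₁] at h1
    rw [Finset.sum_comm, Finset.sum_congr rfl (g := fun i => (p : ℂ) * ((k₁ i * s i : ℕ) : ℂ))
      fun i _ => by rw [← Finset.mul_sum, hs' i]; push_cast; ring, ← Finset.mul_sum,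
      ← Nat.cast_sum] at h1
    exact_mod_cast mul_left_cancel₀ (Nat.cast_ne_zero.2 hp.out.ne_zero) h1
  · have h1 := hF.sum₂
    simp only [e₂] at h1
    rw [Finset.sum_comm, Finset.sum_congr rfl (g := fun i => (p : ℂ) * ((k₂ i * s i : ℕ) : ℂ))
      fun i _ => by rw [← Finset.mul_sum, hs' i]; push_cast; ring, ← Finset.mul_sum,
      ← Nat.cast_sum] at h1
    exact_mod_cast (mul_eq_left₀ (Nat.cast_ne_zero.2 hp.out.ne_zero)).1 h1

/-- The classification of the constituents. -/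
theorem exists_split_prods (hf5 : 5 ≤ f) (hnof : ∀ i : IrrCharacter G, H12.degree (i : G → ℂ) ≠ f) :
    Nonempty (Split n Φ F₁ F₂) := by
  classical
  obtain ⟨k₁, k₂, s, e₁, e₂, hX, hY, hR, hS₁, hS₂⟩ := split_facts h hft hM Φ hF
  have hn := n_eq h hft
  have hp' : p = 2 * f + 1 := by omega
  have c₁ : ∀ i : IrrCharacter G, classInner F₁ (i : G → ℂ) = (k₁ i : ℂ) := fun i => by
    rw [show F₁ = ∑ j : IrrCharacter G, (k₁ j : ℂ) • (j : G → ℂ) from
      funext fun g => by rw [e₁ g]; simp, H12.classInner_sum_smul_irr]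
  have c₂ : ∀ i : IrrCharacter G, classInner F₂ (i : G → ℂ) = (k₂ i : ℂ) := fun i => by
    rw [show F₂ = ∑ j : IrrCharacter G, (k₂ j : ℂ) • (j : G → ℂ) from
      funext fun g => by rw [e₂ g]; simp, H12.classInner_sum_smul_irr]
  -- the trivial character
  have hdone : H12.degree (H12.oneIrr G : G → ℂ) = 1 := by
    have h1 := H12.irr_apply_one (H12.oneIrr G)
    rw [H12.oneIrr_apply] at h1
    exact_mod_cast h1.symm
  have htriv : k₂ (H12.oneIrr G) = 0 := by
    have h1 := hF.triv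
    rw [c₂] at h1
    exact_mod_cast h1
  have hlin : ∀ i : IrrCharacter G, H12.degree (i : G → ℂ) = 1 → i = H12.oneIrr G := fun i hi => by
    obtain ⟨l, hl⟩ := H12.exists_monoidHom_of_apply_one_eq_one (H12.isCharacter_irr i)
      (by rw [H12.irr_apply_one, hi, Nat.cast_one])
    refine Subtype.ext (funext fun g => ?_)
    rw [← congrFun hl g, h.perfect l]
    simp [H12.oneIrr_apply]
  set Xp := Φ.X.filter (fun i => Φ.εX i = 1) with hXp
  set Xm := Φ.X.filter (fun i => Φ.εX i = -1) with hXm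
  have hmem : ∀ i, i ∈ Φ.X ↔ i ∈ Xp ∨ i ∈ Xm := fun i => by
    rw [hXp, hXm, Finset.mem_filter, Finset.mem_filter]
    exact ⟨fun hi => (Φ.εX_eq i hi).imp (⟨hi, ·⟩) (⟨hi, ·⟩), fun hi => hi.elim (·.1) (·.1)⟩
  have hdisj : Disjoint Xp Xm := Finset.disjoint_left.2 fun i h1 h2 => by
    have := (Finset.mem_filter.1 h1).2
    rw [(Finset.mem_filter.1 h2).2] at this
    omega
  have hp_facts : ∀ i ∈ Xp, k₁ i = 1 ∧ k₂ i = 0 ∧ 1 ≤ s i ∧ H12.degree (i : G → ℂ) + 2 * f = p * s i ∧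
      (i ≠ H12.oneIrr G → 2 ≤ s i) ∧ (i = H12.oneIrr G → s i = 1) := by
    intro i hi
    obtain ⟨hiX, hε⟩ := Finset.mem_filter.1 hi
    obtain ⟨hk, hd⟩ := hX i hiX
    rw [hε] at hk hd
    have hd' : H12.degree (i : G → ℂ) + 2 * f = p * s i := by
      zify
      rw [← hft] at hd
      push_cast at hd
      rw [← hft]
      push_cast
      linarith
    have hs1 : 1 ≤ s i := Nat.one_le_iff_ne_zero.2 fun h0 => by
      rw [h0, mul_zero] at hd'; omega
    have hsone : s i = 1 → i = H12.oneIrr G := fun h1 => hlin i (by rw [h1, mul_one] at hd'; omega)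
    have hk2 : k₂ i = 0 := by
      by_contra h0
      have hle : k₂ i * s i ≤ 1 :=
        hS₂ ▸ Finset.single_le_sum (f := fun i => k₂ i * s i) (fun i _ => Nat.zero_le _)
          (Finset.mem_univ i)
      have : s i ≤ 1 := le_trans (Nat.le_mul_of_pos_left _ (Nat.pos_of_ne_zero h0)) hle
      exact h0 (hsone (by omega) ▸ htriv)
    refine ⟨by omega, hk2, hs1, hd', fun hne => ?_, fun he => ?_⟩
    · rcases Nat.lt_or_ge (s i) 2 with h2 | h2
      · exact absurd (hsone (by omega)) hne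
      · exact h2
    · rw [he, hdone] at hd'
      rw [← he] at hd'
      rcases Nat.lt_or_ge (s i) 2 with h2 | h2
      · omega
      · have := Nat.mul_le_mul_left p h2
        omega
  have hm_facts : ∀ i ∈ Xm, k₂ i = k₁ i + 1 ∧ H12.degree (i : G → ℂ) = p * s i + 2 * f ∧
      k₁ i * s i = 0 ∧ k₂ i * s i ≤ 1 := by
    intro i hi
    obtain ⟨hiX, hε⟩ := Finset.mem_filter.1 hi
    obtain ⟨hk, hd⟩ := hX i hiX
    rw [hε] at hk hd
    have hd' : H12.degree (i : G → ℂ) = p * s i + 2 * f := by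
      zify
      rw [← hft] at hd
      push_cast at hd
      rw [← hft]
      push_cast
      linarith
    have hle : k₂ i * s i ≤ 1 :=
      hS₂ ▸ Finset.single_le_sum (f := fun i => k₂ i * s i) (fun i _ => Nat.zero_le _)
        (Finset.mem_univ i)
    refine ⟨by omega, hd', ?_, hle⟩
    have hk' : k₂ i = k₁ i + 1 := by omega
    rw [hk', Nat.add_mul, one_mul] at hle
    rcases Nat.eq_zero_or_pos (s i) with h0 | h0
    · rw [h0, mul_zero]
    · omega
  -- the two exceptional characters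
  have hσ := sgn_mem_lab (p := p) hft
  have hτ : (-1) * (-1 : ZMod p) ^ f ∈ lab 2 := mul_mem_lab hft (neg_one_mem hft) hσ
  set σ : ZMod p := (-1) ^ f with hσdef
  set τ : ZMod p := -1 * σ with hτdef
  have hστ : σ ≠ τ := fun he => by
    rcases neg_one_pow_eq_or (ZMod p) f with h' | h' <;> rw [hτdef, hσdef, h'] at he
    · exact neg_one_ne hft (by linear_combination -he)
    · exact neg_one_ne hft (by linear_combination he)
  have hYne : Φ.Y σ ≠ Φ.Y τ := fun he => hστ (Φ.injY σ hσ τ hτ he)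
  have hlab : lab (p := p) 2 = {σ, τ} := by
    refine (Finset.eq_of_subset_of_card_le (fun A hA => ?_) ?_).symm
    · rcases Finset.mem_insert.1 hA with rfl | hA
      · exact hσ
      · rw [Finset.mem_singleton.1 hA]; exact hτ
    · rw [card_lab hft, Finset.card_pair hστ]
  obtain ⟨hkσ, hdσ⟩ := hY σ hσ
  obtain ⟨hkτ, hdτ⟩ := hY τ hτ
  rw [if_pos rfl, mul_one] at hkσ
  rw [if_neg hστ.symm, mul_zero, sub_zero] at hkτ
  have hdeqσ := Fam.degree_Y_eq h hft Φ hσ
  have hdeqτ := Fam.degree_Y_eq h hft Φ hτ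
  set m := H12.degree (Φ.Y 1 : G → ℂ) with hm
  rw [hdeqσ] at hdσ
  rw [hdeqτ] at hdτ
  have hsY : s (Φ.Y τ) = s (Φ.Y σ) := by
    have : (p : ℤ) * s (Φ.Y τ) = p * s (Φ.Y σ) := by rw [← hdσ, ← hdτ]
    exact_mod_cast mul_left_cancel₀ (by exact_mod_cast hp.out.ne_zero) this
  set sY := s (Φ.Y σ) with hsYdef
  -- the other constituents
  set Ys : Finset (IrrCharacter G) := {Φ.Y σ, Φ.Y τ} with hYs
  set R0 : Finset (IrrCharacter G) := Finset.univ \ (Xp ∪ Xm ∪ Ys) with hR0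
  have hR0m : ∀ i ∈ R0, i ∉ Φ.X ∧ ∀ A ∈ lab (p := p) 2, Φ.Y A ≠ i := fun i hi => by
    rw [hR0, Finset.mem_sdiff, Finset.mem_union, Finset.mem_union, not_or, not_or] at hi
    refine ⟨fun h' => ((hmem i).1 h').elim hi.2.1.1 hi.2.1.2, fun A hA he => hi.2.2 ?_⟩
    rw [hlab] at hA
    rcases Finset.mem_insert.1 hA with rfl | hA
    · rw [hYs, Finset.mem_insert]; exact Or.inl he.symm
    · rw [Finset.mem_singleton.1 hA] at he
      rw [hYs, Finset.mem_insert, Finset.mem_singleton]; exact Or.inr he.symm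
  have hsplit : ∀ (R : Type) [AddCommMonoid R] (F : IrrCharacter G → R),
      ∑ i, F i = ∑ i ∈ Xp, F i + ∑ i ∈ Xm, F i + (F (Φ.Y σ) + F (Φ.Y τ)) + ∑ i ∈ R0, F i := by
    intro R _ F
    have hd2 : Disjoint (Xp ∪ Xm) Ys := Finset.disjoint_left.2 fun i h1 h2 => by
      have hiX : i ∈ Φ.X := (hmem i).2 (Finset.mem_union.1 h1)
      rcases Finset.mem_insert.1 h2 with rfl | h2
      · exact Φ.disj σ hσ hiX
      · rw [Finset.mem_singleton.1 h2] at hiX; exact Φ.disj τ hτ hiX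
    rw [← Finset.sum_pair hYne, ← Finset.sum_union hdisj, ← hYs, ← Finset.sum_union hd2, hR0,
      ← Finset.sum_sdiff (Finset.subset_univ (Xp ∪ Xm ∪ Ys)) (f := F), add_comm]
  have hR0f : ∀ i ∈ R0, k₁ i = k₂ i ∧ (k₂ i ≠ 0 → H12.degree (i : G → ℂ) = p * s i) := fun i hi =>
    hR i (hR0m i hi).1 (hR0m i hi).2
  set z := ∑ i ∈ R0, k₂ i * s i with hz
  set sW := ∑ i ∈ Xm, k₂ i * s i with hsW
  set Sp := ∑ i ∈ Xp, s i with hSp
  set K2 := ∑ i ∈ Xm, k₂ i with hK2
  set E := k₂ (Φ.Y σ) + k₂ (Φ.Y τ) with hE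
  set E' := k₁ (Φ.Y σ) + k₁ (Φ.Y τ) with hE'
  have hT₂ : sW + E * sY + z = 1 := by
    rw [← hS₂, hsplit ℕ, Finset.sum_eq_zero (s := Xp) fun i hi => by rw [(hp_facts i hi).2.1, zero_mul],
      hsY, zero_add, Nat.add_mul]
  have hT₁ : Sp + E' * sY + z = n := by
    rw [← hS₁, hsplit ℕ, Finset.sum_eq_zero (s := Xm) fun i hi => (hm_facts i hi).2.2.1,
      Finset.sum_congr rfl (s₁ := Xp) (g := s) fun i hi => by rw [(hp_facts i hi).1, one_mul],
      Finset.sum_congr rfl (s₁ := R0) fun i hi => by rw [(hR0f i hi).1],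
      hsY, add_zero, Nat.add_mul]
  have hdeg₂ : n * n = p * (sW + z) + E * m + 2 * f * K2 := by
    have h1 := e₂ 1
    rw [hF.one₂, hsplit ℂ] at h1
    simp only [H12.irr_apply_one] at h1
    have h1' : n * n = ∑ i ∈ Xp, k₂ i * H12.degree (i : G → ℂ) +
        ∑ i ∈ Xm, k₂ i * H12.degree (i : G → ℂ) +
        (k₂ (Φ.Y σ) * H12.degree (Φ.Y σ : G → ℂ) + k₂ (Φ.Y τ) * H12.degree (Φ.Y τ : G → ℂ)) +
        ∑ i ∈ R0, k₂ i * H12.degree (i : G → ℂ) := by exact_mod_cast h1
    rw [h1', Finset.sum_eq_zero (s := Xp) fun i hi => by rw [(hp_facts i hi).2.1, zero_mul],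
      hdeqσ, hdeqτ, hE, hsW, hz, hK2,
      Finset.sum_congr rfl (s₁ := Xm) (g := fun i => p * (k₂ i * s i) + 2 * f * k₂ i) fun i hi => by
        rw [(hm_facts i hi).2.1]; ring,
      Finset.sum_congr rfl (s₁ := R0) (g := fun i => p * (k₂ i * s i)) fun i hi => by
        by_cases h0 : k₂ i = 0
        · simp [h0]
        · rw [(hR0f i hi).2 h0]; ring,
      Finset.sum_add_distrib, ← Finset.mul_sum, ← Finset.mul_sum, ← Finset.mul_sum]
    ring
  have hK2b : Xm.card ≤ K2 := by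
    rw [hK2, Finset.card_eq_sum_ones]
    exact Finset.sum_le_sum fun i hi => by have := (hm_facts i hi).1; omega
  have hab : Xp.card + Xm.card = f := by
    rw [← Finset.card_union_of_disjoint hdisj, ← Φ.card_X]
    congr 1
    ext i
    rw [Finset.mem_union]
    exact (hmem i).symm
  -- the trivial character and the lower bound for the invariants
  set ι := iota φ with hι
  have hone_mem : φ = H12.oneIrr H → H12.oneIrr G ∈ Xp := by
    intro hφ
    have hx : ∃ x : (P : Subgroup G), x ≠ 1 :=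
      ⟨⟨u, D.u_mem⟩, fun h' => D.u_ne_one (congrArg Subtype.val h')⟩
    obtain ⟨x, hx⟩ := hx
    obtain ⟨φ', hφ'⟩ := exists_supp_of_ne_zero D h.central_le (χ := H12.oneIrr G) hx
      (by rw [H12.oneIrr_apply]; exact one_ne_zero)
    have he : φ' = φ := Subtype.ext (funext fun k => by
      have h1 := apply_center D h.central_le hM hφ' k
      rw [H12.oneIrr_apply, hdone, Nat.cast_one, mul_one] at h1
      rw [← h1, hφ, H12.oneIrr_apply])
    rw [he] at hφ'
    rcases (Φ.mem_supp _).1 hφ' with hiX | ⟨A, hA, hAi⟩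
    · refine Finset.mem_filter.2 ⟨hiX, ?_⟩
      have h1 := Fam.valX' h hft Φ hiX x hx
      rw [H12.oneIrr_apply] at h1
      exact_mod_cast h1.symm
    · exfalso
      obtain ⟨sA, -, hdA⟩ := Fam.degree_Y h hft Φ hA
      rw [hAi, hdone] at hdA
      rcases Φ.δ_eq with hδ | hδ <;> rw [hδ] at hdA
      · have h0 : (0 : ℤ) ≤ (p : ℤ) * sA := by positivity
        omega
      · rcases Nat.eq_zero_or_pos sA with h0 | h0
        · rw [h0, Nat.cast_zero, mul_zero] at hdA; omega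
        · have : (p : ℤ) * 1 ≤ p * sA := mul_le_mul_of_nonneg_left (by exact_mod_cast h0) (by omega)
          omega
  have hone_not : φ ≠ H12.oneIrr H → H12.oneIrr G ∉ Xp := fun hφ hm1 => by
    refine hφ (Subtype.ext (funext fun k => ?_))
    have h1 := apply_center D h.central_le hM ((Φ.mem_supp _).2 (Or.inl (Finset.mem_filter.1 hm1).1)) k
    rw [H12.oneIrr_apply, hdone, Nat.cast_one, mul_one] at h1
    rw [← h1, H12.oneIrr_apply]
  set base : IrrCharacter G → ℕ := fun i => if i = H12.oneIrr G then 1 else 2 with hbase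
  have hbase_le : ∀ i ∈ Xp, base i ≤ s i := fun i hi => by
    simp only [hbase]
    split_ifs with he
    · exact (hp_facts i hi).2.2.1
    · exact (hp_facts i hi).2.2.2.2.1 he
  have hbsum : ∑ i ∈ Xp, base i + ι = 2 * Xp.card := by
    by_cases hφ : φ = H12.oneIrr H
    · rw [hι, iota, if_pos hφ, ← Finset.add_sum_erase _ _ (hone_mem hφ),
        Finset.sum_congr rfl (g := fun _ => 2) fun i hi => if_neg (Finset.ne_of_mem_erase hi),
        Finset.sum_const, smul_eq_mul, Finset.card_erase_of_mem (hone_mem hφ)]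
      have : base (H12.oneIrr G) = 1 := if_pos rfl
      have := Finset.card_pos.2 ⟨_, hone_mem hφ⟩
      omega
    · rw [hι, iota, if_neg hφ, Finset.sum_congr rfl (g := fun _ => 2) fun i hi => if_neg
        fun he => hone_not hφ (by rw [← he]; exact hi), Finset.sum_const, smul_eq_mul]
      omega
  have hι1 : ι ≤ 1 := by rw [hι, iota]; split_ifs <;> omega
  set V := Xp.filter (fun i => base i < s i) with hV
  set W := Xm.filter (fun i => 0 < s i) with hW
  have hSpV : ∑ i ∈ Xp, base i + ∑ i ∈ Xp, (s i - base i) = Sp := by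
    rw [hSp, ← Finset.sum_add_distrib]
    exact Finset.sum_congr rfl fun i hi => by have := hbase_le i hi; omega
  have hWc : W.card = sW := by
    rw [hW, hsW, Finset.card_filter]
    refine Finset.sum_congr rfl fun i hi => ?_
    obtain ⟨h1, -, -, h4⟩ := hm_facts i hi
    split_ifs with h0
    · have : 1 ≤ k₂ i * s i := Nat.mul_pos (by omega) h0
      omega
    · rw [Nat.eq_zero_of_not_pos h0, mul_zero]
  have hVc : ∑ i ∈ Xp, (s i - base i) ≤ 1 → V.card = ∑ i ∈ Xp, (s i - base i) := fun hle => by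
    rw [hV, Finset.card_filter]
    refine Finset.sum_congr rfl fun i hi => ?_
    have h1 := Finset.single_le_sum (f := fun i => s i - base i) (fun i _ => Nat.zero_le _) hi
    split_ifs <;> omega
  have hn2 : n * n = f * f + 2 * f + 1 := by rw [hn]; ring
  have hf0 : 0 < f := by omega
  -- the cases
  have hcases : ((Φ.δ = -1 ∧ Even f ∧ φ = H12.oneIrr H ∧ m = n ∧ E = 0 ∧ E' = 1 ∧ z = 1 ∧
      V.card = 0 ∧ W.card = 0 ∧ 2 * Xm.card = f) ∨
    (Φ.δ = -1 ∧ Even f ∧ m = n ∧ E = 0 ∧ E' = 1 ∧ z = 0 ∧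
      V.card = ι ∧ W.card = 1 ∧ 2 * Xm.card = f) ∨
    (Φ.δ = -1 ∧ Even f ∧ φ = H12.oneIrr H ∧ m = 3 * f + 2 ∧ E = 0 ∧
      E' = 1 ∧ z = 0 ∧ V.card = 0 ∧ W.card = 1 ∧ 2 * Xm.card = f) ∨
    (Φ.δ = -1 ∧ Odd f ∧ m = n ∧ E = 1 ∧ E' = 2 ∧ z = 0 ∧
      V.card = ι ∧ W.card = 0 ∧ 2 * Xm.card = f + 1) ∨
    (Φ.δ = 1 ∧ Odd f ∧ m = 3 * f + 1 ∧ E = 1 ∧ E' = 0 ∧ z = 0 ∧
      V.card = ι ∧ W.card = 0 ∧ 2 * Xm.card + 1 = f)) ∧ K2 = Xm.card ∧
    ∑ i ∈ Xp, (s i - base i) ≤ 1 := by
    rcases Φ.δ_eq with hδ | hδ <;> rw [hδ] at hkσ hdσ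
    · -- sign `1`
      have hs1 : 1 ≤ sY := Nat.one_le_iff_ne_zero.2 fun h0 => by
        refine hnof (Φ.Y σ) ?_
        rw [h0, Nat.cast_zero, mul_zero] at hdσ
        rw [hdeqσ]
        omega
      have hE1 : 1 ≤ E := by omega
      have hEs : E * sY ≤ 1 := by omega
      have hE1' : E = 1 := by
        have := Nat.le_mul_of_pos_right E hs1
        omega
      have hsY1 : sY = 1 := by rw [hE1', one_mul] at hEs; omega
      rw [hE1', hsY1, mul_one] at hT₂
      rw [hsY1] at hT₁ hdσ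
      have hm' : m = 3 * f + 1 := by push_cast at hdσ; omega
      have hE'0 : E' = 0 := by omega
      have hK : 2 * K2 + 1 = f := by
        rw [hn2, show sW + z = 0 by omega, hE1', hm', mul_zero, zero_add, one_mul] at hdeg₂
        refine Nat.eq_of_mul_eq_mul_left hf0 ?_
        linarith
      rw [hE'0, zero_mul, show z = 0 by omega] at hT₁
      have := hVc (by omega)
      exact ⟨Or.inr (Or.inr (Or.inr (Or.inr ⟨hδ, ⟨K2, hK.symm⟩, hm', hE1', hE'0, by omega, by omega,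
        by omega, by omega⟩))), by omega, by omega⟩
    · -- sign `-1`
      have hs1 : 1 ≤ sY := Nat.one_le_iff_ne_zero.2 fun h0 => by
        rw [h0, Nat.cast_zero, mul_zero] at hdσ
        omega
      have hE' : E' = E + 1 := by omega
      have hEs : E * sY ≤ 1 := by omega
      rcases Nat.eq_zero_or_pos E with hE0 | hE0
      · rw [hE0, zero_mul] at hT₂ hdeg₂
        rw [hE', hE0, zero_add, one_mul] at hT₁
        rw [hn2, show sW + z = 1 by omega, mul_one, add_zero] at hdeg₂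
        have hK : 2 * K2 = f := by
          refine Nat.eq_of_mul_eq_mul_left hf0 ?_
          rw [hp'] at hdeg₂
          linarith
        have hev : Even f := ⟨K2, by omega⟩
        have hsY2 : sY ≤ 2 := by omega
        have hVle := hVc (by omega)
        have hm' : (m : ℤ) + f = p * sY := by linarith
        by_cases hz1 : z = 1
        · have hι1' : ι = 1 := by omega
          have hsY1 : sY = 1 := by omega
          rw [hsY1, Nat.cast_one, mul_one] at hm'
          refine ⟨Or.inl ⟨hδ, hev, ?_, by omega, hE0, by omega, hz1, by omega, by omega, by omega⟩,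
            by omega, by omega⟩
          by_contra hφ
          rw [hι, iota, if_neg hφ] at hι1'
          omega
        · rcases Nat.lt_or_ge sY 2 with h2 | h2
          · rw [show sY = 1 by omega, Nat.cast_one, mul_one] at hm'
            exact ⟨Or.inr (Or.inl ⟨hδ, hev, by omega, hE0, by omega, by omega, by omega, by omega,
              by omega⟩), by omega, by omega⟩
          · rw [show sY = 2 by omega] at hm'
            push_cast at hm'
            have hι1' : ι = 1 := by omega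
            refine ⟨Or.inr (Or.inr (Or.inl ⟨hδ, hev, ?_, by omega, hE0, by omega, by omega, by omega,
              by omega, by omega⟩)), by omega, by omega⟩
            by_contra hφ
            rw [hι, iota, if_neg hφ] at hι1'
            omega
      · have hE1 : E = 1 := by
          have := Nat.le_mul_of_pos_right E hs1
          omega
        have hsY1 : sY = 1 := by rw [hE1, one_mul] at hEs; omega
        rw [hE1, hsY1, mul_one] at hT₂
        rw [hE', hE1, hsY1, mul_one] at hT₁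
        rw [hsY1, Nat.cast_one, mul_one] at hdσ
        have hm' : m = n := by omega
        have hK : 2 * K2 = f + 1 := by
          rw [hn2, show sW + z = 0 by omega, hE1, hm', hn, mul_zero, zero_add, one_mul] at hdeg₂
          refine Nat.eq_of_mul_eq_mul_left hf0 ?_
          linarith
        have := hVc (by omega)
        exact ⟨Or.inr (Or.inr (Or.inr (Or.inl ⟨hδ, Nat.odd_iff.2 (by omega), hm', hE1, by omega,
          by omega, by omega, by omega, by omega⟩))), by omega, by omega⟩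
  obtain ⟨hkind, hKb, hexc⟩ := hcases
  have hk2one : ∀ i ∈ Xm, k₂ i = 1 := fun i hi => by
    have h1 := Finset.sum_eq_sum_iff_of_le (s := Xm) (f := fun _ => 1) (g := k₂) (fun j hj => by
      have := (hm_facts j hj).1; omega)
    rw [← Finset.card_eq_sum_ones] at h1
    exact ((h1.1 hKb.symm) i hi).symm
  have hz0 : z = 0 → ∀ i ∈ R0, k₂ i = 0 := fun hz' i hi => by
    by_contra h0
    have hd := (hR0f i hi).2 h0
    have h1 := Finset.sum_eq_zero_iff.1 hz' i hi
    rw [(Nat.mul_eq_zero.1 h1).resolve_left h0, mul_zero] at hd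
    exact (H12.irr_degree_pos i).ne' hd
  refine ⟨{
    Xp := Xp, Xm := Xm, V := V, W := W, E := E, E' := E', z := z
    union := hmem
    disjoint := hdisj
    eps_p := fun i hi => (Finset.mem_filter.1 hi).2
    eps_m := fun i hi => (Finset.mem_filter.1 hi).2
    sub_V := Finset.filter_subset _ _
    sub_W := Finset.filter_subset _ _
    one_V := fun hm1 => ?_
    one_mem := hone_mem
    one_not := hone_not
    deg_V := fun i hi => ?_
    deg_p := fun i hi hne hiV => ?_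
    deg_W := fun i hi => ?_
    deg_m := fun i hi hiW => ?_
    kind := hkind
    expand₁ := fun hz' g hg => ?_
    expand₂ := fun hz' g hg => ?_
    mult_p := fun i hi => by rw [c₁, (hp_facts i hi).1, Nat.cast_one]
    mult_m := fun i hi => by rw [c₂, hk2one i hi, Nat.cast_one]
    mult_Y₁ := fun hE1 => ?_
    mult_Y₂ := fun hE1 => ?_
    norm₁ := ?_ }⟩
  · obtain ⟨hi, hlt⟩ := Finset.mem_filter.1 hm1
    rw [(hp_facts _ hi).2.2.2.2.2 rfl, show base (H12.oneIrr G) = 1 from if_pos rfl] at hlt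
    omega
  · obtain ⟨hiX, hlt⟩ := Finset.mem_filter.1 hi
    obtain ⟨-, -, -, hd, -, hone1⟩ := hp_facts i hiX
    have hne : i ≠ H12.oneIrr G := fun he => by
      rw [hone1 he, show base i = 1 from if_pos he] at hlt
      omega
    have hb : base i = 2 := if_neg hne
    have h1 := Finset.single_le_sum (f := fun j => s j - base j) (fun i _ => Nat.zero_le _) hiX
    rw [show s i = 3 by omega] at hd
    omega
  · have h2 : s i = 2 := by
      have hb : base i = 2 := if_neg hne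
      have h3 := hbase_le i hi
      have h4 : ¬ base i < s i := fun hlt => hiV (Finset.mem_filter.2 ⟨hi, hlt⟩)
      omega
    have := (hp_facts i hi).2.2.2.1
    rw [h2] at this
    omega
  · obtain ⟨hiX, h0⟩ := Finset.mem_filter.1 hi
    obtain ⟨hk, hd, -, hle⟩ := hm_facts i hiX
    rw [hk2one i hiX, one_mul] at hle
    rw [show s i = 1 by omega] at hd
    omega
  · have h0 : s i = 0 := by
      by_contra h0
      exact hiW (Finset.mem_filter.2 ⟨hi, Nat.pos_of_ne_zero h0⟩)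
    rw [(hm_facts i hi).2.1, h0]
    omega
  · rw [e₁ g, hsplit ℂ, Φ.regY σ hσ g hg, Φ.regY τ hτ g hg,
      Finset.sum_congr rfl (s₁ := Xp) (g := fun i => (i : G → ℂ) g) fun i hi => by
        rw [(hp_facts i hi).1, Nat.cast_one, one_mul],
      Finset.sum_eq_zero (s := Xm) fun i hi => by
        rw [show k₁ i = 0 by have := (hm_facts i hi).1; rw [hk2one i hi] at this; omega,
          Nat.cast_zero, zero_mul],
      Finset.sum_eq_zero (s := R0) fun i hi => by
        rw [(hR0f i hi).1, hz0 hz' i hi, Nat.cast_zero, zero_mul], hE']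
    push_cast
    ring
  · rw [e₂ g, hsplit ℂ, Φ.regY σ hσ g hg, Φ.regY τ hτ g hg,
      Finset.sum_eq_zero (s := Xp) fun i hi => by
        rw [(hp_facts i hi).2.1, Nat.cast_zero, zero_mul],
      Finset.sum_congr rfl (s₁ := Xm) (g := fun i => (i : G → ℂ) g) fun i hi => by
        rw [hk2one i hi, Nat.cast_one, one_mul],
      Finset.sum_eq_zero (s := R0) fun i hi => by
        rw [hz0 hz' i hi, Nat.cast_zero, zero_mul], hE]
    push_cast
    ring
  · rcases Nat.eq_zero_or_pos (k₁ (Φ.Y σ)) with h0 | h0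
    · exact ⟨τ, hτ, k₁ (Φ.Y τ), by omega, c₁ _⟩
    · exact ⟨σ, hσ, k₁ (Φ.Y σ), h0, c₁ _⟩
  · rcases Nat.eq_zero_or_pos (k₂ (Φ.Y σ)) with h0 | h0
    · exact ⟨τ, hτ, k₂ (Φ.Y τ), by omega, c₂ _⟩
    · exact ⟨σ, hσ, k₂ (Φ.Y σ), h0, c₂ _⟩
  · refine ⟨∑ i : IrrCharacter G, k₁ i * k₁ i, ?_, ?_⟩
    · conv_lhs => rw [show F₁ = ∑ j : IrrCharacter G, (k₁ j : ℂ) • (j : G → ℂ) from
        funext fun g => by rw [e₁ g]; simp]
      rw [H12.classInner_sum_smul_sum_smul]
      simp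
    · rw [hsplit ℕ (fun i => k₁ i * k₁ i)]
      have hzR : z ≤ ∑ i ∈ R0, k₁ i * k₁ i := by
        have hzle : z ≤ 1 := by omega
        rcases Nat.eq_zero_or_pos z with h0 | h0
        · omega
        · obtain ⟨i, hi, hne⟩ := Finset.exists_ne_zero_of_sum_ne_zero (by omega : z ≠ 0)
          have : 1 ≤ k₁ i * k₁ i := by
            have hk0 : k₂ i ≠ 0 := fun h' => hne (by rw [h', zero_mul])
            rw [(hR0f i hi).1]
            exact Nat.mul_pos (Nat.pos_of_ne_zero hk0) (Nat.pos_of_ne_zero hk0)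
          have := Finset.single_le_sum (f := fun i => k₁ i * k₁ i) (fun i _ => Nat.zero_le _) hi
          omega
      rw [Finset.sum_congr rfl (s₁ := Xp) (g := fun _ => 1) fun i hi => by rw [(hp_facts i hi).1],
        ← Finset.card_eq_sum_ones]
      have h1 : ∀ k : ℕ, k ≤ k * k := fun k => Nat.le_mul_self k
      have := h1 (k₁ (Φ.Y σ))
      have := h1 (k₁ (Φ.Y τ))
      omega

end H15.Degree
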