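import Cfsg.Agent.H17.FS
import Cfsg.Agent.H12.Basic

/-!
The symmetric square of a character (helper15); adapted from `H18.isCharacter_symSq`.
-/

set_option autoImplicit false

open Cfsg Matrix

namespace H15.Degree

universe u

variable {G : Type u} [Group G] [Finite G]

theorem isCharacter_symSq {χ : G → ℂ} (h : IsCharacter G χ) :
    IsCharacter G (fun g => (χ g * χ g + χ (g * g)) / 2) := by
  obtain ⟨n, ρ, rfl⟩ := h
  set X := H17.rmat ρ with hX
  let W : Submodule ℂ (Matrix (Fin n) (Fin n) ℂ) :=
    LinearMap.ker (H17.transL - LinearMap.id)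
  have hW : ∀ M, M ∈ W ↔ Mᵀ = M := fun M => by
    simp [W, H17.transL_apply, sub_eq_zero]
  have hmaps : ∀ g, ∀ M ∈ W, H17.sandwich (X g) (X g)ᵀ M ∈ W := by
    intro g M hM
    rw [hW] at hM ⊢
    rw [H17.sandwich_apply, transpose_mul, transpose_mul, transpose_transpose, hM]
    simp [mul_assoc]
  let σ : Representation ℂ G W :=
    { toFun := fun g => (H17.sandwich (X g) (X g)ᵀ).restrict (hmaps g)
      map_one' := LinearMap.ext fun M => Subtype.ext (by
        simp [LinearMap.restrict_apply, H17.sandwich_apply])
      map_mul' := fun a b => LinearMap.ext fun M => Subtype.ext (by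
        simp [LinearMap.restrict_apply, H17.sandwich_apply, mul_assoc]) }
  have hσ : σ.character = fun g =>
      (ρ.character g * ρ.character g + ρ.character (g * g)) / 2 := by
    funext g
    let f : Matrix (Fin n) (Fin n) ℂ →ₗ[ℂ] Matrix (Fin n) (Fin n) ℂ :=
      (2 : ℂ)⁻¹ • (H17.sandwich (X g) (X g)ᵀ + H17.transL ∘ₗ H17.sandwich (X g) (X g)ᵀ)
    have hf : ∀ M, f M ∈ W := fun M => by
      rw [hW]
      simp only [f, LinearMap.smul_apply, LinearMap.add_apply, LinearMap.comp_apply,
        H17.transL_apply, transpose_smul, transpose_add, transpose_transpose, add_comm]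
    have e : σ g = f.restrict (fun M (_ : M ∈ W) => hf M) := by
      refine LinearMap.ext fun M => Subtype.ext ?_
      show H17.sandwich (X g) (X g)ᵀ (M : Matrix (Fin n) (Fin n) ℂ) = f M
      have h1 := (hW _).mp (hmaps g M M.2)
      simp only [f, LinearMap.smul_apply, LinearMap.add_apply, LinearMap.comp_apply,
        H17.transL_apply, h1, ← two_smul ℂ, smul_smul,
        inv_mul_cancel₀ (two_ne_zero : (2 : ℂ) ≠ 0), one_smul]
    show LinearMap.trace ℂ W (σ g) = _
    rw [e, LinearMap.trace_restrict_eq_of_forall_mem W f hf, map_smul, map_add,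
      H17.trace_sandwich, H17.trace_transL_sandwich, ← transpose_mul, trace_transpose,
      trace_transpose, ← map_mul, smul_eq_mul, hX, H17.trace_rmat, H17.trace_rmat]
    ring
  rw [← hσ]
  exact H12.isCharacter_character σ

end H15.Degree
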