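import Cfsg.Agent.H15.Degree.Products
import Cfsg.Agent.H15.Degree.SymSq
import Cfsg.Agent.H18.WedgeChar

/-!
Degrees below `p - 1` (helper15): the exterior and the symmetric square of the small character.
-/

set_option autoImplicit false
set_option linter.style.haveILetI false
set_option linter.unusedSectionVars false

open Cfsg
open scoped ComplexConjugate

namespace H15.Degree

open H85.D1 H15.HalfDeg

universe u

variable {G : Type u} [Group G] [Fintype G] {p : ℕ} [hp : Fact p.Prime]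
  {P : Sylow p G} {u a : G} {H : Subgroup G} [Fintype H] [Fintype (P : Subgroup G)]
  {D : Setting P u a H} [Fintype (D.aut (H12.oneIrr H))] {f n t : ℕ}
  {χ : IrrCharacter G} {θ : IrrCharacter H} {ψ : (P : Subgroup G) →* ℂˣ}

local notation "NP" => Subgroup.normalizer ((P : Subgroup G) : Set G)
local notation "CP" => Subgroup.centralizer ((P : Subgroup G) : Set G)

variable (h : Neg D f n χ θ ψ) (hft : f * t + 1 = p) (ht : 3 ≤ t)
include h hft

/-- Multiplicities in a block of a character with values half integral combinations of periods. -/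
theorem Fam.exists_mult_half {φ : IrrCharacter H} (Φ : Fam D f t ψ φ) {F : G → ℂ}
    (hF : IsCharacter G F) (c₀ : ℂ) (Mc : ZMod p → ℤ)
    (hFv : ∀ x : (P : Subgroup G), x ≠ 1 → ∀ k : H, F (x * k) =
      (c₀ + (∑ C ∈ lab (p := p) t, (Mc C : ℂ) * per ψ f C x) / 2) * (φ : H → ℂ) k) :
    ∃ (k : ZMod p → ℕ) (z : ℤ), (∀ A, classInner F (Φ.Y A : G → ℂ) = (k A : ℂ)) ∧
      ∀ A ∈ lab (p := p) t, 2 * Φ.δ * (k A : ℤ) = Mc A + z := by
  choose k hk using fun A => H12.IsCharacter.classInner_nat hF (H12.isCharacter_irr (Φ.Y A))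
  obtain ⟨z, hz⟩ := Fam.inner_Y h hft Φ (H12.IsCharacter.isClassFunction hF) c₀
    (fun C => (Mc C : ℂ) / 2) fun x hx k => by
      rw [hFv x hx k, Finset.sum_div]
      simp only [div_mul_eq_mul_div]
  refine ⟨k, 2 * Φ.δ * (k 1 : ℤ) - Mc 1, hk, fun A hA => ?_⟩
  have h1 := hz A hA
  have h2 := hz 1 (one_mem_lab hft)
  rw [hk] at h1 h2
  have : ((2 * Φ.δ * (k A : ℤ) : ℤ) : ℂ) = ((Mc A + (2 * Φ.δ * (k 1 : ℤ) - Mc 1) : ℤ) : ℂ) := by
    push_cast
    linear_combination 2 * h1 - 2 * h2
  exact_mod_cast this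

variable {M : Ideal AlgInt} [M.IsPrime] (hM : IsPModular p M)
include hM

/-- The two squares on the translates of `P`. -/
theorem square_central (x : G) (k : H) :
    (χ : G → ℂ) (x * k) * (χ : G → ℂ) (x * k) =
      (χ : G → ℂ) x * (χ : G → ℂ) x * ((θ : H → ℂ) k ^ 2) ∧
    (χ : G → ℂ) (x * k * (x * k)) = (χ : G → ℂ) (x * x) * ((θ : H → ℂ) k ^ 2) := by
  refine ⟨by rw [central_mul D h.central_le hM h.mem_supp]; ring, ?_⟩
  have hk : x * (k : G) = (k : G) * x := Subgroup.mem_center_iff.1 (h.central_le k.2) x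
  rw [show x * (k : G) * (x * k) = x * x * (k : G) * k by
    rw [mul_assoc x (k : G), ← mul_assoc (k : G) x, ← hk]; group,
    central_mul D h.central_le hM h.mem_supp, central_mul D h.central_le hM h.mem_supp]
  ring

omit hM in
/-- The period of the squares. -/
theorem per_two (x : (P : Subgroup G)) :
    per ψ f (1 : ZMod p) (x * x) =
      ∑ C ∈ lab (p := p) t, ((if C = (2 : ZMod p) ^ f then 1 else 0 : ℤ) : ℂ) * per ψ f C x := by
  have hp2 : (2 : ZMod p) ≠ 0 := two_ne_zero' (by
    have := h.le_half; have := h.two_le; omega)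
  rw [per_sq_apply D.hP hft _ hp2, one_mul,
    Finset.sum_eq_single ((2 : ZMod p) ^ f) (fun C _ hC => by rw [if_neg hC]; simp)
      (fun hC => absurd (pow_f_mem_lab hft hp2) hC), if_pos rfl, Int.cast_one, one_mul]

omit hM in
theorem sq_ne_one (x : (P : Subgroup G)) (hx : x ≠ 1) : x * x ≠ 1 := fun he => hx (by
  have h1 : orderOf x ∣ 2 := orderOf_dvd_of_pow_eq_one (by rw [pow_two, he])
  have h2 : orderOf x ∣ p := by
    have := orderOf_dvd_natCard x
    rwa [D.hP] at this
  have hp2 : p ≠ 2 := by have := h.le_half; have := h.two_le; omega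
  have h3 : orderOf x ∣ Nat.gcd 2 p := Nat.dvd_gcd h1 h2
  rw [(Nat.coprime_primes Nat.prime_two hp.out).2 (Ne.symm hp2)] at h3
  exact orderOf_eq_one_iff.1 (Nat.dvd_one.1 h3))

omit hM in
/-- The values at the squares summed over `P`. -/
theorem sum_sq_val : ∑ x : (P : Subgroup G), (χ : G → ℂ) ((x : G) * x) = (p : ℂ) := by
  classical
  have hinj : Function.Injective fun x : (P : Subgroup G) => x * x := by
    intro x y hxy
    have hA := commOf (A := (P : Subgroup G)) D.hP
    have h1 : (x * y⁻¹) * (x * y⁻¹) = 1 := by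
      rw [mul_assoc, ← mul_assoc y⁻¹ x, hA y⁻¹ x, mul_assoc x y⁻¹, ← mul_assoc, show x * x = y * y
        from hxy]
      group
    by_contra hne
    exact sq_ne_one h hft _ (fun h' => hne (mul_inv_eq_one.1 h')) h1
  rw [Fintype.sum_bijective (fun x : (P : Subgroup G) => x * x)
      (Finite.injective_iff_bijective.1 hinj) (fun x : (P : Subgroup G) => (χ : G → ℂ) ((x : G) * x))
      (fun x : (P : Subgroup G) => (χ : G → ℂ) (x : G)) (fun x => rfl),
    ← Finset.add_sum_erase _ _ (Finset.mem_univ (1 : (P : Subgroup G))),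
    Finset.sum_congr rfl fun x hx => h.val_per hft x (Finset.ne_of_mem_erase hx),
    Finset.sum_neg_distrib, sum_erase_per D.hP h.psi_ne hft (one_mem_lab hft), OneMemClass.coe_one,
    H12.irr_apply_one, h.degree_eq, neg_neg]
  exact_mod_cast h.add_eq

omit hM in
/-- The squared values summed over `P`. -/
theorem sum_val_sq : ∑ x : (P : Subgroup G), (χ : G → ℂ) x * (χ : G → ℂ) x =
    (n : ℂ) * n - (f : ℂ) * f + (if ((-1 : ZMod p)) ^ f = 1 then (p : ℂ) * f else 0) := by
  classical
  have hσ := sgn_mem_lab (p := p) hft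
  rw [← Finset.add_sum_erase _ _ (Finset.mem_univ (1 : (P : Subgroup G))), OneMemClass.coe_one,
    H12.irr_apply_one, h.degree_eq,
    Finset.sum_congr rfl (g := fun x => per ψ f (1 : ZMod p) x * conj (per ψ f ((-1 : ZMod p) ^ f) x))
      fun x hx => by
        rw [h.val_per hft x (Finset.ne_of_mem_erase hx), conj_per D.hP hft,
          show ((-1 : ZMod p)) ^ f * (-1) ^ f = 1 by rw [← mul_pow]; norm_num]
        ring,
    sum_erase_per_mul_conj D.hP h.psi_ne hft 1 _ (one_mem_lab hft) hσ]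
  simp only [eq_comm (a := (1 : ZMod p))]
  ring

omit hM in
/-- The inertial group has only one involution. -/
theorem involution_unique {α β : ↥(D.aut (H12.oneIrr H))} (hα : α * α = 1) (hα1 : α ≠ 1)
    (hβ : β * β = 1) (hβ1 : β ≠ 1) : α = β := by
  have key : ∀ γ : ↥(D.aut (H12.oneIrr H)), γ * γ = 1 → γ ≠ 1 → ∀ x : (P : Subgroup G),
      (γ : MulAut (P : Subgroup G)) x = x⁻¹ := by
    intro γ hγ hγ1 x
    have hA := commOf (A := (P : Subgroup G)) D.hP
    set γ' := (γ : MulAut (P : Subgroup G)) with hγ'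
    have hγγ : ∀ y, γ' (γ' y) = y := fun y => by
      have h1 := congrArg (fun δ : ↥(D.aut (H12.oneIrr H)) => (δ : MulAut (P : Subgroup G)) y) hγ
      simpa [Subgroup.coe_mul, MulAut.mul_apply] using h1
    by_contra hne
    have hy : x * γ' x ≠ 1 := fun h' => hne (eq_inv_of_mul_eq_one_right h')
    have hfix : γ' (x * γ' x) = x * γ' x := by rw [map_mul, hγγ, hA]
    refine hγ1 (Subtype.ext (MulEquiv.ext fun z => ?_))
    obtain ⟨i, hi⟩ := zpowers_top D.hP hy z
    show γ' z = z
    rw [← hi, map_zpow, hfix]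
  exact Subtype.ext (MulEquiv.ext fun x => by rw [key α hα hα1 x, key β hβ hβ1 x])

variable [Fintype ↥(Subgroup.normalizer ((P : Subgroup G) : Set G))]

/-- The squares outside the centralizer. -/
theorem sq_outside {l : ↥(NP) →* ℂˣ} (hl : ∀ g : ↥(NP), (g : G) ∉ CP → (χ : G → ℂ) g = (l g : ℂ))
    (hlC : ∀ (x : (P : Subgroup G)) (k : H),
      (l ⟨(x : G) * k, Subgroup.centralizer_le_normalizer _ (mem_CP_mul D x k)⟩ : ℂ) =
        (θ : H → ℂ) k) (g : ↥(NP)) (hg : (g : G) ∉ CP) [Decidable ((g : G) * g ∈ CP)] :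
    (χ : G → ℂ) ((g : G) * g) = (if (g : G) * g ∈ CP then (n : ℂ) else 1) * (l g : ℂ) ^ 2 := by
  have e : ((l (g * g)) : ℂ) = (l g : ℂ) ^ 2 := by rw [map_mul, Units.val_mul, pow_two]
  split_ifs with hgg
  · obtain ⟨x, hx, k, hk, hxk⟩ := D.exists_mul hgg
    have hx1 : x = 1 := by
      by_contra hx1
      have hreg := regular_of_notMem D g hg
      refine hreg (dvd_trans ?_ (orderOf_pow_dvd (x := (g : G)) 2))
      have hcop : Nat.Coprime (orderOf ((g : G) ^ 2)) p :=
        ((hp.out.coprime_iff_not_dvd).2 fun hd => hreg (hd.trans (orderOf_pow_dvd (x := (g : G)) 2))).symm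
      exfalso
      refine hx1 ?_
      have hcomm : Commute x k := by
        have := Subgroup.mem_center_iff.1 (h.central_le hk) x
        exact this
      have h1 : x ^ orderOf ((g : G) ^ 2) * k ^ orderOf ((g : G) ^ 2) = 1 := by
        rw [← hcomm.mul_pow, ← hxk, ← pow_two, pow_orderOf_eq_one]
      have h2 : x ^ orderOf ((g : G) ^ 2) = 1 := by
        have h3 : H20.pPart p (x ^ orderOf ((g : G) ^ 2) * k ^ orderOf ((g : G) ^ 2)) =
            x ^ orderOf ((g : G) ^ 2) := D.pPart_mul (pow_mem hx _) (pow_mem hk _)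
        have h4 : H20.pPart p ((1 : G) * 1) = 1 := D.pPart_mul (one_mem _) (one_mem _)
        rw [h1] at h3
        rw [one_mul] at h4
        rw [← h3, h4]
      have h5 : orderOf x ∣ Nat.gcd (orderOf ((g : G) ^ 2)) p :=
        Nat.dvd_gcd (orderOf_dvd_of_pow_eq_one h2) (by
          have := orderOf_dvd_natCard (⟨x, hx⟩ : (P : Subgroup G))
          rwa [D.hP, Subgroup.orderOf_mk] at this)
      rw [hcop] at h5
      exact orderOf_eq_one_iff.1 (Nat.dvd_one.1 h5)
    rw [hx1, one_mul] at hxk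
    rw [← e, hxk, show k = ((⟨k, hk⟩ : H) : G) from rfl, apply_center D h.central_le hM h.mem_supp,
      h.degree_eq, show (g * g : ↥(NP)) = ⟨((1 : (P : Subgroup G)) : G) * ((⟨k, hk⟩ : H) : G),
        Subgroup.centralizer_le_normalizer _ (mem_CP_mul D 1 ⟨k, hk⟩)⟩ from Subtype.ext (by simp [hxk]),
      hlC]
    ring
  · rw [one_mul, ← e, ← hl (g * g) (by simpa using hgg), Subgroup.coe_mul]

end H15.Degree
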