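import Cfsg.Agent.H15.Degree.Two
import Cfsg.Agent.H15.HalfDeg.ClassSum

/-!
Degrees below `p - 1` (helper15): two classes of elements of order `p`; inequalities between the
blocks from the non-negativity of class sums.
-/

set_option autoImplicit false
set_option linter.style.haveILetI false
set_option linter.unusedSectionVars false

open Cfsg
open scoped ComplexConjugate

namespace H15.Degree

open H85.D1 H15.HalfDeg

universe u

variable {G : Type u} [Group G] [Fintype G] {p : ℕ} [hp : Fact p.Prime]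
  {P : Sylow p G} {u a : G} {H : Subgroup G} [Fintype H] [Fintype (P : Subgroup G)]
  {D : Setting P u a H} [Fintype (D.aut (H12.oneIrr H))] {f n : ℕ}
  {χ : IrrCharacter G} {θ : IrrCharacter H} {ψ : (P : Subgroup G) →* ℂˣ}

/-- The sum of the two class sums of a block, normalised. -/
noncomputable def blockR {D : Setting P u a H} [Fintype (D.aut (H12.oneIrr H))] {f : ℕ} (n : ℕ)
    {ψ : (P : Subgroup G) →* ℂˣ} {φ : IrrCharacter H} (Φ : Fam D f 2 ψ φ) (g : G) : ℂ :=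
  (f : ℂ) * n / p * (2 * ∑ i ∈ Φ.X, (i : G → ℂ) g / (H12.degree (i : G → ℂ) : ℂ) +
    (Φ.Y 1 : G → ℂ) g / (H12.degree (Φ.Y 1 : G → ℂ) : ℂ))

/-- The difference of the two class sums of a block, normalised. -/
noncomputable def blockD {D : Setting P u a H} [Fintype (D.aut (H12.oneIrr H))] {f : ℕ} (n : ℕ)
    {ψ : (P : Subgroup G) →* ℂˣ} {φ : IrrCharacter H} (Φ : Fam D f 2 ψ φ) (g : G) : ℂ :=
  (f : ℂ) * n / (H12.degree (Φ.Y 1 : G → ℂ) : ℂ) * (Φ.Y 1 : G → ℂ) g

variable (h : Neg D f n χ θ ψ) (hft : f * 2 + 1 = p)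
include h hft

omit h in
theorem per_pow (h : Neg D f n χ θ ψ) (A c : ZMod p) (hc : c ≠ 0) (x : (P : Subgroup G)) :
    per ψ f A (x ^ c.val) = per ψ f (A * c ^ f) x := by
  rw [per, per, ← sum_fib_mul hft (fun b => ev ψ b x) hc]
  refine Finset.sum_congr rfl fun b _ => ?_
  rw [ev, ev, map_pow, Units.val_pow_eq_pow_val, ← pow_mul]
  exact lin_pow_congr D.hP ψ x (by simp [mul_comm])

variable {M : Ideal AlgInt} [M.IsPrime] (hM : IsPModular p M)
include hM

/-- The two class sums of a block. -/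
theorem exists_points : ∃ x₁ x₂ : G, ∀ (φ : IrrCharacter H) (Φ : Fam D f 2 ψ φ) (y : G),
    ¬ p ∣ orderOf y →
      (f : ℂ) * n / p * conj (blockSum D φ (u : G) x₁ y + blockSum D φ (u : G) x₂ y) = blockR n Φ y ∧
      (f : ℂ) * n / p * conj (blockSum D φ (u : G) x₁ y - blockSum D φ (u : G) x₂ y) = blockD n Φ y := by
  classical
  set u₁ : (P : Subgroup G) := ⟨u, D.u_mem⟩ with hu₁
  have hu1 : u₁ ≠ 1 := fun h' => D.u_ne_one (congrArg Subtype.val h')
  obtain ⟨c, hc⟩ := fib_nonempty hft (neg_one_mem (p := p) hft)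
  have hc0 := fib_ne_zero hft (neg_one_mem hft) hc
  set v : (P : Subgroup G) := u₁ ^ c.val with hv
  have hv1 : v ≠ 1 := fun he => hc0 (by
    have hord : orderOf u₁ = p := by
      rw [← Subgroup.orderOf_coe]; exact D.orderOf_eq u₁.2 D.u_ne_one
    have h1 := orderOf_dvd_of_pow_eq_one he
    rw [hord] at h1
    rw [← ZMod.natCast_zmod_val c, (ZMod.natCast_eq_zero_iff _ _).2 h1])
  refine ⟨((u₁⁻¹ : (P : Subgroup G)) : G), ((v⁻¹ : (P : Subgroup G)) : G), fun φ Φ y hy => ?_⟩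
  have hu1i : u₁⁻¹ ≠ 1 := inv_ne_one.2 hu1
  have hv1i : v⁻¹ ≠ 1 := inv_ne_one.2 hv1
  have hperinv : ∀ (A : ZMod p) (x : (P : Subgroup G)), per ψ f A x⁻¹ = conj (per ψ f A x) := by
    intro A x
    simp only [per, map_sum]
    refine Finset.sum_congr rfl fun b _ => ?_
    rw [ev, ev, map_inv, Units.val_inv_eq_inv_val, inv_pow,
      Complex.inv_eq_conj (by rw [norm_pow, Complex.norm_eq_one_of_pow_eq_one
        (pow_p_lin D.hP ψ x) hp.out.ne_zero, one_pow])]
  have hset : (D.supp φ).toFinset = Φ.X ∪ (lab (p := p) 2).image Φ.Y := by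
    ext i
    rw [Set.mem_toFinset, Finset.mem_union, Finset.mem_image]
    exact Φ.mem_supp i
  have hdisj : Disjoint Φ.X ((lab (p := p) 2).image Φ.Y) := Finset.disjoint_left.2 fun i hi hi' => by
    obtain ⟨A, hA, rfl⟩ := Finset.mem_image.1 hi'
    exact Φ.disj A hA hi
  have hδ2 : (Φ.δ : ℂ) * Φ.δ = 1 := by rcases Φ.δ_eq with h' | h' <;> rw [h'] <;> norm_num
  have hsum : ∀ x' : (P : Subgroup G), x' ≠ 1 → conj (blockSum D φ (u : G) x' y) =
      ∑ i ∈ Φ.X, (i : G → ℂ) y / (H12.degree (i : G → ℂ) : ℂ) +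
      conj (per ψ f (1 : ZMod p) u₁ * per ψ f (1 : ZMod p) x' +
        per ψ f (-1 : ZMod p) u₁ * per ψ f (-1 : ZMod p) x') *
        ((Φ.Y 1 : G → ℂ) y / (H12.degree (Φ.Y 1 : G → ℂ) : ℂ)) := by
    intro x' hx'
    rw [blockSum, hset, Finset.sum_union hdisj,
      Finset.sum_image fun A hA B hB e => Φ.injY A hA B hB e, sum_lab_two hft, map_add]
    congr 1
    · rw [map_sum]
      refine Finset.sum_congr rfl fun i hi => ?_
      rw [show (i : G → ℂ) u = (Φ.εX i : ℂ) from Fam.valX' h hft Φ hi u₁ hu1,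
        Fam.valX' h hft Φ hi x' hx', H12.irr_apply_one, map_div₀, map_mul, Complex.conj_conj,
        map_natCast, map_mul, map_intCast]
      rcases Φ.εX_eq i hi with h' | h' <;> rw [h'] <;> push_cast <;> ring
    · rw [show (Φ.Y 1 : G → ℂ) u = _ from Fam.valY' h hft Φ (one_mem_lab hft) u₁ hu1,
        Fam.valY' h hft Φ (one_mem_lab hft) x' hx',
        show (Φ.Y (-1) : G → ℂ) u = _ from Fam.valY' h hft Φ (neg_one_mem hft) u₁ hu1,
        Fam.valY' h hft Φ (neg_one_mem hft) x' hx', Φ.regY (-1) (neg_one_mem hft) y hy,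
        H12.irr_apply_one, H12.irr_apply_one, Fam.degree_Y_eq h hft Φ (neg_one_mem hft)]
      simp only [map_add, map_mul, map_div₀, map_natCast, map_intCast, Complex.conj_conj]
      linear_combination ((conj (per ψ f (1 : ZMod p) u₁) * conj (per ψ f (1 : ZMod p) x') +
        conj (per ψ f (-1 : ZMod p) u₁) * conj (per ψ f (-1 : ZMod p) x')) *
        (Φ.Y 1 : G → ℂ) y / (H12.degree (Φ.Y 1 : G → ℂ) : ℂ)) * hδ2
  have hA : per ψ f (1 : ZMod p) u₁ * per ψ f (1 : ZMod p) u₁⁻¹ +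
      per ψ f (-1 : ZMod p) u₁ * per ψ f (-1 : ZMod p) u₁⁻¹ = (n : ℂ) := by
    rw [hperinv, hperinv]; exact per_sq_add h hft u₁ hu1
  have hB : per ψ f (1 : ZMod p) u₁ * per ψ f (1 : ZMod p) v⁻¹ +
      per ψ f (-1 : ZMod p) u₁ * per ψ f (-1 : ZMod p) v⁻¹ = -(f : ℂ) := by
    rw [hperinv, hperinv, hv, per_pow hft h _ _ hc0, per_pow hft h _ _ hc0, mem_fib.1 hc, one_mul,
      neg_mul, one_mul, neg_neg]
    exact per_cross_add h hft u₁ hu1
  have e1 := hsum _ hu1i
  have e2 := hsum _ hv1i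
  rw [hA, map_natCast] at e1
  rw [hB, map_neg, map_natCast] at e2
  have hn : (n : ℂ) = f + 1 := by rw [n_eq h hft]; push_cast; ring
  have hpC : (p : ℂ) = f * 2 + 1 := by exact_mod_cast hft.symm
  have hp0 : (p : ℂ) ≠ 0 := Nat.cast_ne_zero.2 hp.out.ne_zero
  constructor
  · rw [map_add, e1, e2, blockR, hn]
    ring
  · rw [map_sub, e1, e2, blockD]
    field_simp
    rw [hn, hpC]
    ring

variable (Φ₁ : Fam D f 2 ψ (H12.oneIrr H))

omit hft in
theorem Neg.c_pos : (0 : ℝ) ≤ (f : ℝ) * n / p := by positivity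

/-- The inequalities between the blocks. -/
theorem block_ineq {y : G} (hy : ¬ p ∣ orderOf y) :
    ∃ R : ℝ, 0 ≤ R ∧ blockR n Φ₁ y = (R : ℂ) ∧ (blockD n Φ₁ y).im = 0 ∧
      (∀ (φ : IrrCharacter H) (Φ : Fam D f 2 ψ φ),
        ‖blockD n Φ y‖ ≤ R ∧ ‖blockR n Φ y‖ ≤ R ∧
          ‖blockR n Φ y‖ ^ 2 + ‖blockD n Φ y‖ ^ 2 ≤ R ^ 2 + ‖blockD n Φ₁ y‖ ^ 2) ∧
      ∀ (φ φ₂ : IrrCharacter H) (Φ : Fam D f 2 ψ φ) (Φ₂ : Fam D f 2 ψ φ₂),
        (∀ k : H, (φ₂ : H → ℂ) k = (φ : H → ℂ) k ^ 2) → ∀ μ : ℂ, ‖μ‖ = 1 →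
          0 ≤ 3 * R - 4 * (μ * blockD n Φ y).re + (μ ^ 2 * blockR n Φ₂ y).re := by
  classical
  obtain ⟨x₁, x₂, hpts⟩ := exists_points h hft hM
  have hu : u ∈ (P : Subgroup G) := D.u_mem
  obtain ⟨r₁, hr₁, e₁, hb₁⟩ := blockSum_bound D hM h.central_le hu D.u_ne_one x₁ y
  obtain ⟨r₂, hr₂, e₂, hb₂⟩ := blockSum_bound D hM h.central_le hu D.u_ne_one x₂ y
  set c : ℝ := (f : ℝ) * n / p with hc
  have hc0 : 0 ≤ c := Neg.c_pos h hM
  have hcC : (f : ℂ) * n / p = (c : ℂ) := by rw [hc]; push_cast; ring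
  have hR₁ : blockR n Φ₁ y = ((c * (r₁ + r₂) : ℝ) : ℂ) := by
    rw [← (hpts _ Φ₁ y hy).1, hcC, e₁, e₂, map_add, Complex.conj_ofReal, Complex.conj_ofReal]
    push_cast; ring
  have hD₁ : blockD n Φ₁ y = ((c * (r₁ - r₂) : ℝ) : ℂ) := by
    rw [← (hpts _ Φ₁ y hy).2, hcC, e₁, e₂, map_sub, Complex.conj_ofReal, Complex.conj_ofReal]
    push_cast; ring
  refine ⟨c * (r₁ + r₂), by positivity, hR₁, by rw [hD₁, Complex.ofReal_im], fun φ Φ => ?_,
    fun φ φ₂ Φ Φ₂ hφ μ hμ => ?_⟩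
  · have hR : ‖blockR n Φ y‖ = c * ‖blockSum D φ u x₁ y + blockSum D φ u x₂ y‖ := by
      rw [← (hpts _ Φ y hy).1, hcC, norm_mul, Complex.norm_real, Real.norm_of_nonneg hc0,
        Complex.norm_conj]
    have hDn : ‖blockD n Φ y‖ = c * ‖blockSum D φ u x₁ y - blockSum D φ u x₂ y‖ := by
      rw [← (hpts _ Φ y hy).2, hcC, norm_mul, Complex.norm_real, Real.norm_of_nonneg hc0,
        Complex.norm_conj]
    set b₁ := blockSum D φ u x₁ y
    set b₂ := blockSum D φ u x₂ y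
    have i₁ := hb₁ φ
    have i₂ := hb₂ φ
    refine ⟨?_, ?_, ?_⟩
    · rw [hDn]
      exact mul_le_mul_of_nonneg_left ((norm_sub_le _ _).trans (by linarith)) hc0
    · rw [hR]
      exact mul_le_mul_of_nonneg_left ((norm_add_le _ _).trans (by linarith)) hc0
    · rw [hR, hDn, hD₁, Complex.norm_real, Real.norm_eq_abs, sq_abs]
      have hpar : ‖b₁ + b₂‖ ^ 2 + ‖b₁ - b₂‖ ^ 2 = 2 * (‖b₁‖ ^ 2 + ‖b₂‖ ^ 2) := by
        simp only [Complex.sq_norm, Complex.normSq_apply, Complex.add_re, Complex.add_im,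
          Complex.sub_re, Complex.sub_im]
        ring
      have q₁ := pow_le_pow_left₀ (norm_nonneg b₁) i₁ 2
      have q₂ := pow_le_pow_left₀ (norm_nonneg b₂) i₂ 2
      have q₃ : c ^ 2 * (‖b₁ + b₂‖ ^ 2 + ‖b₁ - b₂‖ ^ 2) ≤ c ^ 2 * (2 * (r₁ ^ 2 + r₂ ^ 2)) :=
        mul_le_mul_of_nonneg_left (by linarith) (sq_nonneg c)
      rw [mul_pow, mul_pow]
      linarith
  · have key : ∀ (x' : G) (r : ℝ) (ν : ℂ), blockSum D (H12.oneIrr H) u x' y = (r : ℂ) → ‖ν‖ = 1 →
        0 ≤ 3 * r - 4 * (ν * conj (blockSum D φ u x' y)).re +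
          (ν ^ 2 * conj (blockSum D φ₂ u x' y)).re := by
      intro x' r ν hr hν
      choose q hq0 hq using fun k : H => classSum_nonneg (u : G) x' (y * k)
      have s0 := sum_mul_classSum D hM h.central_le (H12.oneIrr H) hu D.u_ne_one x' y
      have s1 := sum_mul_classSum D hM h.central_le φ hu D.u_ne_one x' y
      have s2 := sum_mul_classSum D hM h.central_le φ₂ hu D.u_ne_one x' y
      simp only [H12.oneIrr_apply, one_mul, hq, hr] at s0
      simp only [hq] at s1 s2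
      have hterm : ∀ k : H, 0 ≤ q k * (3 - 4 * (ν * conj ((φ : H → ℂ) k)).re +
          (ν ^ 2 * conj ((φ₂ : H → ℂ) k)).re) := fun k => by
        refine mul_nonneg (hq0 k) ?_
        rw [hφ k, map_pow, ← mul_pow]
        set z := ν * conj ((φ : H → ℂ) k)
        have hz : ‖z‖ = 1 := by
          rw [norm_mul, hν, Complex.norm_conj, norm_lin D h.central_le φ k, one_mul]
        have hz2 : z.re * z.re + z.im * z.im = 1 := by
          rw [← Complex.normSq_apply, ← Complex.sq_norm, hz, one_pow]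
        rw [pow_two, Complex.mul_re z z]
        nlinarith [sq_nonneg (z.re - 1)]
      have hsum := Finset.sum_nonneg fun k (_ : k ∈ (Finset.univ : Finset H)) => hterm k
      have E₀ : ∑ k : H, q k = (Nat.card H : ℝ) * r := by exact_mod_cast s0
      have E₁ : ∑ k : H, q k * (ν * conj ((φ : H → ℂ) k)).re =
          (Nat.card H : ℝ) * (ν * conj (blockSum D φ u x' y)).re := by
        have := congrArg (fun z => (ν * conj z).re) s1
        simp only [map_sum, map_mul, Complex.conj_ofReal, map_natCast, Finset.mul_sum,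
          Complex.re_sum] at this
        rw [mul_left_comm ν, ← Complex.ofReal_natCast, Complex.re_ofReal_mul] at this
        rw [← this]
        exact Finset.sum_congr rfl fun k _ => by
          rw [← mul_assoc ν, mul_comm _ (q k : ℂ), Complex.re_ofReal_mul]
      have E₂ : ∑ k : H, q k * (ν ^ 2 * conj ((φ₂ : H → ℂ) k)).re =
          (Nat.card H : ℝ) * (ν ^ 2 * conj (blockSum D φ₂ u x' y)).re := by
        have := congrArg (fun z => (ν ^ 2 * conj z).re) s2
        simp only [map_sum, map_mul, Complex.conj_ofReal, map_natCast, Finset.mul_sum,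
          Complex.re_sum] at this
        rw [mul_left_comm (ν ^ 2), ← Complex.ofReal_natCast, Complex.re_ofReal_mul] at this
        rw [← this]
        exact Finset.sum_congr rfl fun k _ => by
          rw [← mul_assoc (ν ^ 2), mul_comm _ (q k : ℂ), Complex.re_ofReal_mul]
      simp only [mul_add, mul_sub, Finset.sum_add_distrib, Finset.sum_sub_distrib,
        ← mul_left_comm (4 : ℝ), ← Finset.mul_sum, ← Finset.sum_mul] at hsum
      rw [E₀, E₁, E₂] at hsum
      have hpos : (0 : ℝ) < Nat.card H := Nat.cast_pos.2 Nat.card_pos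
      refine nonneg_of_mul_nonneg_right (a := (Nat.card H : ℝ)) ?_ hpos
      linarith
    have k₁ := key x₁ r₁ μ e₁ hμ
    have k₂ := key x₂ r₂ (-μ) e₂ (by rw [norm_neg, hμ])
    have hD := (hpts _ Φ y hy).2
    have hR := (hpts _ Φ₂ y hy).1
    rw [hcC] at hD hR
    rw [← hD, ← hR]
    have hre1 : (μ * ((c : ℂ) * conj (blockSum D φ u x₁ y - blockSum D φ u x₂ y))).re =
        c * ((μ * conj (blockSum D φ u x₁ y)).re + (-μ * conj (blockSum D φ u x₂ y)).re) := by
      rw [mul_left_comm, Complex.re_ofReal_mul, map_sub, mul_sub, Complex.sub_re, neg_mul,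
        Complex.neg_re]
      ring
    have hre2 : (μ ^ 2 * ((c : ℂ) * conj (blockSum D φ₂ u x₁ y + blockSum D φ₂ u x₂ y))).re =
        c * ((μ ^ 2 * conj (blockSum D φ₂ u x₁ y)).re +
          ((-μ) ^ 2 * conj (blockSum D φ₂ u x₂ y)).re) := by
      rw [mul_left_comm, Complex.re_ofReal_mul, map_add, mul_add, Complex.add_re, neg_sq]
    rw [hre1, hre2]
    nlinarith [mul_nonneg hc0 (add_nonneg k₁ k₂)]

end H15.Degree
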