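import Cfsg.Agent.H15.Degree.Products

/-!
Degrees below `p - 1` (helper15): two classes of elements of order `p`; the labels, the two
periods and the conjugate blocks.
-/

set_option autoImplicit false
set_option linter.style.haveILetI false
set_option linter.unusedSectionVars false

open Cfsg
open scoped ComplexConjugate

namespace H15.Degree

open H85.D1 H15.HalfDeg

universe u

section Labels

variable {p : ℕ} [hp : Fact p.Prime] {f : ℕ} (hft : f * 2 + 1 = p)
include hft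

theorem neg_one_ne : (-1 : ZMod p) ≠ 1 :=
  neg_one_ne_one (by have := hp.out.two_le; omega)

theorem lab_two : lab (p := p) 2 = {1, -1} := by
  refine (Finset.eq_of_subset_of_card_le (fun A hA => ?_) ?_).symm
  · rcases Finset.mem_insert.1 hA with rfl | hA
    · exact one_mem_lab hft
    · rw [Finset.mem_singleton.1 hA, mem_lab]; ring
  · rw [card_lab hft, Finset.card_pair (neg_one_ne hft).symm]

theorem lab_cases {A : ZMod p} (hA : A ∈ lab 2) : A = 1 ∨ A = -1 := by
  rw [lab_two hft] at hA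
  simpa using hA

theorem sum_lab_two {R : Type*} [AddCommMonoid R] (F : ZMod p → R) :
    ∑ A ∈ lab (p := p) 2, F A = F 1 + F (-1) := by
  rw [lab_two hft, Finset.sum_pair (neg_one_ne hft).symm]

theorem neg_one_mem : (-1 : ZMod p) ∈ lab 2 := by rw [lab_two hft]; simp

/-- The four cyclotomic numbers of order two. -/
theorem cyc_two :
    (cyc f (1 : ZMod p) 1 + cyc f (1 : ZMod p) (-1) + 1 = f) ∧
    cyc f (-1 : ZMod p) 1 = cyc f (1 : ZMod p) (-1) ∧
    (cyc f (-1 : ZMod p) 1 + cyc f (-1 : ZMod p) (-1) = f) ∧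
    (Even f → 2 * cyc f (1 : ZMod p) (-1) = f) ∧
    (Odd f → 2 * cyc f (1 : ZMod p) (-1) + 1 = f) := by
  have h1 := sum_cyc hft (one_mem_lab (p := p) hft)
  have h2 := sum_cyc hft (neg_one_mem hft)
  rw [sum_lab_two hft, if_pos rfl] at h1
  rw [sum_lab_two hft, if_neg (neg_one_ne hft)] at h2
  simp only [add_zero] at h2
  have h1' : cyc f (1 : ZMod p) 1 + cyc f (1 : ZMod p) (-1) + 1 = f := by exact_mod_cast h1
  have h2' : cyc f (-1 : ZMod p) 1 + cyc f (-1 : ZMod p) (-1) = f := by exact_mod_cast h2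
  have h3 : cyc f (-1 : ZMod p) 1 = cyc f (1 : ZMod p) (-1) := cyc_comm hft _ _
  refine ⟨h1', h3, h2', fun he => ?_, fun ho => ?_⟩
  · have h4 := cyc_inv hft (neg_one_mem hft) (1 : ZMod p)
    rw [he.neg_one_pow, inv_neg, inv_one, one_mul, one_mul] at h4
    omega
  · have h4 := cyc_inv hft (one_mem_lab (p := p) hft) (1 : ZMod p)
    rw [ho.neg_one_pow, inv_one, mul_one, mul_one] at h4
    omega

end Labels

variable {G : Type u} [Group G] [Fintype G] {p : ℕ} [hp : Fact p.Prime]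
  {P : Sylow p G} {u a : G} {H : Subgroup G} [Fintype H] [Fintype (P : Subgroup G)]
  {D : Setting P u a H} [Fintype (D.aut (H12.oneIrr H))] {f n : ℕ}
  {χ : IrrCharacter G} {θ : IrrCharacter H} {ψ : (P : Subgroup G) →* ℂˣ}
  (h : Neg D f n χ θ ψ) (hft : f * 2 + 1 = p)
include h hft

theorem n_eq : n = f + 1 := by have := h.add_eq; omega

theorem per_pair (x : (P : Subgroup G)) (hx : x ≠ 1) :
    per ψ f (1 : ZMod p) x + per ψ f (-1 : ZMod p) x = -1 := by
  rw [← sum_lab_two hft (fun A => per ψ f A x), sum_per_lab D.hP h.psi_ne hft hx]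

/-- The difference of the two products. -/
theorem per_diff (x : (P : Subgroup G)) :
    per ψ f (1 : ZMod p) x * conj (per ψ f (1 : ZMod p) x) -
      per ψ f (1 : ZMod p) x * conj (per ψ f (-1 : ZMod p) x) =
      (f : ℂ) - per ψ f ((-1 : ZMod p) ^ f) x := by
  obtain ⟨e1, e2, e3, e4, e5⟩ := cyc_two hft
  rw [per_one_mul_conj D.hP h.psi_ne hft 1 (one_mem_lab hft), if_pos rfl,
    per_one_mul_conj D.hP h.psi_ne hft (-1) (neg_one_mem hft), if_neg (neg_one_ne hft),
    sum_lab_two hft, sum_lab_two hft, zero_add]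
  rcases Nat.even_or_odd f with he | ho
  · rw [he.neg_one_pow]
    have e4' := e4 he
    have a1 : cyc f (1 : ZMod p) 1 + 1 = cyc f (-1 : ZMod p) 1 := by omega
    have a2 : cyc f (1 : ZMod p) (-1) = cyc f (-1 : ZMod p) (-1) := by omega
    rw [a2, ← a1]
    push_cast
    ring
  · rw [ho.neg_one_pow]
    have e5' := e5 ho
    have a1 : cyc f (1 : ZMod p) 1 = cyc f (-1 : ZMod p) 1 := by omega
    have a2 : cyc f (1 : ZMod p) (-1) + 1 = cyc f (-1 : ZMod p) (-1) := by omega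
    rw [a1, ← a2]
    push_cast
    ring

/-- The absolute values of the periods. -/
theorem per_sq {A : ZMod p} (hA : A ∈ lab 2) (x : (P : Subgroup G)) (hx : x ≠ 1) :
    (Even f → per ψ f A x * conj (per ψ f A x) = (f : ℂ) / 2 - per ψ f A x) ∧
    (Odd f → per ψ f A x * conj (per ψ f A x) = ((f : ℂ) + 1) / 2) := by
  obtain ⟨ξ, hξ, hξA⟩ := exists_lin D.hP h.psi_ne hft h.card_aut hA
  have hξ' : per ξ f (1 : ZMod p) x = per ψ f A x := by
    rw [← sum_aut_lin D.hP hξ hft h.card_aut, hξA]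
  have hpair : per ξ f (-1 : ZMod p) x = -1 - per ξ f (1 : ZMod p) x := by
    have e := sum_per_lab D.hP hξ hft hx
    rw [sum_lab_two hft] at e
    linear_combination e
  have hm := per_one_mul_conj D.hP hξ hft 1 (one_mem_lab hft) (x := x)
  rw [if_pos rfl, sum_lab_two hft, hpair, hξ'] at hm
  obtain ⟨e1, -, -, e4, e5⟩ := cyc_two hft
  have c1 : (cyc f (1 : ZMod p) 1 : ℂ) + (cyc f (1 : ZMod p) (-1) : ℂ) + 1 = f := by
    exact_mod_cast e1
  constructor
  · intro he
    have c4 : 2 * (cyc f (1 : ZMod p) (-1) : ℂ) = f := by exact_mod_cast e4 he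
    rw [hm]
    linear_combination per ψ f A x * c1 - (per ψ f A x + 1 / 2) * c4
  · intro ho
    have c5 : 2 * (cyc f (1 : ZMod p) (-1) : ℂ) + 1 = f := by exact_mod_cast e5 ho
    rw [hm]
    linear_combination per ψ f A x * c1 - (per ψ f A x + 1 / 2) * c5

theorem per_sq_add (x : (P : Subgroup G)) (hx : x ≠ 1) :
    per ψ f (1 : ZMod p) x * conj (per ψ f (1 : ZMod p) x) +
      per ψ f (-1 : ZMod p) x * conj (per ψ f (-1 : ZMod p) x) = (n : ℂ) := by
  have hp' := per_pair h hft x hx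
  rw [n_eq h hft]
  push_cast
  rcases Nat.even_or_odd f with he | ho
  · rw [(per_sq h hft (one_mem_lab hft) x hx).1 he, (per_sq h hft (neg_one_mem hft) x hx).1 he]
    linear_combination -hp'
  · rw [(per_sq h hft (one_mem_lab hft) x hx).2 ho, (per_sq h hft (neg_one_mem hft) x hx).2 ho]
    ring

theorem per_cross_add (x : (P : Subgroup G)) (hx : x ≠ 1) :
    per ψ f (1 : ZMod p) x * conj (per ψ f (-1 : ZMod p) x) +
      per ψ f (-1 : ZMod p) x * conj (per ψ f (1 : ZMod p) x) = -(f : ℂ) := by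
  have hp' := per_pair h hft x hx
  have hc := congrArg (starRingEnd ℂ) hp'
  rw [map_add, map_neg, map_one] at hc
  have hn : (n : ℂ) = f + 1 := by rw [n_eq h hft]; push_cast; ring
  linear_combination (conj (per ψ f (1 : ZMod p) x) + conj (per ψ f (-1 : ZMod p) x)) * hp' - hc -
    per_sq_add h hft x hx - hn

/-- The sum of the fourth powers. -/
theorem sum_per_fourth [DecidableEq (P : Subgroup G)] {A : ZMod p} (hA : A ∈ lab 2) :
    2 * ∑ x ∈ Finset.univ.erase (1 : (P : Subgroup G)),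
      (per ψ f A x * conj (per ψ f A x)) ^ 2 =
      if Even f then (f : ℂ) * (2 * (n : ℂ) * n - (f : ℂ) * f) else (f : ℂ) * n * n := by
  have hcard : ((Finset.univ.erase (1 : (P : Subgroup G))).card : ℂ) = 2 * f := by
    rw [Finset.card_erase_of_mem (Finset.mem_univ _), Finset.card_univ, ← Nat.card_eq_fintype_card,
      D.hP, ← hft, Nat.add_sub_cancel]
    push_cast; ring
  have hn : (n : ℂ) = f + 1 := by rw [n_eq h hft]; push_cast; ring
  split_ifs with he
  · have hreal : ∀ x : (P : Subgroup G), conj (per ψ f A x) = per ψ f A x := fun x => by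
      rw [conj_per D.hP hft, he.neg_one_pow, one_mul]
    have e2 := sum_erase_per_mul_conj D.hP h.psi_ne hft A A hA hA
    rw [if_pos rfl] at e2
    rw [Finset.sum_congr rfl (g := fun x => ((f : ℂ) / 2) ^ 2 - (f : ℂ) * per ψ f A x +
        per ψ f A x * conj (per ψ f A x)) fun x hx => by
      rw [(per_sq h hft hA x (Finset.ne_of_mem_erase hx)).1 he]
      have := (per_sq h hft hA x (Finset.ne_of_mem_erase hx)).1 he
      rw [hreal] at this
      linear_combination this,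
      Finset.sum_add_distrib, Finset.sum_sub_distrib, Finset.sum_const, nsmul_eq_mul, hcard,
      ← Finset.mul_sum, sum_erase_per D.hP h.psi_ne hft hA, e2, hn]
    have hp' : (p : ℂ) = f * 2 + 1 := by rw [← hft]; push_cast; ring
    rw [hp']
    ring
  · rw [Finset.sum_congr rfl (g := fun _ => (((f : ℂ) + 1) / 2) ^ 2) fun x hx => by
      rw [(per_sq h hft hA x (Finset.ne_of_mem_erase hx)).2 (Nat.not_even_iff_odd.1 he)],
      Finset.sum_const, nsmul_eq_mul, hcard, hn]
    ring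

variable {M : Ideal AlgInt} [M.IsPrime] (hM : IsPModular p M)

omit h in
/-- Two labels with the same values agree. -/
theorem Fam.label_eq {φ : IrrCharacter H} (Φ : Fam D f 2 ψ φ) (h : Neg D f n χ θ ψ) {A B : ZMod p}
    (hA : A ∈ lab 2) (hB : B ∈ lab 2)
    (hv : ∀ x : (P : Subgroup G), x ≠ 1 → (Φ.Y A : G → ℂ) x = (Φ.δ : ℂ) * per ψ f B x) : A = B :=
  per_injOn D.hP h.psi_ne hft hA hB (Φ.δ : ℂ)
    (by rcases Φ.δ_eq with h' | h' <;> rw [h'] <;> norm_num)
    fun x hx => by rw [← Fam.valY' h hft Φ hA x hx, hv x hx]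

/-- Pairs of exceptional characters of degree `n`. -/
theorem Fam.eq_Y_two {φ : IrrCharacter H} (Φ : Fam D f 2 ψ φ) {i : IrrCharacter G}
    (hi : i ∈ D.supp φ) (hdeg : H12.degree (i : G → ℂ) = n) :
    Φ.δ = -1 ∧ ∃ A ∈ lab (p := p) 2, Φ.Y A = i := by
  have hn := n_eq h hft
  have hf2 := h.two_le
  rcases (Φ.mem_supp i).1 hi with hX | ⟨A, hA, hAi⟩
  · exfalso
    obtain ⟨s, -, hs⟩ := Fam.degree_X h hft Φ hX
    rw [hdeg] at hs
    rcases Φ.εX_eq i hX with he | he <;> rw [he] at hs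
    · have h1 : (p : ℤ) ∣ (n : ℤ) - 1 := ⟨(s : ℤ) - 1, by linear_combination hs⟩
      have := Int.eq_zero_of_abs_lt_dvd h1 (abs_lt.2 ⟨by omega, by omega⟩)
      omega
    · have h1 : (p : ℤ) ∣ (n : ℤ) + 1 := ⟨(s : ℤ) + 1, by linear_combination hs⟩
      have := Int.eq_zero_of_abs_lt_dvd h1 (abs_lt.2 ⟨by omega, by omega⟩)
      omega
  · refine ⟨?_, A, hA, hAi⟩
    obtain ⟨s, -, hs⟩ := Fam.degree_Y h hft Φ hA
    rw [hAi, hdeg] at hs
    rcases Φ.δ_eq with hδ | hδ
    · rw [hδ] at hs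
      have h1 : (p : ℤ) ∣ (n : ℤ) - f := ⟨s, by linear_combination hs⟩
      have := Int.eq_zero_of_abs_lt_dvd h1 (abs_lt.2 ⟨by omega, by omega⟩)
      omega
    · exact hδ

/-- Characters of degree `n` or their conjugates share the values on regular elements. -/
theorem Fam.reg_of_degree {φ : IrrCharacter H} (Φ : Fam D f 2 ψ φ) {i : IrrCharacter G}
    (hi : i ∈ D.supp φ) (hdeg : H12.degree (i : G → ℂ) = n) {g : G} (hg : ¬ p ∣ orderOf g) :
    (i : G → ℂ) g = (Φ.Y 1 : G → ℂ) g := by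
  obtain ⟨-, A, hA, rfl⟩ := Fam.eq_Y_two h hft Φ hi hdeg
  exact Φ.regY A hA g hg

include hM in
/-- The block of `χ`. -/
theorem exists_theta_two : ∃ Θ : Fam D f 2 ψ θ, Θ.δ = -1 ∧ Θ.Y 1 = χ := by
  obtain ⟨Θ⟩ := h.exists_fam hft hM θ
  obtain ⟨hδ, A, hA, hAχ⟩ := Fam.eq_Y_two h hft Θ h.mem_supp h.degree_eq
  refine ⟨Θ, hδ, ?_⟩
  rw [← Fam.label_eq hft Θ h hA (one_mem_lab hft) fun x hx => by
    rw [hAχ, h.val_per hft x hx, hδ]; push_cast; ring]
  exact hAχ

include hM in
/-- The block of the complex conjugates. -/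
theorem Fam.exists_conj {φ : IrrCharacter H} (Φ : Fam D f 2 ψ φ) (hδ : Φ.δ = -1)
    (hdeg : H12.degree (Φ.Y 1 : G → ℂ) = n) :
    ∃ Φ' : Fam D f 2 ψ (H12.conjIrr φ), Φ'.δ = -1 ∧ H12.degree (Φ'.Y 1 : G → ℂ) = n ∧
      ∀ A ∈ lab (p := p) 2, ∀ g : G,
        (Φ'.Y ((-1) ^ f * A) : G → ℂ) g = conj ((Φ.Y A : G → ℂ) g) := by
  obtain ⟨Φ'⟩ := h.exists_fam hft hM (H12.conjIrr φ)
  have hn := n_eq h hft
  have hf2 := h.two_le
  have hdegA : ∀ A ∈ lab (p := p) 2, H12.degree (H12.conjIrr (Φ.Y A) : G → ℂ) = n := fun A hA => by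
    have h1 := H12.irr_apply_one (H12.conjIrr (Φ.Y A))
    rw [H12.conjIrr_apply, H12.irr_apply_one, map_natCast, Fam.degree_Y_eq h hft Φ hA, hdeg] at h1
    exact_mod_cast h1.symm
  have hsupp : ∀ A ∈ lab (p := p) 2, H12.conjIrr (Φ.Y A) ∈ D.supp (H12.conjIrr φ) := by
    intro A hA
    obtain ⟨φ', hφ'⟩ := D.exists_mem_supp_of_lt hM (χ := H12.conjIrr (Φ.Y A))
      (by rw [hdegA A hA]; omega)
    have he : φ' = H12.conjIrr φ := Subtype.ext (funext fun k => by
      have h1 := apply_center D h.central_le hM hφ' k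
      rw [hdegA A hA, H12.conjIrr_apply, apply_center D h.central_le hM
        ((Φ.mem_supp _).2 (Or.inr ⟨A, hA, rfl⟩)) k, Fam.degree_Y_eq h hft Φ hA, hdeg, map_mul,
        map_natCast] at h1
      rw [H12.conjIrr_apply]
      exact (mul_right_cancel₀ (Nat.cast_ne_zero.2 (by omega)) h1.symm))
    rwa [he] at hφ'
  obtain ⟨hδ', -⟩ := Fam.eq_Y_two h hft Φ' (hsupp 1 (one_mem_lab hft)) (hdegA 1 (one_mem_lab hft))
  have hval : ∀ A ∈ lab (p := p) 2, Φ'.Y ((-1) ^ f * A) = H12.conjIrr (Φ.Y A) := by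
    intro A hA
    obtain ⟨-, B, hB, hBi⟩ := Fam.eq_Y_two h hft Φ' (hsupp A hA) (hdegA A hA)
    have hBA : B = (-1) ^ f * A :=
      Fam.label_eq hft Φ' h hB (mul_mem_lab hft (sgn_mem_lab hft) hA) fun x hx => by
        rw [hBi, H12.conjIrr_apply, Fam.valY' h hft Φ hA x hx, hδ, hδ', map_mul, map_intCast,
          conj_per D.hP hft]
    rw [← hBA]
    exact hBi
  refine ⟨Φ', hδ', ?_, fun A hA g => by rw [hval A hA, H12.conjIrr_apply]⟩
  rw [← Fam.degree_Y_eq h hft Φ' (mul_mem_lab hft (sgn_mem_lab hft) (one_mem_lab hft)),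
    hval 1 (one_mem_lab hft), hdegA 1 (one_mem_lab hft)]

end H15.Degree
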