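import Cfsg.Agent.H15.Degree.Split
import Cfsg.Agent.H15.Degree.Sums
import Cfsg.Agent.H15.Degree.Normal
import Cfsg.Agent.H24.PrincipalQuot

/-!
Degrees below `p - 1` (helper15): two classes of elements of order `p`; the products as instances
of the splitting, the class sums in terms of them, and rationality.
-/

set_option autoImplicit false
set_option linter.style.haveILetI false
set_option linter.unusedSectionVars false

open Cfsg
open scoped ComplexConjugate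

namespace H15.Degree

open H85.D1 H15.HalfDeg

universe u

variable {G : Type u} [Group G] [Fintype G] {p : ℕ} [hp : Fact p.Prime]
  {P : Sylow p G} {u a : G} {H : Subgroup G} [Fintype H] [Fintype (P : Subgroup G)]
  {D : Setting P u a H} [Fintype (D.aut (H12.oneIrr H))] {f n : ℕ}
  {χ : IrrCharacter G} {θ : IrrCharacter H} {ψ : (P : Subgroup G) →* ℂˣ}

/-- A constituent is not further from its degree than the character. -/
theorem deficit {F : G → ℂ} (hF : IsCharacter G F) {N : ℝ} (hN : F 1 = (N : ℂ)) (i : IrrCharacter G)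
    {k : ℕ} (hk : 1 ≤ k) (hi : classInner F (i : G → ℂ) = (k : ℂ)) {μ : ℂ} (hμ : ‖μ‖ = 1) (g : G) :
    (H12.degree (i : G → ℂ) : ℝ) - (μ * (i : G → ℂ) g).re ≤ N - (μ * F g).re := by
  classical
  obtain ⟨m, hm⟩ := H12.IsCharacter.exists_mult hF
  have hmi : m i = k := by
    rw [hm, H12.classInner_sum_smul_irr] at hi
    exact_mod_cast hi
  have e : ∀ y, F y = ∑ j : IrrCharacter G, (m j : ℂ) * (j : G → ℂ) y := fun y => by rw [hm]; simp
  have hN' : N = ∑ j : IrrCharacter G, (m j : ℝ) * (H12.degree (j : G → ℂ) : ℝ) := by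
    have h1 := e 1
    rw [hN] at h1
    simp only [H12.irr_apply_one] at h1
    exact_mod_cast h1
  have hg : (μ * F g).re = ∑ j : IrrCharacter G, (m j : ℝ) * (μ * (j : G → ℂ) g).re := by
    rw [e, Finset.mul_sum, Complex.re_sum]
    exact Finset.sum_congr rfl fun j _ => by
      rw [mul_left_comm, ← Complex.ofReal_natCast, Complex.re_ofReal_mul]
  have hnn : ∀ j : IrrCharacter G, 0 ≤ (H12.degree (j : G → ℂ) : ℝ) - (μ * (j : G → ℂ) g).re := by
    intro j
    have h1 := (Complex.re_le_norm (μ * (j : G → ℂ) g)).trans (le_of_eq (norm_mul _ _))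
    rw [hμ, one_mul] at h1
    have h2 := H12.IsCharacter.norm_le (H12.isCharacter_irr j) g
    linarith
  rw [hN', hg, ← Finset.sum_sub_distrib]
  refine le_trans ?_ (Finset.single_le_sum (f := fun j : IrrCharacter G =>
    (m j : ℝ) * (H12.degree (j : G → ℂ) : ℝ) - (m j : ℝ) * (μ * (j : G → ℂ) g).re)
    (fun j _ => by rw [← mul_sub]; exact mul_nonneg (Nat.cast_nonneg _) (hnn j)) (Finset.mem_univ i))
  rw [← mul_sub, hmi]
  exact le_mul_of_one_le_left (hnn i) (by exact_mod_cast hk)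

variable (h : Neg D f n χ θ ψ) (hft : f * 2 + 1 = p)
include h hft

variable {M : Ideal AlgInt} [M.IsPrime] (hM : IsPModular p M)
include hM

/-- The product of two exceptional characters of degree `n`. -/
theorem prods_pair {θa θb φ : IrrCharacter H} (Θa : Fam D f 2 ψ θa) (Θb : Fam D f 2 ψ θb)
    (hφ : ∀ k : H, (φ : H → ℂ) k = (θa : H → ℂ) k * conj ((θb : H → ℂ) k))
    (hda : Θa.δ = -1) (hdb : Θb.δ = -1) (hna : H12.degree (Θa.Y 1 : G → ℂ) = n)
    (hnb : H12.degree (Θb.Y 1 : G → ℂ) = n) :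
    Prods D f n ψ φ (fun g => (Θa.Y 1 : G → ℂ) g * conj ((Θb.Y 1 : G → ℂ) g))
      (fun g => (Θa.Y 1 : G → ℂ) g * conj ((Θb.Y (-1) : G → ℂ) g)) := by
  classical
  have hl1 := one_mem_lab (p := p) hft
  have hlm := neg_one_mem (p := p) hft
  have hsa : Θa.Y 1 ∈ D.supp θa := (Θa.mem_supp _).2 (Or.inr ⟨1, hl1, rfl⟩)
  have hnb' : H12.degree (Θb.Y (-1) : G → ℂ) = n := by
    rw [Fam.degree_Y_eq h hft Θb hlm, hnb]
  have hcen : ∀ A ∈ lab (p := p) 2, ∀ (g : G) (k : H),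
      (Θa.Y 1 : G → ℂ) (g * k) * conj ((Θb.Y A : G → ℂ) (g * k)) =
        (Θa.Y 1 : G → ℂ) g * conj ((Θb.Y A : G → ℂ) g) * (φ : H → ℂ) k := fun A hA g k => by
    rw [central_mul D h.central_le hM hsa, central_mul D h.central_le hM
      ((Θb.mem_supp _).2 (Or.inr ⟨A, hA, rfl⟩)), hφ, map_mul]
    ring
  have hval : ∀ A ∈ lab (p := p) 2, ∀ x : (P : Subgroup G), x ≠ 1 →
      (Θa.Y 1 : G → ℂ) x * conj ((Θb.Y A : G → ℂ) x) =
        per ψ f (1 : ZMod p) x * conj (per ψ f A x) := fun A hA x hx => by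
    rw [Fam.valY' h hft Θa hl1 x hx, Fam.valY' h hft Θb hA x hx, hda, hdb]
    push_cast
    rw [map_mul, map_neg, map_one]
    ring
  have hn := n_eq h hft
  have hpC : (p : ℂ) = f * 2 + 1 := by exact_mod_cast hft.symm
  have hnC : (n : ℂ) = f + 1 := by rw [hn]; push_cast; ring
  have hsum : ∀ A ∈ lab (p := p) 2, ∀ (_ : H12.degree (Θb.Y A : G → ℂ) = n),
      ∑ x : (P : Subgroup G), (Θa.Y 1 : G → ℂ) x * conj ((Θb.Y A : G → ℂ) x) =
        (n : ℂ) * n + ((if (1 : ZMod p) = A then (p : ℂ) * f else 0) - (f : ℂ) * f) := fun A hA hd => by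
    rw [← Finset.add_sum_erase _ _ (Finset.mem_univ (1 : (P : Subgroup G))), OneMemClass.coe_one,
      H12.irr_apply_one, H12.irr_apply_one, hna, hd, map_natCast,
      Finset.sum_congr rfl fun x hx => hval A hA x (Finset.ne_of_mem_erase hx),
      sum_erase_per_mul_conj D.hP h.psi_ne hft 1 A hl1 hA]
  refine ⟨H12.IsCharacter.mul (H12.isCharacter_irr _) (H12.IsCharacter.star (H12.isCharacter_irr _)),
    H12.IsCharacter.mul (H12.isCharacter_irr _) (H12.IsCharacter.star (H12.isCharacter_irr _)),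
    fun g hg => ?_, hcen 1 hl1, hcen (-1) hlm, ?_, ?_, ?_, ?_, fun x hx => ?_, ?_⟩
  · show _ * conj _ = _ * conj _
    rw [Θb.regY (-1) hlm g hg]
  · show _ * conj _ = _
    rw [H12.irr_apply_one, H12.irr_apply_one, hna, hnb, map_natCast]
  · show _ * conj _ = _
    rw [H12.irr_apply_one, H12.irr_apply_one, hna, hnb', map_natCast]
  · rw [hsum 1 hl1 hnb, if_pos rfl, hpC, hnC]; ring
  · rw [hsum (-1) hlm hnb', if_neg (Ne.symm (neg_one_ne hft)), hpC, hnC]; ring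
  · show _ * conj _ - _ * conj _ = _
    rw [hval 1 hl1 x hx, hval (-1) hlm x hx, per_diff h hft]
  · have hne : Θa.Y 1 ≠ Θb.Y (-1) := fun he => neg_one_ne hft (per_injOn D.hP h.psi_ne hft hlm hl1
      (-1) (by norm_num) fun x hx => by
        have e1 := Fam.valY' h hft Θa hl1 x hx
        rw [he, Fam.valY' h hft Θb hlm x hx, hda, hdb] at e1
        push_cast at e1
        exact e1)
    rw [← H12.classInner_irr_ne hne]
    simp only [H12.classInner_def, H12.oneIrr_apply, map_one, mul_one]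

/-- The first class sums in terms of the products. -/
theorem Split.blockR_eq {φ : IrrCharacter H} {Φ : Fam D f 2 ψ φ} {F₁ F₂ : G → ℂ}
    (S : Split n Φ F₁ F₂) (hF : Prods D f n ψ φ F₁ F₂) (hz : S.z = 0) {g : G}
    (hg : ¬ p ∣ orderOf g) :
    blockR n Φ g = F₁ g + (f : ℂ) * (iota φ : ℂ) +
      (Φ.Y 1 : G → ℂ) g * ((f : ℂ) * n / (H12.degree (Φ.Y 1 : G → ℂ) : ℂ) -
        (f : ℂ) * S.E' - (n : ℂ) * S.E) / p -
      (f : ℂ) / (4 * f + 3) * ∑ i ∈ S.V, (i : G → ℂ) g -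
      (n : ℂ) / (4 * f + 1) * ∑ i ∈ S.W, (i : G → ℂ) g := by
  classical
  have hn := n_eq h hft
  have hf2 := h.two_le
  have hX : Φ.X = S.Xp ∪ S.Xm := by ext i; rw [Finset.mem_union]; exact S.union i
  have hn0 : (n : ℂ) ≠ 0 := Nat.cast_ne_zero.2 (by omega)
  have hf0 : (f : ℂ) ≠ 0 := Nat.cast_ne_zero.2 (by omega)
  have h3 : (4 * (f : ℂ) + 3) ≠ 0 := by exact_mod_cast (show 4 * f + 3 ≠ 0 by omega)
  have h1 : (4 * (f : ℂ) + 1) ≠ 0 := by exact_mod_cast (show 4 * f + 1 ≠ 0 by omega)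
  have hnC : (n : ℂ) = f + 1 := by rw [hn]; push_cast; ring
  have ep : ∀ i ∈ S.Xp, (i : G → ℂ) g / (H12.degree (i : G → ℂ) : ℂ) =
      (i : G → ℂ) g / (2 * n) +
      (if i = H12.oneIrr G then (1 - 1 / (2 * (n : ℂ))) else 0) +
      (if i ∈ S.V then (1 / (4 * (f : ℂ) + 3) - 1 / (2 * n)) * (i : G → ℂ) g else 0) := by
    intro i hi
    by_cases h1' : i = H12.oneIrr G
    · have hd : H12.degree (H12.oneIrr G : G → ℂ) = 1 := by
        have e := H12.irr_apply_one (H12.oneIrr G)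
        rw [H12.oneIrr_apply] at e
        exact_mod_cast e.symm
      rw [if_pos h1', h1', if_neg S.one_V, hd, H12.oneIrr_apply]
      push_cast
      ring
    rw [if_neg h1']
    by_cases hV : i ∈ S.V
    · rw [if_pos hV, S.deg_V i hV]
      push_cast
      field_simp
      ring
    · rw [if_neg hV, S.deg_p i hi h1' hV]
      push_cast
      ring
  have em : ∀ i ∈ S.Xm, (i : G → ℂ) g / (H12.degree (i : G → ℂ) : ℂ) =
      (i : G → ℂ) g / (2 * f) +
      (if i ∈ S.W then (1 / (4 * (f : ℂ) + 1) - 1 / (2 * f)) * (i : G → ℂ) g else 0) := by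
    intro i hi
    by_cases hW : i ∈ S.W
    · rw [if_pos hW, S.deg_W i hW]
      push_cast
      field_simp
      ring
    · rw [if_neg hW, S.deg_m i hi hW]
      push_cast
      ring
  have hone : ∑ i ∈ S.Xp, (if i = H12.oneIrr G then (1 - 1 / (2 * (n : ℂ))) else 0) =
      (iota φ : ℂ) * (1 - 1 / (2 * (n : ℂ))) := by
    rw [Finset.sum_ite_eq']
    by_cases hφ : φ = H12.oneIrr H
    · rw [if_pos (S.one_mem hφ), iota, if_pos hφ, Nat.cast_one, one_mul]
    · rw [if_neg (S.one_not hφ), iota, if_neg hφ, Nat.cast_zero, zero_mul]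
  rw [blockR, hX, Finset.sum_union S.disjoint, Finset.sum_congr rfl ep, Finset.sum_congr rfl em,
    Finset.sum_add_distrib, Finset.sum_add_distrib, Finset.sum_add_distrib, ← Finset.sum_div,
    ← Finset.sum_div, hone, Finset.sum_ite_mem, Finset.sum_ite_mem,
    Finset.inter_eq_right.2 S.sub_V, Finset.inter_eq_right.2 S.sub_W, ← Finset.mul_sum,
    ← Finset.mul_sum]
  have x1 := S.expand₁ hz g hg
  have x2 := S.expand₂ hz g hg
  rw [← hF.reg g hg] at x2
  rw [show ∑ i ∈ S.Xp, (i : G → ℂ) g = F₁ g - (S.E' : ℂ) * (Φ.Y 1 : G → ℂ) g from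
      eq_sub_of_add_eq x1.symm,
    show ∑ i ∈ S.Xm, (i : G → ℂ) g = F₁ g - (S.E : ℂ) * (Φ.Y 1 : G → ℂ) g from
      eq_sub_of_add_eq x2.symm]
  have hp0 : (p : ℂ) ≠ 0 := Nat.cast_ne_zero.2 hp.out.ne_zero
  have hpC : (p : ℂ) = f * 2 + 1 := by exact_mod_cast hft.symm
  have hm0 : (H12.degree (Φ.Y 1 : G → ℂ) : ℂ) ≠ 0 :=
    Nat.cast_ne_zero.2 (H12.irr_degree_pos _).ne'
  rw [hnC] at hn0
  rw [hpC] at hp0
  rw [hnC, hpC]
  generalize H12.degree (Φ.Y 1 : G → ℂ) = m at hm0 ⊢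
  generalize (Φ.Y 1 : G → ℂ) g = w
  generalize F₁ g = T
  generalize ∑ i ∈ S.V, (i : G → ℂ) g = sv
  generalize ∑ i ∈ S.W, (i : G → ℂ) g = sw
  generalize ha : 4 * (f : ℂ) + 3 = a3 at h3 ⊢
  generalize hb : 4 * (f : ℂ) + 1 = a1 at h1 ⊢
  field_simp
  rw [← ha, ← hb]
  ring

/-- Galois conjugates of exceptional characters of degree `n`. -/
theorem exists_galois {φ : IrrCharacter H} (Θ : Fam D f 2 ψ φ) (hd : H12.degree (Θ.Y 1 : G → ℂ) = n)
    (σ : ℂ ≃+* ℂ) : ∃ (φ' : IrrCharacter H) (Θ' : Fam D f 2 ψ φ'), Θ'.δ = -1 ∧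
      H12.degree (Θ'.Y 1 : G → ℂ) = n ∧ (φ = H12.oneIrr H → φ' = H12.oneIrr H) ∧
      ∀ g : G, ¬ p ∣ orderOf g → σ ((Θ.Y 1 : G → ℂ) g) = (Θ'.Y 1 : G → ℂ) g := by
  set ω : IrrCharacter G := ⟨σ ∘ (Θ.Y 1 : G → ℂ), H25.isIrrCharacter_ringEquiv_comp (Θ.Y 1).2 σ⟩
    with hω
  have hdeg : H12.degree (ω : G → ℂ) = n := by
    have h1 : σ ((Θ.Y 1 : G → ℂ) 1) = (H12.degree (ω : G → ℂ) : ℂ) := H12.irr_apply_one ω
    rw [H12.irr_apply_one, hd, map_natCast] at h1
    exact_mod_cast h1.symm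
  have hn := n_eq h hft
  have hf2 := h.two_le
  obtain ⟨φ', hφ'⟩ := D.exists_mem_supp_of_lt hM (χ := ω) (by rw [hdeg]; omega)
  obtain ⟨Θ'⟩ := h.exists_fam hft hM φ'
  obtain ⟨hδ, A, hA, hAω⟩ := Fam.eq_Y_two h hft Θ' hφ' hdeg
  refine ⟨φ', Θ', hδ, by rw [← Fam.degree_Y_eq h hft Θ' hA, hAω, hdeg], fun hφ => ?_,
    fun g hg => ?_⟩
  · refine Subtype.ext (funext fun k => ?_)
    have h1 := apply_center D h.central_le hM hφ' k
    rw [hdeg] at h1
    have h2 : (ω : G → ℂ) k = (n : ℂ) := by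
      show σ ((Θ.Y 1 : G → ℂ) k) = _
      rw [apply_center D h.central_le hM ((Θ.mem_supp _).2 (Or.inr ⟨1, one_mem_lab hft, rfl⟩)) k,
        hd, hφ, H12.oneIrr_apply, one_mul, map_natCast]
    rw [h2] at h1
    rw [H12.oneIrr_apply]
    exact mul_right_cancel₀ (Nat.cast_ne_zero.2 (by omega)) (h1.symm.trans (one_mul _).symm)
  · rw [← Θ'.regY A hA g hg, hAω]
    rfl

omit h hft hM in
/-- Algebraic integers fixed by all automorphisms are integers. -/
theorem exists_int_of_fixed {z : ℂ} (hz : IsIntegral ℤ z) (hσ : ∀ σ : ℂ ≃+* ℂ, σ z = z) :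
    ∃ k : ℤ, z = (k : ℂ) := by
  obtain ⟨q, hq⟩ := H24.exists_rat_of_fixed (hz.tower_top) hσ
  obtain ⟨k, hk⟩ := H12.exists_int_of_isIntegral_rat (hq ▸ hz)
  exact ⟨k, by rw [hq, ← hk]; simp⟩

omit h hft hM in
theorem isIntegral_irr_val (i : IrrCharacter G) (g : G) : IsIntegral ℤ ((i : G → ℂ) g) := by
  obtain ⟨d, ρ, hρ, he⟩ := i.2
  rw [← he]
  exact H12.isIntegral_character ρ g

/-- The value of the principal exceptional character of degree `n` is an integer. -/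
theorem exists_int_val (Φ₁ : Fam D f 2 ψ (H12.oneIrr H)) (hd : H12.degree (Φ₁.Y 1 : G → ℂ) = n)
    {g : G} (hg : ¬ p ∣ orderOf g) : ∃ k : ℤ, (Φ₁.Y 1 : G → ℂ) g = (k : ℂ) := by
  refine exists_int_of_fixed (isIntegral_irr_val _ g) fun σ => ?_
  obtain ⟨φ', Θ', -, hd', hφ', hval⟩ := exists_galois h hft hM Φ₁ hd σ
  rw [hval g hg]
  exact Fam.reg_of_degree h hft Φ₁ ((hφ' rfl) ▸ (Θ'.mem_supp _).2 (Or.inr ⟨1, one_mem_lab hft, rfl⟩))
    hd' hg

/-- An irreducible character with a non-scalar value at `u` takes small values off the center. -/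
theorem norm_lt_of_irr (hgen : Subgroup.closure {g : G | g ^ p = 1} = ⊤) (i : IrrCharacter G)
    (hi : ‖(i : G → ℂ) u‖ ≠ (H12.degree (i : G → ℂ) : ℝ)) {g : G} (hg : g ∉ H) :
    ‖(i : G → ℂ) g‖ < (H12.degree (i : G → ℂ) : ℝ) := by
  classical
  refine lt_of_le_of_ne (H12.IsCharacter.norm_le (H12.isCharacter_irr i) g) fun he => hg ?_
  obtain ⟨d, ρ, hρ, hρc⟩ := i.2
  have hd : H12.degree (i : G → ℂ) = d := by
    rw [← hρc, H12.degree_character]; simp
  let K : Subgroup G :=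
    { carrier := {y | ∃ c : ℂ, c ≠ 0 ∧ ρ y = c • (1 : Module.End ℂ (Fin d → ℂ))}
      one_mem' := ⟨1, one_ne_zero, by rw [map_one, one_smul]⟩
      mul_mem' := fun {x y} ⟨c, hc, hx⟩ ⟨c', hc', hy⟩ => ⟨c * c', mul_ne_zero hc hc', by
        rw [map_mul, hx, hy, smul_mul_smul_comm, one_mul]⟩
      inv_mem' := fun {x} ⟨c, hc, hx⟩ => ⟨c⁻¹, inv_ne_zero hc, by
        have h1 : ρ x⁻¹ * ρ x = 1 := by rw [← map_mul, inv_mul_cancel, map_one]
        rw [hx, mul_smul_one] at h1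
        rw [← h1, smul_smul, inv_mul_cancel₀ hc, one_smul]⟩ }
  haveI : K.Normal := ⟨fun x ⟨c, hc, hx⟩ t => ⟨c, hc, by
    rw [map_mul, map_mul, hx, mul_smul_one, smul_mul_assoc, ← map_mul, mul_inv_cancel, map_one]⟩⟩
  have hmem : ∀ y, ‖(i : G → ℂ) y‖ = (H12.degree (i : G → ℂ) : ℝ) → y ∈ K := by
    intro y hy
    obtain ⟨c, hc⟩ := H12.exists_scalar_of_norm_eq ρ y (by
      rw [hρc, hy, hd]; simp)
    refine ⟨c, fun h0 => ?_, hc⟩
    have h1 : ρ y⁻¹ * ρ y = 1 := by rw [← map_mul, inv_mul_cancel, map_one]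
    rw [hc, h0, zero_smul, mul_zero] at h1
    have hpos := H12.irr_degree_pos i
    rw [hd] at hpos
    haveI : Nonempty (Fin d) := ⟨⟨0, hpos⟩⟩
    exact zero_ne_one h1
  have hu : u ∉ K := fun ⟨c, hc, hu'⟩ => hi (by
    have hd0 : 0 < d := hd ▸ H12.irr_degree_pos i
    have h1 : (i : G → ℂ) u = c * d := by
      rw [← hρc]
      show LinearMap.trace ℂ _ (ρ u) = _
      rw [hu', map_smul, LinearMap.trace_one, smul_eq_mul, Module.finrank_fintype_fun_eq_card,
        Fintype.card_fin]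
    have hcn : ‖c‖ = 1 := by
      refine Complex.norm_eq_one_of_pow_eq_one (n := orderOf u) ?_ (orderOf_pos u).ne'
      have h2 : ρ (u ^ orderOf u) = (c ^ orderOf u) • (1 : Module.End ℂ (Fin d → ℂ)) := by
        rw [map_pow, hu', smul_pow, one_pow]
      rw [pow_orderOf_eq_one, map_one] at h2
      have h3 := congrArg (LinearMap.trace ℂ (Fin d → ℂ)) h2
      rw [map_smul, LinearMap.trace_one, smul_eq_mul, Module.finrank_fintype_fun_eq_card,
        Fintype.card_fin] at h3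
      exact mul_right_cancel₀ (Nat.cast_ne_zero.2 hd0.ne') (h3.symm.trans (one_mul _).symm)
    rw [h1, norm_mul, hcn, one_mul, Complex.norm_natCast, hd])
  exact normal_le h hft hM hgen K hu (hmem g he)

/-- Exceptional characters of degree `n` take small values off the center. -/
theorem norm_Y_lt (hgen : Subgroup.closure {g : G | g ^ p = 1} = ⊤) {φ : IrrCharacter H}
    (Θ : Fam D f 2 ψ φ) (hδ : Θ.δ = -1) (hd : H12.degree (Θ.Y 1 : G → ℂ) = n) {g : G} (hg : g ∉ H) :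
    ‖(Θ.Y 1 : G → ℂ) g‖ < (n : ℝ) := by
  rw [← hd]
  refine norm_lt_of_irr h hft hM hgen _ ?_ hg
  have hu1 : (⟨u, D.u_mem⟩ : (P : Subgroup G)) ≠ 1 := fun h' => D.u_ne_one (congrArg Subtype.val h')
  rw [show (Θ.Y 1 : G → ℂ) u = _ from Fam.valY' h hft Θ (one_mem_lab hft) ⟨u, D.u_mem⟩ hu1, hδ, hd,
    norm_mul, Int.cast_neg, Int.cast_one, norm_neg, norm_one, one_mul]
  refine ne_of_lt (lt_of_le_of_lt (norm_sum_le _ _) ?_)
  rw [Finset.sum_congr rfl fun b _ => norm_ev D.hP ψ b _, Finset.sum_const,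
    card_fib hft (one_mem_lab hft), nsmul_eq_mul, mul_one]
  exact_mod_cast (show f < n by have := n_eq h hft; omega)

end H15.Degree
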