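import Cfsg.Agent.H15.Degree.Values
import Cfsg.Agent.H15.Degree.Squares
import Cfsg.Agent.H15.Degree.SymSq
import Cfsg.Agent.H18.WedgeChar

/-!
Degrees below `p - 1` (helper15): two classes of elements of order `p` and odd `f`; the exterior
square has no invariants of `P`, so `4 ∣ f + 1`, and the symmetric square bounds deficits.
-/

set_option autoImplicit false
set_option linter.style.haveILetI false
set_option linter.unusedSectionVars false

open Cfsg
open scoped ComplexConjugate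

namespace H15.Degree

open H85.D1 H15.HalfDeg

universe u

variable {G : Type u} [Group G] [Fintype G] {p : ℕ} [hp : Fact p.Prime]
  {P : Sylow p G} {u a : G} {H : Subgroup G} [Fintype H] [Fintype (P : Subgroup G)]
  {D : Setting P u a H} [Fintype (D.aut (H12.oneIrr H))] {f n : ℕ}
  {χ : IrrCharacter G} {θ : IrrCharacter H} {ψ : (P : Subgroup G) →* ℂˣ}

variable (h : Neg D f n χ θ ψ) (hft : f * 2 + 1 = p) (hodd : Odd f)
include h hft hodd

variable {M : Ideal AlgInt} [M.IsPrime] (hM : IsPModular p M)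
include hM

/-- The exterior square and its constituents. -/
theorem wedge_constituents (hnof : ∀ i : IrrCharacter G, H12.degree (i : G → ℂ) ≠ f)
    {φ : IrrCharacter H} (hφ : ∀ k : H, (φ : H → ℂ) k = (θ : H → ℂ) k ^ 2) (Φ : Fam D f 2 ψ φ)
    (i : IrrCharacter G)
    (hi : classInner (fun g => ((χ : G → ℂ) g * (χ : G → ℂ) g - (χ : G → ℂ) (g * g)) / 2)
      (i : G → ℂ) ≠ 0) : H12.degree (i : G → ℂ) = 2 * f := by
  classical
  set Λ : G → ℂ := fun g => ((χ : G → ℂ) g * (χ : G → ℂ) g - (χ : G → ℂ) (g * g)) / 2 with hΛ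
  have hΛc : IsCharacter G Λ := H18.isCharacter_wedge (H12.isCharacter_irr χ)
  obtain ⟨k, hk⟩ := H12.IsCharacter.exists_mult hΛc
  choose s hs using fun j : IrrCharacter G => exists_sum_res (H12.isCharacter_irr j) (P : Subgroup G)
  have hki : k i ≠ 0 := fun h0 => hi (by rw [hk, H12.classInner_sum_smul_irr, h0, Nat.cast_zero])
  have hσ : ((-1 : ZMod p)) ^ f ≠ 1 := by rw [hodd.neg_one_pow]; exact neg_one_ne hft
  have hsum : ∑ x : (P : Subgroup G), Λ x = 0 := by
    simp only [hΛ, ← Finset.sum_div, Finset.sum_sub_distrib]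
    rw [sum_val_sq h hft, sum_sq_val h hft, if_neg hσ]
    have hpC : (p : ℂ) = f * 2 + 1 := by exact_mod_cast hft.symm
    have hnC : (n : ℂ) = f + 1 := by exact_mod_cast n_eq h hft
    rw [hpC, hnC]
    ring
  have hs0 : s i = 0 := by
    have h1 : ((∑ j : IrrCharacter G, k j * (p * s j) : ℕ) : ℂ) = 0 := by
      rw [← hsum, hk]
      simp only [Finset.sum_apply, Pi.smul_apply, smul_eq_mul]
      rw [Finset.sum_comm, Nat.cast_sum]
      refine Finset.sum_congr rfl fun j _ => ?_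
      rw [← Finset.mul_sum, hs j, D.hP]
      push_cast
      ring
    have h2 := (Finset.sum_eq_zero_iff).1 (by exact_mod_cast h1 : ∑ j : IrrCharacter G,
      k j * (p * s j) = 0) i (Finset.mem_univ i)
    rcases Nat.mul_eq_zero.1 h2 with h3 | h3
    · exact absurd h3 hki
    · exact (Nat.mul_eq_zero.1 h3).resolve_left hp.out.ne_zero
  have hPi : ∑ x : (P : Subgroup G), (i : G → ℂ) x = 0 := by
    rw [hs i, hs0, Nat.cast_zero, mul_zero]
  have hcen : ∀ (g : G) (j : H), Λ (g * j) = Λ g * (φ : H → ℂ) j := fun g j => by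
    obtain ⟨e1, e2⟩ := square_central h hft hM g j
    simp only [hΛ, e1, e2, hφ]
    ring
  have hsupp : i ∈ D.supp φ := by
    by_contra hns
    rcases vanish_of_not_supp h hft hM hcen hns with h0 | hv
    · exact hi h0
    · rw [← Finset.add_sum_erase _ _ (Finset.mem_univ (1 : (P : Subgroup G))), OneMemClass.coe_one,
        H12.irr_apply_one, Finset.sum_eq_zero fun x hx => by
          have := hv x 1 (Finset.ne_of_mem_erase hx)
          rwa [OneMemClass.coe_one, mul_one] at this, add_zero, Nat.cast_eq_zero] at hPi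
      exact absurd hPi (H12.irr_degree_pos i).ne'
  have hzero : ∀ t' : ℕ, (∑ x : (P : Subgroup G), (i : G → ℂ) x) = (p : ℂ) * t' → t' = 0 := by
    intro t' ht'
    rw [hPi] at ht'
    exact_mod_cast (mul_eq_zero.1 ht'.symm).resolve_left (Nat.cast_ne_zero.2 hp.out.ne_zero)
  have hpos := H12.irr_degree_pos i
  rcases (Φ.mem_supp i).1 hsupp with hX | ⟨A, hA, hAi⟩
  · obtain ⟨t', hs', hd⟩ := Fam.degree_X h hft Φ hX
    rw [hzero t' hs', Nat.cast_zero, mul_zero] at hd
    have hpZ : (p : ℤ) = 2 * f + 1 := by rw [← hft]; push_cast; ring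
    rcases Φ.εX_eq i hX with he | he <;> rw [he] at hd <;> omega
  · obtain ⟨t', hs', hd⟩ := Fam.degree_Y h hft Φ hA
    rw [hAi] at hs' hd
    rw [hzero t' hs', Nat.cast_zero, mul_zero] at hd
    rcases Φ.δ_eq with he | he <;> rw [he] at hd
    · exact absurd (by omega) (hnof i)
    · omega

/-- `f + 1` is a multiple of four. -/
theorem four_dvd (hnof : ∀ i : IrrCharacter G, H12.degree (i : G → ℂ) ≠ f) : 4 ∣ f + 1 := by
  classical
  obtain ⟨φ, hφ⟩ := exists_sq_irr h hft
  obtain ⟨Φ⟩ := h.exists_fam hft hM φ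
  set Λ : G → ℂ := fun g => ((χ : G → ℂ) g * (χ : G → ℂ) g - (χ : G → ℂ) (g * g)) / 2 with hΛ
  obtain ⟨k, hk⟩ := H12.IsCharacter.exists_mult (H18.isCharacter_wedge (H12.isCharacter_irr χ))
  have hdeg : ∀ i : IrrCharacter G, k i * H12.degree (i : G → ℂ) = k i * (2 * f) := fun i => by
    by_cases h0 : k i = 0
    · simp [h0]
    · rw [wedge_constituents h hft hodd hM hnof hφ Φ i (by
        rw [hk, H12.classInner_sum_smul_irr]; exact Nat.cast_ne_zero.2 h0)]
  have h1 : Λ 1 = ((∑ i : IrrCharacter G, k i * H12.degree (i : G → ℂ) : ℕ) : ℂ) := by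
    rw [hΛ, hk]
    simp [H12.irr_apply_one]
  rw [Finset.sum_congr rfl fun i _ => hdeg i, ← Finset.sum_mul] at h1
  simp only [hΛ, mul_one, H12.irr_apply_one, h.degree_eq] at h1
  set K := ∑ i : IrrCharacter G, k i
  have h2 : ((n * n : ℕ) : ℂ) = ((K * (2 * f) * 2 + n : ℕ) : ℂ) := by
    push_cast at h1 ⊢
    linear_combination 2 * h1
  have h3 : n * n = K * (2 * f) * 2 + n := by exact_mod_cast h2
  have hn := n_eq h hft
  have hf : 0 < f := f_pos hft
  refine ⟨K, Nat.eq_of_mul_eq_mul_left hf ?_⟩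
  rw [hn] at h3
  linarith

/-- The exceptional constituent of the square lies in the symmetric square. -/
theorem deficit_sym (hnof : ∀ i : IrrCharacter G, H12.degree (i : G → ℂ) ≠ f)
    {φ : IrrCharacter H} (hφ : ∀ k : H, (φ : H → ℂ) k = (θ : H → ℂ) k ^ 2) (Φ : Fam D f 2 ψ φ)
    (i : IrrCharacter G) (hdi : H12.degree (i : G → ℂ) ≠ 2 * f) {k : ℕ} (hk : 1 ≤ k)
    (hi : classInner (fun g => (χ : G → ℂ) g * (χ : G → ℂ) g) (i : G → ℂ) = (k : ℂ))
    {ν : ℂ} (hν : ‖ν‖ = 1) (g : G) :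
    2 * ((H12.degree (i : G → ℂ) : ℝ) - (ν ^ 2 * (i : G → ℂ) g).re) ≤
      (n : ℝ) * n - (ν ^ 2 * ((χ : G → ℂ) g * (χ : G → ℂ) g)).re +
        4 * ((n : ℝ) - (ν * (χ : G → ℂ) g).re) := by
  classical
  set Λ : G → ℂ := fun g => ((χ : G → ℂ) g * (χ : G → ℂ) g - (χ : G → ℂ) (g * g)) / 2 with hΛ
  set S : G → ℂ := fun g => ((χ : G → ℂ) g * (χ : G → ℂ) g + (χ : G → ℂ) (g * g)) / 2 with hS
  have hSc : IsCharacter G S := isCharacter_symSq (H12.isCharacter_irr χ)
  have hz : classInner Λ (i : G → ℂ) = 0 := by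
    by_contra h0
    exact hdi (wedge_constituents h hft hodd hM hnof hφ Φ i h0)
  have hSi : classInner S (i : G → ℂ) = (k : ℂ) := by
    rw [← hi, ← add_zero (classInner S (i : G → ℂ)), ← hz, ← H12.classInner_add_left]
    congr 1
    funext y
    simp only [hΛ, hS, Pi.add_apply]
    ring
  have hS1 : S 1 = ((((n : ℝ) * n + n) / 2 : ℝ) : ℂ) := by
    simp only [hS, mul_one, H12.irr_apply_one, h.degree_eq]
    push_cast
    ring
  have hν2 : ‖ν ^ 2‖ = 1 := by rw [norm_pow, hν, one_pow]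
  have h1 := deficit hSc hS1 i hk hSi hν2 g
  -- the eigenvalues at `g`
  obtain ⟨d, ρ, hρ, hρc⟩ := χ.2
  obtain ⟨lam, hl1, hl2, -⟩ := H12.exists_char_eigenvalues ρ g
  rw [hρc] at hl2
  have e1 : (χ : G → ℂ) g = ∑ j, lam j := by simpa using hl2 1
  have e2 : (χ : G → ℂ) (g * g) = ∑ j, lam j ^ 2 := by rw [← pow_two]; exact hl2 2
  have hcard : Module.finrank ℂ (Fin d → ℂ) = n := by
    rw [← H12.degree_character ρ, hρc, h.degree_eq]
  have key : ∀ j, 0 ≤ 3 - 4 * (ν * lam j).re + (ν ^ 2 * lam j ^ 2).re := fun j => by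
    rw [← mul_pow]
    set z := ν * lam j
    have hz : ‖z‖ = 1 := by
      rw [norm_mul, hν, H12.norm_eq_one_of_pow_eq_one (orderOf_pos g).ne' (hl1 j), one_mul]
    have hz2 : z.re * z.re + z.im * z.im = 1 := by
      rw [← Complex.normSq_apply, ← Complex.sq_norm, hz, one_pow]
    rw [pow_two, Complex.mul_re z z]
    nlinarith [sq_nonneg (z.re - 1)]
  have h2 := Finset.sum_nonneg fun j (_ : j ∈ Finset.univ) => key j
  rw [Finset.sum_add_distrib, Finset.sum_sub_distrib, Finset.sum_const, Finset.card_univ,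
    Fintype.card_fin, nsmul_eq_mul, ← Finset.mul_sum, ← Complex.re_sum, ← Finset.mul_sum,
    ← Complex.re_sum, ← Finset.mul_sum, ← e1, ← e2] at h2
  simp only [hcard] at h2
  have h3 : (ν ^ 2 * S g).re =
      ((ν ^ 2 * ((χ : G → ℂ) g * (χ : G → ℂ) g)).re + (ν ^ 2 * (χ : G → ℂ) (g * g)).re) / 2 := by
    rw [← Complex.add_re, ← mul_add]
    simp only [hS]
    rw [mul_div_assoc', Complex.div_ofNat_re]
  rw [h3] at h1
  linarith

end H15.Degree
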